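import Cfsg.Agent.S2119
import Mathlib.GroupTheory.SpecificGroups.Alternating.Simple

/-!
# Facts on `A₅ ≤ S₅` used for two-point stabilisers isomorphic to `A₅`
-/

set_option autoImplicit false

namespace Cfsg.Agent.TwoTransFour.A5

open Equiv Equiv.Perm

abbrev S5 := Equiv.Perm (Fin 5)

set_option synthInstance.maxSize 4000

set_option maxRecDepth 100000 in
theorem invol_conj : ∀ x y : alternatingGroup (Fin 5), x * x = 1 → x ≠ 1 → y * y = 1 → y ≠ 1 →
    ∃ g : alternatingGroup (Fin 5), g * x * g⁻¹ = y := by
  decide +kernel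

set_option maxRecDepth 100000 in
theorem sq_of_commute : ∀ x g : alternatingGroup (Fin 5), x * x = 1 → x ≠ 1 → g * x = x * g →
    g * g = 1 := by
  decide +kernel

set_option maxRecDepth 100000 in
theorem card_commute : ∀ x : alternatingGroup (Fin 5), x * x = 1 → x ≠ 1 →
    (Finset.univ.filter fun g : alternatingGroup (Fin 5) => g * x = x * g).card = 4 := by
  decide +kernel

set_option maxRecDepth 100000 in
theorem card_invol :
    (Finset.univ.filter fun g : alternatingGroup (Fin 5) => g * g = 1 ∧ g ≠ 1).card = 15 := by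
  decide +kernel

set_option maxRecDepth 100000 in
/-- An element of order 3 normalising the four group centralising `x` and moving each involution. -/
theorem exists_cycler : ∀ x : alternatingGroup (Fin 5), x * x = 1 → x ≠ 1 →
    ∃ t : alternatingGroup (Fin 5), t * x * t⁻¹ ≠ x ∧ t * x * t⁻¹ * x = x * (t * x * t⁻¹) ∧
      t * t * t = 1 := by
  decide +kernel

set_option maxRecDepth 100000 in
theorem odd_invol_conj : ∀ p q : S5, p * p = 1 → sign p = -1 → q * q = 1 → sign q = -1 →
    ∃ g : alternatingGroup (Fin 5), (g : S5) * p * (g : S5)⁻¹ = q := by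
  decide +kernel

set_option maxRecDepth 100000 in
theorem card_odd_invol :
    (Finset.univ.filter fun p : S5 => sign p = -1 ∧ p * p = 1).card = 10 := by
  decide +kernel

set_option maxRecDepth 100000 in
theorem card_odd_invol_commute : ∀ x : alternatingGroup (Fin 5), x * x = 1 → x ≠ 1 →
    (Finset.univ.filter fun p : S5 =>
      sign p = -1 ∧ p * p = 1 ∧ p * (x : S5) = (x : S5) * p).card = 2 := by
  decide +kernel

set_option maxRecDepth 100000 in
theorem card_odd_root : ∀ x : alternatingGroup (Fin 5), x * x = 1 → x ≠ 1 →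
    (Finset.univ.filter fun p : S5 => sign p = -1 ∧ p * p = (x : S5)).card = 2 := by
  decide +kernel

set_option maxRecDepth 100000 in
theorem no_odd_commute_four : ∀ x y : alternatingGroup (Fin 5), x * x = 1 → x ≠ 1 → y * y = 1 →
    y ≠ 1 → x ≠ y → x * y = y * x →
    ∀ p : S5, sign p = -1 → p * (x : S5) = (x : S5) * p → p * (y : S5) ≠ (y : S5) * p := by
  decide +kernel

end Cfsg.Agent.TwoTransFour.A5
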