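import Mathlib.GroupTheory.SpecificGroups.Alternating

/-!
# The involutions of `A₇`
-/

set_option autoImplicit false

namespace Cfsg.Agent.TwoTransFour.A7

set_option maxRecDepth 100000 in
set_option maxHeartbeats 0 in
theorem card_invol :
    (Finset.univ.filter fun g : alternatingGroup (Fin 7) => g * g = 1 ∧ g ≠ 1).card = 105 := by
  decide +kernel

end Cfsg.Agent.TwoTransFour.A7
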