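import Mathlib.Tactic.IntervalCases
import Mathlib.Tactic.Linarith
import Mathlib.Tactic.Ring
import Mathlib.Tactic.LinearCombination
import Mathlib.Data.Nat.GCD.Basic

/-!
# The arithmetic of the even degree case

With `x = g h = 1 + e f` and `i = f + e (f² - f)` the order equation becomes `15 + e' i = 8 x² ± 6 g x + g²`,
so `g ∣ 2 (15 + e')` and `f` is bounded; the rest is a finite check.
-/

set_option autoImplicit false

namespace Cfsg.Agent.TwoTransFour.Arith

/-- The finite check. -/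
def ok (e ep g f : ℕ) : Bool :=
  (f == 24 || f == 30 || (e == 1 && ep == 10 && g == 1 && f == 2)) ||
    (f % 2 == 1 || f < 2 || (1 + e * f) % g != 0 ||
      (15 + ep * (f + e * (f * f - f)) != 8 * ((1 + e * f) * (1 + e * f)) + 6 * g * (1 + e * f) + g * g &&
        (15 + ep * (f + e * (f * f - f)) + 6 * g * (1 + e * f) != 8 * ((1 + e * f) * (1 + e * f)) + g * g ||
          g == 1 + e * f)))

set_option maxRecDepth 100000 in
theorem check : ∀ e ∈ [1, 2], ∀ ep ∈ [1, 10, 15, 16], ∀ g ∈ List.range 32,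
    (2 * (15 + ep) % g != 0 || g % 2 == 0 || (List.range 512).all fun f => ok e ep g f) = true := by
  decide +kernel

theorem dvd_num {g h f e ep i q : ℕ} (he : e = 1 ∨ e = 2) (hgh : g * h = 1 + e * f)
    (hi : i + e * f = f + e * (f * f)) (heq : 15 + ep * i = g ^ 2 * q) : g ∣ 2 * (15 + ep) := by
  have hgh' : (g : ℤ) * h = 1 + e * f := by exact_mod_cast hgh
  have hi' : (i : ℤ) + e * f = f + e * (f * f) := by exact_mod_cast hi
  have heq' : 15 + (ep : ℤ) * i = (g : ℤ) ^ 2 * q := by exact_mod_cast heq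
  have h : (g : ℤ) ∣ 2 * (15 + ep) := by
    rcases he with rfl | rfl
    · refine ⟨2 * g * q - 2 * ep * h * ((f : ℤ) - 1), ?_⟩
      push_cast at hgh' hi'
      linear_combination 2 * heq' - 2 * (ep : ℤ) * hi' + 2 * (ep : ℤ) * ((f : ℤ) - 1) * hgh'
    · refine ⟨2 * g * q - 2 * ep * h * ((f : ℤ) - 1), ?_⟩
      push_cast at hgh' hi'
      linear_combination 2 * heq' - 2 * (ep : ℤ) * hi' + 2 * (ep : ℤ) * ((f : ℤ) - 1) * hgh'
  exact_mod_cast h

theorem bound {g f e ep : ℤ} (hg : 1 ≤ g) (hg' : g ≤ 31) (hgo : g ≠ 4) (hf : 0 ≤ f) (he : e = 1 ∨ e = 2)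
    (hep : ep = 1 ∨ ep = 10 ∨ ep = 15 ∨ ep = 16)
    (heq : 15 + ep * (f + e * (f * f - f)) = 8 * (1 + e * f) ^ 2 + 6 * g * (1 + e * f) + g ^ 2 ∨
      15 + ep * (f + e * (f * f - f)) = 8 * (1 + e * f) ^ 2 - 6 * g * (1 + e * f) + g ^ 2) :
    f < 512 := by
  have hg2 : g ^ 2 ≤ 961 := by nlinarith
  by_contra hlt
  push Not at hlt
  have h1 := mul_le_mul_of_nonneg_right hlt hf
  have h2 := mul_le_mul_of_nonneg_right hg' hf
  have h3 := mul_le_mul_of_nonneg_right hg hf
  rcases he with rfl | rfl <;> rcases hep with rfl | rfl | rfl | rfl <;> rcases heq with heq | heq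
  all_goals try (ring_nf at heq h1 h2 h3; nlinarith)
  all_goals
    rcases le_or_gt g 3 with hg3 | hg3
    · have h4 := mul_le_mul_of_nonneg_right hg3 hf
      nlinarith
    · have h4 := mul_le_mul_of_nonneg_right (show 5 ≤ g by omega) hf
      nlinarith

/-- The solutions. -/
theorem solve {g h f e ep i : ℕ} (hg : 1 ≤ g) (hf : 2 ≤ f) (hfe : f % 2 = 0) (he : e = 1 ∨ e = 2)
    (hep : ep = 1 ∨ ep = 10 ∨ ep = 15 ∨ ep = 16) (hgh : g * h = 1 + e * f)
    (hi : i + e * f = f + e * (f * f))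
    (heq : 15 + ep * i = g ^ 2 * ((4 * h + 1) * (2 * h + 1)) ∨
      2 ≤ h ∧ 15 + ep * i = g ^ 2 * ((4 * h - 1) * (2 * h - 1))) :
    (e = 1 ∧ ep = 10 ∧ g = 1 ∧ f = 2) ∨ f = 24 ∨ f = 30 := by
  have hd : g ∣ 2 * (15 + ep) := by
    rcases heq with heq | ⟨-, heq⟩ <;> exact dvd_num he hgh hi heq
  have hgodd : g % 2 = 1 := by
    rcases Nat.mod_two_eq_zero_or_one g with h0 | h0
    · exfalso
      have h' := Nat.mul_mod g h 2
      rw [h0, hgh, zero_mul] at h'
      have : e * f % 2 = 0 := by rw [Nat.mul_mod, hfe, mul_zero, Nat.zero_mod]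
      omega
    · exact h0
  have hg31 : g ≤ 31 := by
    have := Nat.le_of_dvd (by omega) hd
    obtain ⟨c, hc⟩ := hd
    rcases Nat.lt_or_ge c 2 with hc2 | hc2
    · interval_cases c <;> omega
    · have := Nat.mul_le_mul_left g hc2
      omega
  have hff : f ≤ f * f := Nat.le_mul_self f
  have hi' : i = f + e * (f * f - f) := by
    have : e * f ≤ e * (f * f) := Nat.mul_le_mul_left e hff
    rw [Nat.mul_sub]; omega
  have heq2 : 15 + ep * i = 8 * ((1 + e * f) * (1 + e * f)) + 6 * g * (1 + e * f) + g * g ∨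
      (15 + ep * i + 6 * g * (1 + e * f) = 8 * ((1 + e * f) * (1 + e * f)) + g * g ∧ g ≠ 1 + e * f) := by
    rcases heq with heq | ⟨h2, heq⟩
    · left; rw [heq, ← hgh]; ring
    · right
      obtain ⟨k, rfl⟩ : ∃ k, h = k + 1 := ⟨h - 1, by omega⟩
      rw [show 4 * (k + 1) - 1 = 4 * k + 3 by omega, show 2 * (k + 1) - 1 = 2 * k + 1 by omega] at heq
      refine ⟨by rw [heq, ← hgh]; ring, fun e' => ?_⟩
      rw [← hgh] at e'
      have := Nat.eq_of_mul_eq_mul_left hg ((mul_one g).trans e')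
      omega
  have hb : f < 512 := by
    have := bound (g := (g : ℤ)) (f := (f : ℤ)) (e := (e : ℤ)) (ep := (ep : ℤ)) (by omega) (by omega)
      (by omega) (by omega) (by omega) (by omega) (by
        have hiZ : (i : ℤ) = f + e * ((f : ℤ) * f - f) := by
          rw [hi']; push_cast [Nat.cast_sub hff]; ring
        rw [← hiZ]
        rcases heq2 with h | ⟨h, -⟩
        · left
          have h' := congrArg (Nat.cast : ℕ → ℤ) h
          push_cast at h'
          linear_combination h'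
        · right
          have h' := congrArg (Nat.cast : ℕ → ℤ) h
          push_cast at h'
          linear_combination h')
    exact_mod_cast this
  have hc := check e (by rcases he with rfl | rfl <;> simp) ep
    (by rcases hep with rfl | rfl | rfl | rfl <;> simp) g (List.mem_range.2 (by omega))
  simp only [Bool.or_eq_true, bne_iff_ne, beq_iff_eq, List.all_eq_true, List.mem_range] at hc
  rcases hc with (h0 | h0) | hall
  · exact absurd (Nat.mod_eq_zero_of_dvd hd) h0
  · omega
  have hok := hall f hb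
  simp only [ok, Bool.or_eq_true, Bool.and_eq_true, bne_iff_ne, beq_iff_eq, decide_eq_true_eq] at hok
  rw [← hi'] at hok
  rcases hok with h24 | hbad
  · rcases h24 with (h | h) | ⟨⟨⟨a, b⟩, c⟩, d⟩
    exacts [Or.inr (Or.inl h), Or.inr (Or.inr h), Or.inl ⟨a, b, c, d⟩]
  · exfalso
    rcases hbad with ((hb1 | hb1) | hb1) | ⟨hb1, hb2⟩
    · omega
    · omega
    · exact hb1 (Nat.mod_eq_zero_of_dvd (Dvd.intro h hgh))
    · rcases heq2 with h | ⟨h, hne⟩
      · exact hb1 h
      · exact hb2.elim (fun h' => h' h) hne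

end Cfsg.Agent.TwoTransFour.Arith
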