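import Cfsg.Agent.Lib.Perm.Transitive
import Mathlib.Combinatorics.Enumerative.DoubleCounting

/-!
# Counting along a group transitive on ordered pairs of a finite set of points
-/

set_option autoImplicit false
set_option linter.unusedSectionVars false

namespace Cfsg.Agent.TwoTransFour

open MulAction Finset

/-- Orders along the fibres of a map constant exactly on the left cosets of a subgroup. -/
theorem card_fibre {G : Type*} [Group G] [Finite G] {β : Type*} (M K : Subgroup G) (φ : G → β)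
    (P : Finset β) (hP : ∀ g ∈ M, φ g ∈ P) (hsur : ∀ p ∈ P, ∃ g ∈ M, φ g = p) (hK : K ≤ M)
    (hfib : ∀ g ∈ M, ∀ g' ∈ M, (φ g = φ g' ↔ g⁻¹ * g' ∈ K)) :
    Nat.card M = P.card * Nat.card K := by
  classical
  rw [← Nat.card_eq_finsetCard P, ← Nat.card_prod]
  let γ : P → G := fun p => (hsur p.1 p.2).choose
  have hγM : ∀ p, γ p ∈ M := fun p => (hsur p.1 p.2).choose_spec.1
  have hγ : ∀ p, φ (γ p) = p.1 := fun p => (hsur p.1 p.2).choose_spec.2
  refine (Nat.card_eq_of_bijective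
    (fun q : P × K => (⟨γ q.1 * q.2, mul_mem (hγM _) (hK q.2.2)⟩ : M)) ⟨?_, ?_⟩).symm
  · rintro ⟨p, k⟩ ⟨p', k'⟩ e
    have e' : γ p * k = γ p' * k' := congrArg Subtype.val e
    have hp : p = p' := Subtype.ext (by
      rw [← hγ p, ← hγ p', hfib _ (hγM _) _ (hγM _),
        show (γ p)⁻¹ * γ p' = (k : G) * (k' : G)⁻¹ by
          rw [eq_mul_inv_iff_mul_eq, mul_assoc, ← e', inv_mul_cancel_left]]
      exact mul_mem k.2 (inv_mem k'.2))
    subst hp
    rw [Subtype.ext (mul_left_cancel e' : (k : G) = k')]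
  · rintro ⟨g, hg⟩
    have h := (hfib _ (hγM ⟨φ g, hP g hg⟩) g hg).1 (hγ ⟨φ g, hP g hg⟩)
    exact ⟨(⟨φ g, hP g hg⟩, ⟨_, h⟩), Subtype.ext (mul_inv_cancel_left _ _)⟩

variable {G Ω : Type*} [Group G] [Finite G] [MulAction G Ω] [DecidableEq Ω]

/-- The order of a subgroup transitive on the ordered pairs of an invariant set. -/
theorem card_of_pairs (M : Subgroup G) (S : Finset Ω) {a b : Ω} (ha : a ∈ S) (hb : b ∈ S)
    (hab : a ≠ b) (hinv : ∀ g ∈ M, ∀ x ∈ S, g • x ∈ S)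
    (htr : ∀ c ∈ S, ∀ d ∈ S, c ≠ d → ∃ g ∈ M, g • a = c ∧ g • b = d) :
    Nat.card M = S.card * (S.card - 1) * Nat.card ↥(M ⊓ (stabilizer G a ⊓ stabilizer G b)) := by
  rw [Nat.mul_sub_one, ← offDiag_card]
  refine card_fibre M _ (fun g => (g • a, g • b)) S.offDiag (fun g hg => ?_) (fun p hp => ?_)
    inf_le_left (fun g hg g' hg' => ?_)
  · exact mem_offDiag.2 ⟨hinv g hg a ha, hinv g hg b hb, fun e => hab (MulAction.injective g e)⟩
  · obtain ⟨hc, hd, hne⟩ := mem_offDiag.1 hp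
    obtain ⟨g, hg, h1, h2⟩ := htr _ hc _ hd hne
    exact ⟨g, hg, Prod.ext h1 h2⟩
  · rw [Prod.ext_iff, Subgroup.mem_inf, Subgroup.mem_inf, mem_stabilizer_iff, mem_stabilizer_iff,
      mul_smul, mul_smul, inv_smul_eq_iff, inv_smul_eq_iff]
    exact ⟨fun h => ⟨mul_mem (inv_mem hg) hg', h.1.symm, h.2.symm⟩, fun h => ⟨h.2.1.symm, h.2.2.symm⟩⟩

/-- The stabiliser of a point in such a subgroup. -/
theorem card_stab_of_pairs (M : Subgroup G) (S : Finset Ω) {a b : Ω} (ha : a ∈ S) (hb : b ∈ S)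
    (hab : a ≠ b) (hinv : ∀ g ∈ M, ∀ x ∈ S, g • x ∈ S)
    (htr : ∀ c ∈ S, ∀ d ∈ S, c ≠ d → ∃ g ∈ M, g • a = c ∧ g • b = d) :
    Nat.card ↥(M ⊓ stabilizer G a) =
      (S.card - 1) * Nat.card ↥(M ⊓ (stabilizer G a ⊓ stabilizer G b)) := by
  rw [← card_erase_of_mem ha]
  refine card_fibre _ _ (fun g => g • b) (S.erase a) (fun g hg => ?_) (fun c hc => ?_)
    (le_inf inf_le_left (inf_le_right.trans inf_le_left)) (fun g hg g' hg' => ?_)
  · obtain ⟨h1, h2⟩ := Subgroup.mem_inf.1 hg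
    exact mem_erase.2 ⟨fun e => hab (MulAction.injective g ((mem_stabilizer_iff.1 h2).trans e.symm)),
      hinv g h1 b hb⟩
  · obtain ⟨hca, hc⟩ := mem_erase.1 hc
    obtain ⟨g, hg, h1, h2⟩ := htr a ha c hc hca.symm
    exact ⟨g, Subgroup.mem_inf.2 ⟨hg, mem_stabilizer_iff.2 h1⟩, h2⟩
  · obtain ⟨h1, h2⟩ := Subgroup.mem_inf.1 hg
    obtain ⟨h1', h2'⟩ := Subgroup.mem_inf.1 hg'
    rw [Subgroup.mem_inf, Subgroup.mem_inf, mem_stabilizer_iff, mem_stabilizer_iff,
      mul_smul, mul_smul, inv_smul_eq_iff, inv_smul_eq_iff]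
    exact ⟨fun h => ⟨mul_mem (inv_mem h1) h1', (mem_stabilizer_iff.1 h2').trans (mem_stabilizer_iff.1 h2).symm,
      h.symm⟩, fun h => h.2.2.symm⟩

/-- Double counting of an invariant relation between elements and ordered pairs. -/
theorem double_count (M : Subgroup G) (T : Finset G) (S : Finset Ω) {a b : Ω}
    (r : G → Ω → Ω → Prop) [∀ t c d, Decidable (r t c d)]
    (hr : ∀ g t c d, r t c d → r (g * t * g⁻¹) (g • c) (g • d))
    (htr : ∀ c ∈ S, ∀ d ∈ S, c ≠ d → ∃ g ∈ M, g • a = c ∧ g • b = d)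
    (hT : ∀ g ∈ M, ∀ t ∈ T, g * t * g⁻¹ ∈ T) {m : ℕ}
    (hm : ∀ t ∈ T, (S.offDiag.filter fun p => r t p.1 p.2).card = m) :
    T.card * m = S.card * (S.card - 1) * (T.filter fun t => r t a b).card := by
  rw [Nat.mul_sub_one, ← offDiag_card]
  refine card_mul_eq_card_mul (fun t p => r t p.1 p.2) (by simpa [bipartiteAbove] using hm) ?_
  intro p hp
  obtain ⟨hc, hd, hne⟩ := mem_offDiag.1 hp
  obtain ⟨g, hg, h1, h2⟩ := htr _ hc _ hd hne
  simp only [bipartiteBelow]
  symm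
  refine card_bij (fun t _ => g * t * g⁻¹) (fun t ht => ?_) (fun t _ t' _ e => ?_) (fun u hu => ?_)
  · rw [mem_filter] at ht ⊢
    exact ⟨hT g hg t ht.1, h1 ▸ h2 ▸ hr g t a b ht.2⟩
  · exact mul_left_cancel (mul_right_cancel e)
  · rw [mem_filter] at hu
    refine ⟨g⁻¹ * u * g, mem_filter.2 ⟨?_, ?_⟩, by group⟩
    · simpa using hT g⁻¹ (inv_mem hg) u hu.1
    · have := hr g⁻¹ u _ _ hu.2
      rwa [inv_inv, ← h1, ← h2, inv_smul_smul, inv_smul_smul] at this

/-- The pairs swapped by an element that is an involution on `S`. -/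
theorem card_swapped (S : Finset Ω) (t : G) (hmap : ∀ x ∈ S, t • x ∈ S)
    (hsq : ∀ x ∈ S, t • t • x = x) :
    (S.offDiag.filter fun p => t • p.1 = p.2 ∧ t • p.2 = p.1).card + (S.filter fun x => t • x = x).card =
      S.card := by
  have hS := card_filter_add_card_filter_not (s := S) (fun x => t • x = x)
  rw [add_comm, ← hS]
  congr 1
  refine card_bij (fun p _ => p.1) (fun p hp => ?_) (fun p hp p' hp' e => ?_) (fun x hx => ?_)
  · simp only [mem_filter, mem_offDiag] at hp ⊢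
    exact ⟨hp.1.1, fun e => hp.1.2.2 (e.symm.trans hp.2.1)⟩
  · simp only [mem_filter, mem_offDiag] at hp hp'
    exact Prod.ext e (by rw [← hp.2.1, ← hp'.2.1, e])
  · simp only [mem_filter, mem_offDiag] at hx ⊢
    exact ⟨(x, t • x), ⟨⟨hx.1, hmap x hx.1, Ne.symm hx.2⟩, rfl, hsq x hx.1⟩, rfl⟩

/-- The ordered pairs fixed by an element. -/
theorem card_fixed_pairs (S : Finset Ω) (t : G) :
    (S.offDiag.filter fun p => t • p.1 = p.1 ∧ t • p.2 = p.2).card =
      (S.filter fun x => t • x = x).card * ((S.filter fun x => t • x = x).card - 1) := by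
  rw [Nat.mul_sub_one, ← offDiag_card]
  congr 1
  ext p
  simp only [mem_filter, mem_offDiag]
  tauto

/-- For involutions with exactly one fixed point on `S` the number fixing a point equals the number
swapping a pair. -/
theorem card_fix_eq_card_swap (M : Subgroup G) (T : Finset G) (S : Finset Ω) {a b : Ω} (ha : a ∈ S)
    (hb : b ∈ S) (hab : a ≠ b) (htr : ∀ c ∈ S, ∀ d ∈ S, c ≠ d → ∃ g ∈ M, g • a = c ∧ g • b = d)
    (hT : ∀ g ∈ M, ∀ t ∈ T, g * t * g⁻¹ ∈ T) (hmap : ∀ t ∈ T, ∀ x ∈ S, t • x ∈ S)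
    (hsq : ∀ t ∈ T, ∀ x ∈ S, t • t • x = x)
    (hone : ∀ t ∈ T, (S.filter fun x => t • x = x).card = 1) :
    (T.filter fun t => t • a = a).card = (T.filter fun t => t • a = b ∧ t • b = a).card := by
  have h2 : 2 ≤ S.card := one_lt_card.2 ⟨a, ha, b, hb, hab⟩
  have e1 := double_count M T S (fun t c d => t • c = d ∧ t • d = c)
    (fun g t c d h => by simp [mul_smul, h.1, h.2]) htr hT (m := S.card - 1) (fun t ht => by
      have := card_swapped S t (hmap t ht) (hsq t ht)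
      have := hone t ht
      omega)
  have e2 := double_count M T S (fun t c _ => t • c = c) (fun g t c _ h => by simp [mul_smul, h]) htr hT
    (m := S.card - 1) (fun t ht => by
      obtain ⟨x, hx⟩ := card_eq_one.1 (hone t ht)
      have hxS : x ∈ S.filter (fun x => t • x = x) := by rw [hx]; exact mem_singleton_self x
      rw [← card_erase_of_mem (mem_filter.1 hxS).1]
      refine card_bij (fun p _ => p.2) (fun p hp => ?_) (fun p hp p' hp' e => ?_) (fun y hy => ?_)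
      · simp only [mem_filter, mem_offDiag] at hp
        have : p.1 ∈ S.filter (fun x => t • x = x) := mem_filter.2 ⟨hp.1.1, hp.2⟩
        rw [hx, mem_singleton] at this
        exact mem_erase.2 ⟨fun e => hp.1.2.2 (this.trans e.symm), hp.1.2.1⟩
      · simp only [mem_filter, mem_offDiag] at hp hp'
        have h1 : p.1 ∈ S.filter (fun x => t • x = x) := mem_filter.2 ⟨hp.1.1, hp.2⟩
        have h1' : p'.1 ∈ S.filter (fun x => t • x = x) := mem_filter.2 ⟨hp'.1.1, hp'.2⟩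
        rw [hx, mem_singleton] at h1 h1'
        exact Prod.ext (h1.trans h1'.symm) e
      · obtain ⟨hy1, hy2⟩ := mem_erase.1 hy
        exact ⟨(x, y), mem_filter.2 ⟨mem_offDiag.2 ⟨(mem_filter.1 hxS).1, hy2, Ne.symm hy1⟩,
          (mem_filter.1 hxS).2⟩, rfl⟩)
  have hS0 : 0 < S.card * (S.card - 1) := Nat.mul_pos (by omega) (by omega)
  exact Nat.eq_of_mul_eq_mul_left hS0 (e2.symm.trans e1)

end Cfsg.Agent.TwoTransFour
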