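import Cfsg.Agent.Lib.GW.CompCent
import Cfsg.Agent.Lib.GW.Assembly
import Cfsg.Agent.Lib.GW.PartII.PartTwoFinal
import Cfsg.Agent.Lib.PSL2.Classes
import Cfsg.Agent.Lib.PCore.HallHigman
import Cfsg.Agent.Lib.Perm.FourGroupFormula
import Cfsg.Agent.Lib.CharInt.Burnside

/-!
# Nonsolvable groups with a four group as Sylow 2-subgroup

Modulo the odd core such a group is an odd extension of `PSL(2, q)`, `q ≡ 3, 5 (mod 8)`; this gives the
index and the order of the centraliser of an involution (Gorenstein-Walter and the Brauer-Wielandt formula).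
-/

set_option autoImplicit false
set_option linter.style.haveILetI false

namespace Cfsg.Agent.TwoTransFour

open Subgroup
open scoped MatrixGroups

universe u

/-- The order of a centraliser in a subgroup. -/
theorem card_centralizer_inf {Y : Type u} [Group Y] {L : Subgroup Y} (x : L) :
    Nat.card (centralizer ({x} : Set L)) = Nat.card ↥(L ⊓ centralizer ({(x : Y)} : Set Y)) := by
  refine Nat.card_congr
    { toFun := fun g => ⟨g.1.1, mem_inf.2 ⟨g.1.2, mem_centralizer_singleton_iff.2
        (congrArg Subtype.val (mem_centralizer_singleton_iff.1 g.2))⟩⟩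
      invFun := fun g => ⟨⟨g.1, (mem_inf.1 g.2).1⟩, mem_centralizer_singleton_iff.2
        (Subtype.ext (mem_centralizer_singleton_iff.1 (mem_inf.1 g.2).2))⟩
      left_inv := fun g => rfl
      right_inv := fun g => rfl }

/-- Centralisers correspond under isomorphisms. -/
theorem card_centralizer_equiv {Y : Type u} [Group Y] {Z : Type*} [Group Z] (e : Y ≃* Z) (x : Y) :
    Nat.card (centralizer ({x} : Set Y)) = Nat.card (centralizer ({e x} : Set Z)) := by
  refine Nat.card_congr
    { toFun := fun g => ⟨e g.1, mem_centralizer_singleton_iff.2 ?_⟩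
      invFun := fun g => ⟨e.symm g.1, mem_centralizer_singleton_iff.2 ?_⟩
      left_inv := fun g => by ext; simp
      right_inv := fun g => by ext; simp }
  · rw [← map_mul, mem_centralizer_singleton_iff.1 g.2, map_mul]
  · have h := congrArg e.symm (mem_centralizer_singleton_iff.1 g.2)
    simpa using h

/-- In a dihedral group an element commuting with a reflection is an involution or trivial. -/
theorem dihedral_sq_of_commute_sr {m : ℕ} {i : ZMod m} {c : DihedralGroup m}
    (h : c * DihedralGroup.sr i = DihedralGroup.sr i * c) : c * c = 1 := by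
  rcases c with a | a
  · rw [DihedralGroup.r_mul_sr, DihedralGroup.sr_mul_r, DihedralGroup.sr.injEq] at h
    rw [DihedralGroup.r_mul_r, DihedralGroup.one_def, DihedralGroup.r.injEq]
    linear_combination -h
  · rw [DihedralGroup.sr_mul_self]

/-- In a dihedral group of order `2m`, what centralises two distinct commuting involutions has
exponent 2. -/
theorem dihedral_sq_of_commute {m : ℕ} [NeZero m] {a b c : DihedralGroup m} (ha : a * a = 1)
    (hb : b * b = 1) (hab : a ≠ b) (ha1 : a ≠ 1) (hb1 : b ≠ 1) (hca : c * a = a * c)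
    (hcb : c * b = b * c) : c * c = 1 := by
  rcases a with x | x
  · rcases b with y | y
    · exfalso
      rw [DihedralGroup.r_mul_r, DihedralGroup.one_def, DihedralGroup.r.injEq] at ha hb
      rcases DihedralSylow.eq_zero_or_half ha with h | h
      · exact ha1 (by rw [h]; rfl)
      rcases DihedralSylow.eq_zero_or_half hb with h' | h'
      · exact hb1 (by rw [h']; rfl)
      exact hab (by rw [h, h'])
    · exact dihedral_sq_of_commute_sr hcb
  · exact dihedral_sq_of_commute_sr hca

variable {Y : Type u} [Group Y] [Finite Y]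

/-- **Four-group Sylow 2-subgroups**: index and order of the centraliser of an involution. -/
theorem four_sylow (V : Subgroup Y) [hV : IsKleinFour V] (h8 : ¬ 8 ∣ Nat.card Y)
    (hns : ¬ Group.IsSolvable Y) {z : Y} (hz : z ∈ V) (hz1 : z ≠ 1) :
    ∃ g h : ℕ, 1 ≤ g ∧ 1 ≤ h ∧
      ((centralizer ({z} : Set Y)).index = g ^ 2 * ((4 * h + 1) * (2 * h + 1)) ∨
        2 ≤ h ∧ (centralizer ({z} : Set Y)).index = g ^ 2 * ((4 * h - 1) * (2 * h - 1))) ∧
      Nat.card (centralizer ({z} : Set Y)) = g * h * Nat.card (centralizer (V : Set Y)) ∧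
      (g = 1 → Nat.card (centralizer (V : Set Y)) = 4 → IsSimpleGroup Y) := by
  classical
  haveI : Fact (Nat.Prime 2) := ⟨Nat.prime_two⟩
  have hV4 : Nat.card V = 4 := hV.card_four
  have hVsq : ∀ v ∈ V, v * v = 1 := fun v hv =>
    congrArg Subtype.val (hV.mul_self (⟨v, hv⟩ : V))
  have hV2 : IsPGroup 2 V := IsPGroup.of_card (n := 2) (by rw [hV4]; norm_num)
  -- `V` is a Sylow subgroup
  have hSylCard : ∀ {X : Type u} [Group X] [Finite X], Nat.card X ∣ Nat.card Y →
      ∀ (W : Subgroup X), Nat.card W = 4 → ∃ S : Sylow 2 X, (S : Subgroup X) = W := by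
    intro X _ _ hdvd W hW
    obtain ⟨S, hS⟩ := (IsPGroup.of_card (p := 2) (n := 2) (G := W) (by rw [hW]; norm_num)).exists_le_sylow
    refine ⟨S, (eq_of_le_of_card_ge hS ?_).symm⟩
    obtain ⟨k, hk⟩ := IsPGroup.iff_card.1 S.2
    rw [hk, hW]
    by_contra hlt
    have hk3 : 3 ≤ k := by
      by_contra h
      interval_cases k <;> simp at hlt
    exact h8 ((show 8 ∣ 2 ^ k from (show (8 : ℕ) = 2 ^ 3 from rfl) ▸ pow_dvd_pow 2 hk3).trans
      (hk ▸ (S : Subgroup X).card_subgroup_dvd_card.trans hdvd))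
  obtain ⟨S, hS⟩ := hSylCard dvd_rfl V hV4
  obtain ⟨eV⟩ : Nonempty (V ≃* DihedralGroup 2) := IsKleinFour.nonempty_mulEquiv
  have hd : GW.SubDihedral Y :=
    GW.subDihedral_of_sylow S le_rfl ((MulEquiv.subgroupCongr hS).trans eV)
  have hk : GW.KnownSections Y := GW.knownSections GW.partTwo
  -- the odd core
  set O := Cfsg.oddCore Y with hOdef
  have hOodd : Odd (Nat.card O) := PCore.odd_card_oddCore
  set π := QuotientGroup.mk' O with hπ
  have hπs : Function.Surjective π := QuotientGroup.mk'_surjective O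
  have hVO : ∀ v ∈ V, v ∈ O → v = 1 := by
    intro v hv hvO
    by_contra hv1
    have h2 : orderOf v = 2 := orderOf_eq_prime (by rw [pow_two]; exact hVsq v hv) hv1
    have := Subgroup.orderOf_dvd_natCard _ hvO
    rw [h2] at this
    exact Nat.not_even_iff_odd.2 hOodd (even_iff_two_dvd.2 this)
  set V' := V.map π with hV'def
  have hπinj : Function.Injective (π.comp V.subtype) := by
    rw [injective_iff_map_eq_one]
    intro v hv
    exact Subtype.ext (hVO v v.2 ((QuotientGroup.eq_one_iff (v : Y)).1 hv))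
  have hV'4 : Nat.card V' = 4 := by
    rw [hV'def, ← hV4]
    refine (Nat.card_congr (Equiv.ofBijective (fun v : V => (⟨π v, mem_map_of_mem _ v.2⟩ : V.map π))
      ⟨fun a b hab => hπinj (congrArg Subtype.val hab), ?_⟩)).symm
    rintro ⟨_, v, hv, rfl⟩
    exact ⟨⟨v, hv⟩, rfl⟩
  have hdvdQ : Nat.card (Y ⧸ O) ∣ Nat.card Y := Subgroup.card_quotient_dvd_card _
  set z' := π z with hz'def
  have hz'V : z' ∈ V' := mem_map_of_mem _ hz
  have hz'1 : z' ≠ 1 := fun h => hz1 (hVO z hz ((QuotientGroup.eq_one_iff z).1 h))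
  have hV'sq : ∀ v ∈ V', v * v = 1 := by
    rintro _ ⟨v, hv, rfl⟩
    rw [← map_mul, hVsq v hv, map_one]
  -- the simple normal subgroup
  have hsolv : ∀ m : ℕ, Nat.card (Y ⧸ O) = m → (m = 12 ∨ m = 24 ∨ ∃ k, m = 2 ^ k) → False := by
    intro m hm hcase
    have hQ : Group.IsSolvable (Y ⧸ O) := by
      rcases hcase with h | h | ⟨k, h⟩
      · exact CharInt.isSolvable_of_card_eq (a := 2) (b := 1) Nat.prime_two Nat.prime_three
          (by rw [hm, h]; rfl)
      · exact CharInt.isSolvable_of_card_eq (a := 3) (b := 1) Nat.prime_two Nat.prime_three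
          (by rw [hm, h]; rfl)
      · haveI := (IsPGroup.of_card (p := 2) (n := k) (hm.trans h)).isNilpotent
        infer_instance
    haveI := hQ
    haveI : Group.IsSolvable O := Cfsg.Agent.S0205.result hOodd
    exact hns (Group.isSolvable_of_ker_le_range O.subtype (QuotientGroup.mk' O) (by simp))
  obtain ⟨L, hLn, hLs, hLk, -⟩ : ∃ E : Subgroup (Y ⧸ O), E.Normal ∧ IsSimpleGroup E ∧ GW.IsKnown E ∧
      centralizer (E : Set (Y ⧸ O)) = ⊥ := by
    rcases GW.structure_mod_oddCore hd hk with h | ⟨⟨e⟩⟩ | ⟨⟨e⟩⟩ | h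
    · obtain ⟨k, hk'⟩ := IsPGroup.iff_card.1 h
      exact (hsolv _ hk' (Or.inr (Or.inr ⟨k, rfl⟩))).elim
    · refine (hsolv 12 ?_ (Or.inl rfl)).elim
      rw [Nat.card_congr e.toEquiv, nat_card_alternatingGroup, Nat.card_fin]; rfl
    · refine (hsolv 24 ?_ (Or.inr (Or.inl rfl))).elim
      rw [Nat.card_congr e.toEquiv, Nat.card_perm, Nat.card_fin]; rfl
    · exact h
  haveI := hLn
  haveI := hLs
  have hLdvd : Nat.card L ∣ Nat.card Y := L.card_subgroup_dvd_card.trans hdvdQ
  obtain ⟨F, iF, iF', hodd, h3, ⟨eL⟩⟩ : ∃ (F : Type) (_ : Field F) (_ : Fintype F),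
      Odd (Fintype.card F) ∧ 3 < Fintype.card F ∧
      Nonempty (L ≃* Matrix.ProjectiveSpecialLinearGroup (Fin 2) F) := by
    rcases hLk with h | ⟨⟨e⟩⟩
    · exact h
    · refine absurd (Dvd.dvd.trans ?_ hLdvd) h8
      rw [Nat.card_congr e.toEquiv, nat_card_alternatingGroup, Nat.card_fin]
      decide
  have h2F : (2 : F) ≠ 0 := PSL2.odd_card_iff.1 hodd
  -- `V' ≤ L`
  have hLna : ¬ IsMulCommutative L := hLk.not_comm
  have hLeven : 2 ∣ Nat.card L := hLk.even_card
  have hdQ : GW.SubDihedral (Y ⧸ O) := hd.quotient_oddCore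
  have hV'L : V' ≤ L := by
    obtain ⟨R⟩ : Nonempty (Sylow 2 L) := inferInstance
    have hRnc : ¬ IsCyclic (R : Subgroup L) := fun hc =>
      GW.not_complement_of_simple hLna hLeven (GW.hasNormalPComplement_of_cyclic_two R hc)
    obtain ⟨k, hk'⟩ := IsPGroup.iff_card.1 R.2
    have hk2 : k = 2 := by
      have h1 : 2 ≤ k := by
        by_contra hlt
        refine hRnc ?_
        interval_cases k
        · haveI : Subsingleton (R : Subgroup L) := (Nat.card_eq_one_iff_unique.1 (by simpa using hk')).1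
          infer_instance
        · exact isCyclic_of_prime_card (p := 2) (by simpa using hk')
      have h2' : k ≤ 2 := by
        by_contra hlt
        exact h8 ((show 8 ∣ 2 ^ k from (show (8 : ℕ) = 2 ^ 3 from rfl) ▸ pow_dvd_pow 2 (by omega)).trans
          (hk' ▸ (R : Subgroup L).card_subgroup_dvd_card.trans hLdvd))
      omega
    subst hk2
    obtain ⟨S', hS'⟩ := hSylCard hdvdQ V' hV'4
    obtain ⟨R', hR'⟩ := hSylCard hdvdQ ((R : Subgroup L).map L.subtype)
      (by rw [card_map_of_injective L.subtype_injective, hk']; norm_num)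
    obtain ⟨g, hg⟩ := MulAction.exists_smul_eq (Y ⧸ O) R' S'
    intro v hv
    rw [← hS', ← hg, Sylow.coe_subgroup_smul, hR', Subgroup.mem_pointwise_smul_iff_inv_smul_mem] at hv
    obtain ⟨l, -, hl⟩ := hv
    have := hLn.conj_mem _ l.2 g
    rw [show L.subtype l = (l : Y ⧸ O) from rfl] at hl
    rw [hl] at this
    simpa [MulAut.smul_def, mul_assoc] using this
  have hz'L : z' ∈ L := hV'L hz'V
  set C' := centralizer ({z'} : Set (Y ⧸ O)) with hC'
  set CL := L ⊓ C' with hCL
  have hV'C : V' ≤ C' := fun v hv => mem_centralizer_singleton_iff.2 (by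
    have hm := hV'sq _ (mul_mem hv hz'V)
    have h1 := hV'sq v hv
    have h2 := hV'sq _ hz'V
    calc v * z' = (v * z')⁻¹ := (inv_eq_of_mul_eq_one_right hm).symm
      _ = z'⁻¹ * v⁻¹ := mul_inv_rev _ _
      _ = z' * v := by rw [inv_eq_of_mul_eq_one_right h1, inv_eq_of_mul_eq_one_right h2])
  have hV'CL : V' ≤ CL := le_inf hV'L hV'C
  -- the centraliser of `z'` in `L`
  set x : L := ⟨z', hz'L⟩ with hx
  have hxo : orderOf x = 2 := orderOf_eq_prime
    (Subtype.ext (by rw [Subgroup.coe_pow, pow_two]; exact hV'sq _ hz'V))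
    (fun h => hz'1 (congrArg Subtype.val h))
  have hxo' : orderOf (eL x) = 2 := by rw [MulEquiv.orderOf_eq, hxo]
  set q := Fintype.card F with hq
  obtain ⟨hm1, hm3⟩ := PSL2.card_centralizer_involution h2F hxo'
  have hCLcard : Nat.card CL = Nat.card (centralizer ({eL x} : Set PSL(2, F))) := by
    rw [← card_centralizer_equiv eL x, card_centralizer_inf x]
  have hCL4 : 4 ∣ Nat.card CL := hV'4 ▸ card_dvd_of_le hV'CL
  obtain ⟨h, hh⟩ := hCL4
  have hqodd : q % 4 = 1 ∨ q % 4 = 3 := by
    obtain ⟨k, hk'⟩ := hodd; omega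
  have hLcard : 2 * Nat.card L = q * (q ^ 2 - 1) := by
    rw [Nat.card_congr eL.toEquiv]; exact PSL2.two_mul_card_PSL h2F
  -- `Y ⧸ O = L C'`
  have hconjL : ∀ g : Y ⧸ O, ∃ l ∈ L, l⁻¹ * g ∈ C' := by
    intro g
    have hg : g * z' * g⁻¹ ∈ L := hLn.conj_mem _ hz'L g
    have ho : orderOf (⟨g * z' * g⁻¹, hg⟩ : L) = 2 := orderOf_eq_prime
      (Subtype.ext (by
        show (g * z' * g⁻¹) ^ 2 = 1
        rw [pow_two, show g * z' * g⁻¹ * (g * z' * g⁻¹) = g * (z' * z') * g⁻¹ by group,
          hV'sq _ hz'V]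
        group))
      (fun h => hz'1 (conj_eq_one_iff.1 (congrArg Subtype.val h)))
    obtain ⟨l, hl⟩ := isConj_iff.1
      (GW.isConj_invol_of_simple (hdQ.subgroup L) hLna hLeven hxo ho)
    refine ⟨l, l.2, mem_centralizer_singleton_iff.2 ?_⟩
    have hl' : (l : Y ⧸ O) * z' * (l : Y ⧸ O)⁻¹ = g * z' * g⁻¹ := congrArg Subtype.val hl
    calc (l : Y ⧸ O)⁻¹ * g * z' = (l : Y ⧸ O)⁻¹ * (g * z' * g⁻¹) * g := by group
      _ = (l : Y ⧸ O)⁻¹ * ((l : Y ⧸ O) * z' * (l : Y ⧸ O)⁻¹) * g := by rw [hl']
      _ = z' * ((l : Y ⧸ O)⁻¹ * g) := by group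
  have hsup : L ⊔ C' = ⊤ := eq_top_iff.2 fun g _ => by
    obtain ⟨l, hl, hlg⟩ := hconjL g
    rw [← mul_inv_cancel_left l g]
    exact mul_mem (mem_sup_left hl) (mem_sup_right hlg)
  have hLindex : L.index = L.relIndex C' := by
    rw [← relIndex_top_right, ← hsup, relIndex_sup_left]
  have hcardQ : Nat.card (Y ⧸ O) * Nat.card CL = Nat.card L * Nat.card C' := by
    have h1 := L.card_mul_index
    have h2 : Nat.card CL * L.relIndex C' = Nat.card C' := by
      have h3 := (L.subgroupOf C').card_mul_index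
      rw [Subgroup.relIndex]
      rw [← h3, ← card_map_of_injective C'.subtype_injective (K := L.subgroupOf C'),
        subgroupOf_map_subtype]
    rw [← h1, hLindex, ← h2]
    ring
  -- `C' = CL C(V')`
  set D' := centralizer (V' : Set (Y ⧸ O)) with hD'
  have hD'C : D' ≤ C' := fun g hg => mem_centralizer_singleton_iff.2
    ((mem_centralizer_iff.1 hg z' hz'V).symm)
  have hDL : Nat.card ↥(CL ⊓ D') = 4 := by
    have hV'D : V' ≤ D' := fun v hv => mem_centralizer_iff.2 fun w hw => by
      have hm := hV'sq _ (mul_mem hw hv)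
      calc w * v = (w * v)⁻¹ := (inv_eq_of_mul_eq_one_right hm).symm
        _ = v⁻¹ * w⁻¹ := mul_inv_rev _ _
        _ = v * w := by
          rw [inv_eq_of_mul_eq_one_right (hV'sq v hv), inv_eq_of_mul_eq_one_right (hV'sq w hw)]
    have hsq : ∀ c ∈ CL ⊓ D', c * c = 1 := by
      intro c hc
      obtain ⟨n, -, ⟨eD⟩⟩ := PSL2.dihedral_centralizer_involution h2F hxo'
      obtain ⟨v, hv, hv1, hvz⟩ : ∃ v ∈ V', v ≠ 1 ∧ v ≠ z' := by
        by_contra hno
        push Not at hno
        have hle : V' ≤ zpowers z' := fun v hv => by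
          by_cases hv1 : v = 1
          · exact hv1 ▸ one_mem _
          · exact (hno v hv hv1) ▸ mem_zpowers _
        have := Nat.le_of_dvd Nat.card_pos (card_dvd_of_le hle)
        rw [hV'4, Nat.card_zpowers, orderOf_eq_prime (p := 2) (by rw [pow_two]; exact hV'sq _ hz'V) hz'1]
          at this
        omega
      haveI : NeZero n := ⟨fun hn0 => by
        subst hn0
        haveI : Infinite (DihedralGroup 0) := Infinite.of_injective DihedralGroup.r (fun a b hab => by
          simpa using hab)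
        exact not_finite_iff_infinite.2 inferInstance (Finite.of_equiv _ eD.toEquiv)⟩
      let φ : CL → DihedralGroup n := fun g => eD ⟨eL ⟨g.1, (mem_inf.1 g.2).1⟩,
        mem_centralizer_singleton_iff.2 (by
          rw [← map_mul, ← map_mul]
          exact congrArg eL (Subtype.ext (mem_centralizer_singleton_iff.1 (mem_inf.1 g.2).2)))⟩
      have hφmul : ∀ g g' : CL, φ (g * g') = φ g * φ g' := fun g g' => by
        simp only [φ, ← map_mul, MulMemClass.mk_mul_mk]
        rfl
      have hφinj : Function.Injective φ := fun g g' hgg' => by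
        have := congrArg Subtype.val (eD.injective hgg')
        exact Subtype.ext (congrArg Subtype.val (eL.injective this) :)
      have hφ1 : φ 1 = 1 := mul_left_cancel (a := φ 1) (by rw [← hφmul, mul_one, mul_one])
      let c0 : CL := ⟨c, (mem_inf.1 hc).1⟩
      let a0 : CL := ⟨z', hV'CL hz'V⟩
      let b0 : CL := ⟨v, hV'CL hv⟩
      have hkey : φ c0 * φ c0 = 1 := dihedral_sq_of_commute (a := φ a0) (b := φ b0)
        (by rw [← hφmul, ← hφ1]; exact congrArg φ (Subtype.ext (hV'sq _ hz'V)))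
        (by rw [← hφmul, ← hφ1]; exact congrArg φ (Subtype.ext (hV'sq _ hv)))
        (fun e => hvz (congrArg Subtype.val (hφinj e)).symm)
        (fun e => hz'1 (congrArg Subtype.val (hφinj (e.trans hφ1.symm))))
        (fun e => hv1 (congrArg Subtype.val (hφinj (e.trans hφ1.symm))))
        (by
          rw [← hφmul, ← hφmul]
          exact congrArg φ (Subtype.ext (mem_centralizer_iff.1 (mem_inf.1 hc).2 z' hz'V).symm))
        (by
          rw [← hφmul, ← hφmul]
          exact congrArg φ (Subtype.ext (mem_centralizer_iff.1 (mem_inf.1 hc).2 v hv).symm))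
      rw [← hφmul, ← hφ1] at hkey
      exact congrArg Subtype.val (hφinj hkey)
    have hp : IsPGroup 2 ↥(CL ⊓ D') := fun c => ⟨1, Subtype.ext (by
      rw [Subgroup.coe_pow, pow_one, pow_two]; exact hsq c c.2)⟩
    obtain ⟨S', hS'⟩ := hp.exists_le_sylow
    obtain ⟨T', hT'⟩ := hSylCard hdvdQ V' hV'4
    have := Nat.le_of_dvd Nat.card_pos (card_dvd_of_le (le_inf hV'CL hV'D))
    have h' := Nat.le_of_dvd Nat.card_pos (card_dvd_of_le hS')
    rw [Sylow.card_eq_multiplicity S', ← Sylow.card_eq_multiplicity T', hT', hV'4] at h'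
    rw [hV'4] at this
    omega
  have hCfrat : ∀ g ∈ C', ∃ l ∈ CL, l⁻¹ * g ∈ D' := by
    intro g hg
    haveI hCLn : (CL.subgroupOf C').Normal := ⟨fun a ha b => by
      rw [mem_subgroupOf] at ha ⊢
      exact mem_inf.2 ⟨hLn.conj_mem _ (mem_inf.1 ha).1 b, (b * a * b⁻¹).2⟩⟩
    obtain ⟨R, hR⟩ := hSylCard (CL.card_subgroup_dvd_card.trans hdvdQ) (V'.subgroupOf CL)
      (by rw [Nat.card_congr (subgroupOfEquivOfLe hV'CL).toEquiv, hV'4])
    have hmem : ∀ v ∈ V', g * v * g⁻¹ ∈ CL := fun v hv =>
      mem_inf.2 ⟨hLn.conj_mem _ (hV'L hv) g, mul_mem (mul_mem hg (hV'C hv)) (inv_mem hg)⟩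
    have hW4 : Nat.card ↥((V'.map (MulAut.conj g).toMonoidHom).subgroupOf CL) = 4 := by
      rw [Nat.card_congr (subgroupOfEquivOfLe (by
        rintro _ ⟨v, hv, rfl⟩
        simpa using hmem v hv)).toEquiv, card_map_of_injective (MulEquiv.injective _), hV'4]
    obtain ⟨R', hR'⟩ := hSylCard (CL.card_subgroup_dvd_card.trans hdvdQ) _ hW4
    obtain ⟨l, hl⟩ := MulAction.exists_smul_eq CL R R'
    have hlC : (l : Y ⧸ O) ∈ C' := (mem_inf.1 l.2).2
    set m := (l : Y ⧸ O)⁻¹ * g with hm
    have hmC : m ∈ C' := mul_mem (inv_mem hlC) hg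
    have hmV : ∀ v ∈ V', m * v * m⁻¹ ∈ V' := by
      intro v hv
      have h1 : (⟨g * v * g⁻¹, hmem v hv⟩ : CL) ∈ (R' : Subgroup CL) := by
        rw [hR', mem_subgroupOf]
        exact ⟨v, hv, by simp⟩
      rw [← hl, Sylow.coe_subgroup_smul, Subgroup.mem_pointwise_smul_iff_inv_smul_mem, hR,
        mem_subgroupOf] at h1
      have h2 : (l : Y ⧸ O)⁻¹ * (g * v * g⁻¹) * (l : Y ⧸ O) ∈ V' := by
        simpa [MulAut.smul_def] using h1
      rw [show m * v * m⁻¹ = (l : Y ⧸ O)⁻¹ * (g * v * g⁻¹) * (l : Y ⧸ O) by rw [hm]; group]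
      exact h2
    refine ⟨l, l.2, ?_⟩
    -- `m` normalises `V'` and fixes `z'`
    have hmN : m ∈ normalizer (V' : Set (Y ⧸ O)) := by
      rw [mem_normalizer_iff]
      refine fun v => ⟨hmV v, fun hv => ?_⟩
      have hinj : Function.Bijective (fun w : V' => (⟨m * w * m⁻¹, hmV w w.2⟩ : V')) :=
        Finite.injective_iff_bijective.1 fun w w' e => Subtype.ext
          (mul_left_cancel (mul_right_cancel (congrArg Subtype.val e)))
      obtain ⟨w, hw⟩ := hinj.2 ⟨_, hv⟩
      have : (w : Y ⧸ O) = v := mul_left_cancel (mul_right_cancel (congrArg Subtype.val hw))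
      exact this ▸ w.2
    by_contra hnc
    obtain ⟨v, hv, hvm⟩ : ∃ v ∈ V', m * v * m⁻¹ ≠ v := by
      by_contra hno
      push Not at hno
      exact hnc (mem_centralizer_iff.2 fun v hv => (mul_inv_eq_iff_eq_mul.1 (hno v hv)).symm)
    obtain ⟨a, b, hb, hab⟩ := Nat.exists_eq_two_pow_mul_odd (n := orderOf m) (orderOf_pos m).ne'
    have hmb : IsPGroup 2 (zpowers (m ^ b)) := IsPGroup.of_card (n := a) (by
      rw [Nat.card_zpowers, orderOf_pow_of_dvd (by rintro rfl; simp at hb) (hab ▸ dvd_mul_left _ _), hab,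
        Nat.mul_div_cancel _ (Nat.pos_of_ne_zero (by rintro rfl; simp at hb))])
    obtain ⟨T, hT⟩ := (hV2.map π).exists_le_sylow
    have hpU := (hV2.map π).to_sup_of_normal_left' hmb (zpowers_le.2 (pow_mem hmN b))
    obtain ⟨T, hT⟩ := hpU.exists_le_sylow
    obtain ⟨T', hT'⟩ := hSylCard hdvdQ V' hV'4
    have hTV : (T : Subgroup (Y ⧸ O)) = V' := (eq_of_le_of_card_ge (le_sup_left.trans hT) (by
      rw [Sylow.card_eq_multiplicity T, ← Sylow.card_eq_multiplicity T', hT'])).symm
    have hmbV : m ^ b ∈ V' := hTV ▸ hT (mem_sup_right (mem_zpowers _))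
    -- conjugation by `m` swaps `v` and `v z'`
    have htwo : m * (m * v * m⁻¹) * m⁻¹ = v := by
      have hfix : m * z' * m⁻¹ = z' := mul_inv_eq_iff_eq_mul.2 (mem_centralizer_singleton_iff.1 hmC)
      have hv1 : v ≠ 1 := fun e => hvm (by rw [e]; group)
      have hvz : v ≠ z' := fun e => hvm (by rw [e, hfix])
      haveI : Nontrivial V' := ⟨⟨⟨z', hz'V⟩, 1, fun e => hz'1 (congrArg Subtype.val e)⟩⟩
      haveI : IsKleinFour V' := ⟨hV'4, Monoid.exponent_eq_prime_iff (by norm_num : Nat.Prime 2) |>.2 fun g hg =>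
        orderOf_eq_prime (Subtype.ext (by rw [Subgroup.coe_pow, pow_two]; exact hV'sq g g.2)) hg⟩
      have key : ∀ w ∈ V', w ≠ 1 → w ≠ z' → w ≠ v → w = z' * v := fun w hw h1 h2 h3 =>
        congrArg Subtype.val (IsKleinFour.eq_mul_of_ne_all (x := (⟨z', hz'V⟩ : V')) (y := ⟨v, hv⟩)
          (z := ⟨w, hw⟩) (fun e => hz'1 (congrArg Subtype.val e)) (fun e => hv1 (congrArg Subtype.val e))
          (fun e => hvz (congrArg Subtype.val e).symm) (fun e => h1 (congrArg Subtype.val e))
          (fun e => h2 (congrArg Subtype.val e)) (fun e => h3 (congrArg Subtype.val e)))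
      have hmv : m * v * m⁻¹ = z' * v := key _ (hmV v hv) (fun e => hv1 (conj_eq_one_iff.1 e))
        (fun e => hvz (mul_left_cancel (mul_right_cancel (e.trans hfix.symm)))) hvm
      rw [hmv, ← conj_mul, hfix, hmv, ← mul_assoc, hV'sq _ hz'V, one_mul]
    have hodd' : ∀ k : ℕ, m ^ (2 * k + 1) * v * (m ^ (2 * k + 1))⁻¹ = m * v * m⁻¹ := by
      intro k
      induction k with
      | zero => simp
      | succ k ih =>
        rw [show 2 * (k + 1) + 1 = (2 * k + 1) + 2 by ring, pow_add]
        calc m ^ (2 * k + 1) * m ^ 2 * v * (m ^ (2 * k + 1) * m ^ 2)⁻¹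
            = m ^ (2 * k + 1) * (m * (m * v * m⁻¹) * m⁻¹) * (m ^ (2 * k + 1))⁻¹ := by
              rw [pow_two]; group
          _ = m * v * m⁻¹ := by rw [htwo, ih]
    obtain ⟨k, rfl⟩ := hb
    refine hvm ((hodd' k).symm.trans ?_)
    have hm2 := hV'sq _ (mul_mem hmbV hv)
    have hm1' := hV'sq _ hmbV
    calc m ^ (2 * k + 1) * v * (m ^ (2 * k + 1))⁻¹
        = (m ^ (2 * k + 1) * v) * m ^ (2 * k + 1) := by rw [inv_eq_of_mul_eq_one_right hm1']
      _ = (m ^ (2 * k + 1) * v)⁻¹ * m ^ (2 * k + 1) := by rw [inv_eq_of_mul_eq_one_right hm2]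
      _ = v⁻¹ := by group
      _ = v := inv_eq_of_mul_eq_one_right (hV'sq v hv)
  have hC'card : Nat.card C' = h * Nat.card D' := by
    have hsupC : CL ⊔ D' = C' := le_antisymm (sup_le inf_le_right hD'C) fun g hg => by
      obtain ⟨l, hl, hlg⟩ := hCfrat g hg
      rw [← mul_inv_cancel_left l g]
      exact mul_mem (mem_sup_left hl) (mem_sup_right hlg)
    have hCLn : (CL.subgroupOf C').Normal := ⟨fun a ha b => by
      rw [mem_subgroupOf] at ha ⊢
      exact mem_inf.2 ⟨hLn.conj_mem _ (mem_inf.1 ha).1 b, (b * a * b⁻¹).2⟩⟩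
    haveI := hCLn
    have hsup' : CL.subgroupOf C' ⊔ D'.subgroupOf C' = ⊤ := by
      rw [← subgroupOf_sup inf_le_right hD'C, hsupC, subgroupOf_self]
    have h1 := (CL.subgroupOf C').card_mul_index
    rw [← relIndex_top_right, ← hsup', relIndex_sup_left] at h1
    have h2 : Nat.card ↥(CL ⊓ D') * (CL.subgroupOf C').relIndex (D'.subgroupOf C') = Nat.card D' := by
      rw [relIndex_subgroupOf hD'C, Subgroup.relIndex]
      rw [← (CL.subgroupOf D').card_mul_index,
        ← card_map_of_injective D'.subtype_injective (K := CL.subgroupOf D'), subgroupOf_map_subtype]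
    rw [Nat.card_congr (subgroupOfEquivOfLe (inf_le_right : CL ≤ C')).toEquiv, hh] at h1
    rw [hDL] at h2
    rw [← h1, ← h2]
    ring
  -- the odd core
  set K := centralizer ({z} : Set Y) with hK
  set KV := centralizer (V : Set Y) with hKV
  have hOc : (Nat.card O).Coprime 2 := Nat.coprime_two_right.2 hOodd
  have hzo : orderOf z = 2 := orderOf_eq_prime (by rw [pow_two]; exact hVsq z hz) hz1
  have hKmap : K.map π = C' := by
    have h := PCore.map_centralizer_mk' O hOc (P := zpowers z)
      (IsPGroup.of_card (n := 1) (by rw [Nat.card_zpowers, hzo, pow_one]))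
    rw [MonoidHom.map_zpowers, zpowers_eq_closure, zpowers_eq_closure, centralizer_closure,
      centralizer_closure] at h
    exact h
  have hKVmap : KV.map π = D' := PCore.map_centralizer_mk' O hOc hV2
  have hcardmap : ∀ A : Subgroup Y, Nat.card A = Nat.card ↥(A ⊓ O) * Nat.card (A.map π) := by
    intro A
    have h1 := (O.subgroupOf A).card_mul_index
    rw [← card_map_of_injective A.subtype_injective (K := O.subgroupOf A), subgroupOf_map_subtype,
      inf_comm] at h1
    rw [← h1]
    congr 1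
    have h2 := Subgroup.index_ker (π.comp A.subtype)
    rw [MonoidHom.range_comp, range_subtype] at h2
    rw [← h2, ← MonoidHom.comap_ker, hπ, QuotientGroup.ker_mk']
    rfl
  set c := Nat.card ↥(K ⊓ O) with hc
  set d := Nat.card ↥(KV ⊓ O) with hd'
  have hKcard : Nat.card K = c * Nat.card C' := by rw [hcardmap K, hKmap]
  have hKVcard : Nat.card KV = d * Nat.card D' := by rw [hcardmap KV, hKVmap]
  -- the involutions of `V` are conjugate in `Y`
  have hconjV : ∀ v ∈ V, v ≠ 1 → ∃ g : Y, g * z * g⁻¹ = v := by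
    intro v hv hv1
    have hv'V : π v ∈ V' := mem_map_of_mem _ hv
    have hv'1 : π v ≠ 1 := fun e => hv1 (hVO v hv ((QuotientGroup.eq_one_iff v).1 e))
    have ho : orderOf (⟨π v, hV'L hv'V⟩ : L) = 2 := orderOf_eq_prime
      (Subtype.ext (by rw [Subgroup.coe_pow, pow_two]; exact hV'sq _ hv'V))
      (fun e => hv'1 (congrArg Subtype.val e))
    obtain ⟨l, hl⟩ := isConj_iff.1
      (GW.isConj_invol_of_simple (hdQ.subgroup L) hLna hLeven hxo ho)
    obtain ⟨g, hg⟩ := hπs (l : Y ⧸ O)
    -- correct `g` by an element of the odd core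
    set u := g * z * g⁻¹ with hu
    have huv : π u = π v := by
      rw [hu, map_mul, map_mul, map_inv, hg]
      exact congrArg Subtype.val hl
    have huu : u * u = 1 := by
      rw [hu, show g * z * g⁻¹ * (g * z * g⁻¹) = g * (z * z) * g⁻¹ by group, hVsq z hz]
      group
    have hvv : v * v = 1 := hVsq v hv
    set o := u * v with ho'
    have hoO : o ∈ O := (QuotientGroup.eq_one_iff _).1 (by
      show π (u * v) = 1
      rw [map_mul, huv, ← map_mul, hvv, map_one])
    have hoodd : Nat.Coprime 2 (orderOf o) := Nat.coprime_two_left.2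
      (Odd.of_dvd_nat hOodd (Subgroup.orderOf_dvd_natCard _ hoO))
    obtain ⟨n, hn⟩ := exists_pow_eq_self_of_coprime (x := o) hoodd
    set k := o ^ n with hk'
    have hk2 : k * k = o := by rw [hk', ← pow_add, ← two_mul, pow_mul, hn]
    have hui : u⁻¹ = u := inv_eq_of_mul_eq_one_right huu
    have hvi : v⁻¹ = v := inv_eq_of_mul_eq_one_right hvv
    have hinv : v * o * v⁻¹ = o⁻¹ := by
      rw [hvi, ho', mul_inv_rev, hvi, hui, mul_assoc, mul_assoc, hvv, mul_one]
    have hinvk : v * k * v⁻¹ = k⁻¹ := by rw [hk', ← conj_pow, hinv, inv_pow]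
    refine ⟨k⁻¹ * g, ?_⟩
    calc k⁻¹ * g * z * (k⁻¹ * g)⁻¹ = k⁻¹ * u * k := by rw [hu]; group
      _ = k⁻¹ * (o * v) * k := by rw [ho', mul_assoc u, hvv, mul_one]
      _ = k * (v * k * v⁻¹) * v := by rw [← hk2]; group
      _ = v := by rw [hinvk]; group
  have hcv : ∀ v ∈ V, v ≠ 1 → Nat.card ↥(centralizer ({v} : Set Y) ⊓ O) = c := by
    intro v hv hv1
    obtain ⟨g, rfl⟩ := hconjV v hv hv1
    have hmap : (K ⊓ O).map (MulAut.conj g).toMonoidHom = centralizer ({g * z * g⁻¹} : Set Y) ⊓ O := by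
      ext y
      rw [Subgroup.mem_map]
      constructor
      · rintro ⟨k, hk', rfl⟩
        refine mem_inf.2 ⟨mem_centralizer_singleton_iff.2 ?_, by
          simpa using (inferInstance : O.Normal).conj_mem k (mem_inf.1 hk').2 g⟩
        simp only [MulEquiv.coe_toMonoidHom, MulAut.conj_apply]
        rw [conj_mul, conj_mul, mem_centralizer_singleton_iff.1 (mem_inf.1 hk').1]
      · intro hy
        refine ⟨g⁻¹ * y * g, mem_inf.2 ⟨mem_centralizer_singleton_iff.2 ?_, by
          simpa using (inferInstance : O.Normal).conj_mem y (mem_inf.1 hy).2 g⁻¹⟩, by simp [mul_assoc]⟩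
        have := mem_centralizer_singleton_iff.1 (mem_inf.1 hy).1
        calc g⁻¹ * y * g * z = g⁻¹ * (y * (g * z * g⁻¹)) * g := by group
          _ = g⁻¹ * ((g * z * g⁻¹) * y) * g := by rw [this]
          _ = z * (g⁻¹ * y * g) := by group
    rw [← hmap, card_map_of_injective (MulEquiv.injective _)]
  -- the four-group formula on the odd core
  obtain ⟨v, hv, hv1, hvz⟩ : ∃ v ∈ V, v ≠ 1 ∧ v ≠ z := by
    by_contra hno
    push Not at hno
    have hle : V ≤ zpowers z := fun v hv => by
      by_cases hv1 : v = 1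
      · exact hv1 ▸ one_mem _
      · exact (hno v hv hv1) ▸ mem_zpowers _
    have := Nat.le_of_dvd Nat.card_pos (card_dvd_of_le hle)
    rw [hV4, Nat.card_zpowers, hzo] at this
    omega
  have hzv1 : z * v ≠ 1 := fun e => hvz ((inv_eq_of_mul_eq_one_right e).symm.trans
    (inv_eq_of_mul_eq_one_right (hVsq z hz)))
  let σ : O ≃* O := MulAut.conjNormal z
  let τ : O ≃* O := MulAut.conjNormal v
  have hzv : z * v = v * z := by
    calc z * v = (z * v)⁻¹ := (inv_eq_of_mul_eq_one_right (hVsq _ (mul_mem hz hv))).symm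
      _ = v⁻¹ * z⁻¹ := mul_inv_rev _ _
      _ = v * z := by
        rw [inv_eq_of_mul_eq_one_right (hVsq v hv), inv_eq_of_mul_eq_one_right (hVsq z hz)]
  have hfix : ∀ w : Y, Nat.card {x : O // MulAut.conjNormal (H := O) w x = x} =
      Nat.card ↥(centralizer ({w} : Set Y) ⊓ O) := fun w => Nat.card_congr
    { toFun := fun x => ⟨x.1.1, mem_inf.2 ⟨mem_centralizer_singleton_iff.2 (by
        have := congrArg Subtype.val x.2
        rw [MulAut.conjNormal_apply] at this
        exact (mul_inv_eq_iff_eq_mul.1 this).symm), x.1.2⟩⟩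
      invFun := fun x => ⟨⟨x.1, (mem_inf.1 x.2).2⟩, Subtype.ext (by
        rw [MulAut.conjNormal_apply]
        exact mul_inv_eq_iff_eq_mul.2 (mem_centralizer_singleton_iff.1 (mem_inf.1 x.2).1).symm)⟩
      left_inv := fun x => rfl
      right_inv := fun x => rfl }
  have hcomp : ∀ x : O, σ (τ x) = MulAut.conjNormal (H := O) (z * v) x := fun x => by
    rw [map_mul]; rfl
  have hformula := Perm.FourGroup.card_formula hOodd σ τ
    (fun x => by
      show MulAut.conjNormal (H := O) z (MulAut.conjNormal (H := O) z x) = x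
      rw [← MulAut.mul_apply, ← map_mul, hVsq z hz, map_one]; rfl)
    (fun x => by
      show MulAut.conjNormal (H := O) v (MulAut.conjNormal (H := O) v x) = x
      rw [← MulAut.mul_apply, ← map_mul, hVsq v hv, map_one]; rfl)
    (fun x => by
      show MulAut.conjNormal (H := O) z (MulAut.conjNormal (H := O) v x) =
        MulAut.conjNormal (H := O) v (MulAut.conjNormal (H := O) z x)
      rw [← MulAut.mul_apply, ← map_mul, hzv, map_mul]; rfl)
  have e12 : Nat.card {x : O // σ x = x ∧ τ x = x} = d := Nat.card_congr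
    { toFun := fun x => ⟨x.1.1, mem_inf.2 ⟨mem_centralizer_iff.2 (fun w hw => by
        by_cases hw1 : w = 1
        · rw [hw1, one_mul, mul_one]
        have e1 : z * (x.1 : Y) = x.1 * z := by
          have := congrArg Subtype.val x.2.1
          exact mul_inv_eq_iff_eq_mul.1 (by simpa [σ, MulAut.conjNormal_apply] using this)
        have e2 : v * (x.1 : Y) = x.1 * v := by
          have := congrArg Subtype.val x.2.2
          exact mul_inv_eq_iff_eq_mul.1 (by simpa [τ, MulAut.conjNormal_apply] using this)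
        by_cases hwz : w = z
        · rw [hwz, e1]
        by_cases hwv : w = v
        · rw [hwv, e2]
        have hwzv : w = z * v := congrArg Subtype.val (IsKleinFour.eq_mul_of_ne_all
          (x := (⟨z, hz⟩ : V)) (y := ⟨v, hv⟩) (z := ⟨w, hw⟩)
          (fun e => hz1 (congrArg Subtype.val e)) (fun e => hv1 (congrArg Subtype.val e))
          (fun e => hvz (congrArg Subtype.val e).symm) (fun e => hw1 (congrArg Subtype.val e))
          (fun e => hwz (congrArg Subtype.val e)) (fun e => hwv (congrArg Subtype.val e)))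
        rw [hwzv, mul_assoc, e2, ← mul_assoc, e1, mul_assoc]), x.1.2⟩⟩
      invFun := fun x => ⟨⟨x.1, (mem_inf.1 x.2).2⟩,
        Subtype.ext (by
          simp only [σ, MulAut.conjNormal_apply]
          exact mul_inv_eq_iff_eq_mul.2 (mem_centralizer_iff.1 (mem_inf.1 x.2).1 z hz)),
        Subtype.ext (by
          simp only [τ, MulAut.conjNormal_apply]
          exact mul_inv_eq_iff_eq_mul.2 (mem_centralizer_iff.1 (mem_inf.1 x.2).1 v hv))⟩
      left_inv := fun x => rfl
      right_inv := fun x => rfl }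
  have e1 : Nat.card {x : O // σ x = x} = c := (hfix z).trans (hcv z hz hz1)
  have e2 : Nat.card {x : O // τ x = x} = c := (hfix v).trans (hcv v hv hv1)
  have e3 : Nat.card {x : O // σ (τ x) = x} = c := by
    rw [Nat.card_congr (Equiv.subtypeEquivRight fun x => by rw [hcomp x]), hfix (z * v),
      hcv _ (mul_mem hz hv) hzv1]
  rw [e12, e1, e2, e3] at hformula
  obtain ⟨g, hg⟩ : d ∣ c := card_dvd_of_le (inf_le_inf_right O (centralizer_le (by simpa using hz)))
  have hdpos : 0 < d := Nat.card_pos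
  have hOcard : Nat.card O = g ^ 3 * d := by
    refine Nat.eq_of_mul_eq_mul_right (pow_pos hdpos 2) ?_
    rw [hformula, hg]
    ring
  have hg1 : 1 ≤ g := by
    rcases Nat.eq_zero_or_pos g with h0 | h0
    · have : 0 < c := Nat.card_pos
      rw [hg, h0, mul_zero] at this
      exact absurd this (lt_irrefl 0)
    · exact h0
  have hh1 : 1 ≤ h := by
    rcases Nat.eq_zero_or_pos h with h0 | h0
    · have : 0 < Nat.card CL := Nat.card_pos
      rw [hh, h0, mul_zero] at this
      exact absurd this (lt_irrefl 0)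
    · exact h0
  have hKfin : Nat.card K = g * h * Nat.card KV := by
    rw [hKcard, hKVcard, hC'card, hg]; ring
  refine ⟨g, h, hg1, hh1, ?_, hKfin, ?_⟩
  · have hidx : K.index * (4 * h) = g ^ 2 * Nat.card L := by
      have hY : Nat.card Y = Nat.card O * Nat.card (Y ⧸ O) := by
        rw [O.card_eq_card_quotient_mul_card_subgroup, mul_comm]
      refine Nat.eq_of_mul_eq_mul_right (Nat.card_pos (α := K)) ?_
      calc K.index * (4 * h) * Nat.card K = (K.index * Nat.card K) * (4 * h) := by ring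
        _ = Nat.card O * (Nat.card (Y ⧸ O) * Nat.card CL) := by rw [index_mul_card, hY, hh]; ring
        _ = g ^ 3 * d * (Nat.card L * Nat.card C') := by rw [hcardQ, hOcard]
        _ = g ^ 2 * Nat.card L * Nat.card K := by rw [hKcard, hg]; ring
    rcases hqodd with hq1 | hq3
    · left
      have hq' : q = 4 * h + 1 := by
        have := hm1 hq1
        rw [← hCLcard, hh] at this
        omega
      have hL2 : Nat.card L = 4 * h * ((4 * h + 1) * (2 * h + 1)) := by
        have h2 : 2 * Nat.card L = 2 * (4 * h * ((4 * h + 1) * (2 * h + 1))) := by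
          rw [hLcard, hq', show (4 * h + 1) ^ 2 - 1 = 4 * h * (4 * h + 2) by
            rw [Nat.sub_eq_of_eq_add]; ring]
          ring
        omega
      refine Nat.eq_of_mul_eq_mul_right (by omega : 0 < 4 * h) ?_
      rw [hidx, hL2]; ring
    · right
      have hq' : q + 1 = 4 * h := by
        have := hm3 hq3
        rw [← hCLcard, hh] at this
        omega
      refine ⟨by omega, ?_⟩
      obtain ⟨k, rfl⟩ : ∃ k, h = k + 1 := ⟨h - 1, by omega⟩
      have hq'' : q = 4 * k + 3 := by omega
      have hL2 : Nat.card L = 4 * (k + 1) * ((4 * k + 3) * (2 * k + 1)) := by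
        have h2 : 2 * Nat.card L = 2 * (4 * (k + 1) * ((4 * k + 3) * (2 * k + 1))) := by
          rw [hLcard, hq'', show (4 * k + 3) ^ 2 - 1 = (4 * k + 2) * (4 * (k + 1)) by
            rw [Nat.sub_eq_of_eq_add]; ring]
          ring
        omega
      rw [show 4 * (k + 1) - 1 = 4 * k + 3 by omega, show 2 * (k + 1) - 1 = 2 * k + 1 by omega]
      refine Nat.eq_of_mul_eq_mul_right (by omega : 0 < 4 * (k + 1)) ?_
      rw [hidx, hL2]; ring
  · intro hg' hV
    subst hg'
    have hD4 : 4 ≤ Nat.card D' := by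
      rw [← hDL]; exact Nat.le_of_dvd Nat.card_pos (card_dvd_of_le inf_le_right)
    have hd1 : d = 1 := by
      rw [hKVcard] at hV
      by_contra hne
      have := Nat.mul_le_mul (show 2 ≤ d by omega) hD4
      omega
    have hD4' : Nat.card D' = 4 := by rw [hKVcard, hd1, one_mul] at hV; exact hV
    have hO1 : O = ⊥ := card_eq_one.1 (by rw [hOcard, hd1, one_pow, one_mul])
    have hLtop : L = ⊤ := (card_eq_iff_eq_top L).1 (by
      have h1 := hcardQ
      rw [hC'card, hD4', hh, mul_comm h 4] at h1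
      exact (Nat.eq_of_mul_eq_mul_right (by omega) h1).symm)
    have e : Y ≃* L := ((QuotientGroup.quotientBot).symm.trans
      (QuotientGroup.quotientMulEquivOfEq hO1.symm)).trans
      (Subgroup.topEquiv.symm.trans (MulEquiv.subgroupCongr hLtop.symm))
    exact e.isSimpleGroup

end Cfsg.Agent.TwoTransFour
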