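import Cfsg.Agent.Lib.TwoTransFour.Swap
import Cfsg.Agent.Lib.TwoTransFour.Arith
import Cfsg.Agent.Lib.TwoTransFour.Machine
import Cfsg.Agent.Lib.Perm.Sharply
import Cfsg.Agent.Lib.Order7920.Unique

/-!
# Two-point stabiliser `A₅`, even degree: `M₁₁` on 12 points

The point stabiliser has a four group as Sylow 2-subgroup; the orders of the centralisers of an involution and
of the four group, compared with the fixed point equations, leave `n = 12`.
-/

set_option autoImplicit false
set_option linter.unusedSectionVars false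
set_option linter.style.haveILetI false

namespace Cfsg.Agent.TwoTransFour

open MulAction

universe u

variable {G : Type u} [Group G] {Ω : Type*} [MulAction G Ω]

/-- A subgroup whose order is not divisible by 8: an element normalising a four group in it and
centralising an involution of it centralises it. -/
theorem centralizes_of_normalizes [Finite G] {K V : Subgroup G} [hV : IsKleinFour V] (hVK : V ≤ K)
    (h8 : ¬ 8 ∣ Nat.card K) {z : G} (hz : z ∈ V) (hz1 : z ≠ 1) {m : G} (hmK : m ∈ K)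
    (hmz : m * z = z * m) (hmN : m ∈ Subgroup.normalizer (V : Set G)) :
    m ∈ Subgroup.centralizer (V : Set G) := by
  haveI : Fact (Nat.Prime 2) := ⟨Nat.prime_two⟩
  have hsq : ∀ v ∈ V, v * v = 1 := fun v hv =>
    congrArg Subtype.val (hV.mul_self (⟨v, hv⟩ : V))
  have hmV : ∀ v ∈ V, m * v * m⁻¹ ∈ V := fun v hv => (Subgroup.mem_normalizer_iff.1 hmN v).1 hv
  by_contra hnc
  obtain ⟨v, hv, hvm⟩ : ∃ v ∈ V, m * v * m⁻¹ ≠ v := by
    by_contra hno
    push Not at hno
    exact hnc (Subgroup.mem_centralizer_iff.2 fun v hv => (mul_inv_eq_iff_eq_mul.1 (hno v hv)).symm)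
  obtain ⟨a, b, hb, hab⟩ := Nat.exists_eq_two_pow_mul_odd (n := orderOf m) (orderOf_pos m).ne'
  have hmb : IsPGroup 2 (Subgroup.zpowers (m ^ b)) := IsPGroup.of_card (n := a) (by
    rw [Nat.card_zpowers, orderOf_pow_of_dvd (by rintro rfl; simp at hb) (hab ▸ dvd_mul_left _ _), hab,
      Nat.mul_div_cancel _ (Nat.pos_of_ne_zero (by rintro rfl; simp at hb))])
  have hV2 : IsPGroup 2 V := IsPGroup.of_card (n := 2) (by rw [hV.card_four]; norm_num)
  have hpU := hV2.to_sup_of_normal_left' hmb (Subgroup.zpowers_le.2 (pow_mem hmN b))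
  obtain ⟨k, hk⟩ := IsPGroup.iff_card.1 hpU
  have hk2 : k ≤ 2 := by
    by_contra hlt
    refine h8 ((show 8 ∣ 2 ^ k from (show (8 : ℕ) = 2 ^ 3 from rfl) ▸ pow_dvd_pow 2 (by omega)).trans ?_)
    rw [← hk]
    exact Subgroup.card_dvd_of_le (sup_le hVK (Subgroup.zpowers_le.2 (pow_mem hmK b)))
  have hmbV : m ^ b ∈ V := by
    have hpow : 2 ^ k ≤ 2 ^ 2 := Nat.pow_le_pow_right (by norm_num) hk2
    have heq := Subgroup.eq_of_le_of_card_ge (H := V) (K := V ⊔ Subgroup.zpowers (m ^ b)) le_sup_left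
      (by rw [hk, hV.card_four]; exact hpow.trans (by norm_num))
    rw [heq]
    exact Subgroup.mem_sup_right (Subgroup.mem_zpowers _)
  have htwo : m * (m * v * m⁻¹) * m⁻¹ = v := by
    have hfix : m * z * m⁻¹ = z := mul_inv_eq_iff_eq_mul.2 hmz
    have hv1 : v ≠ 1 := fun e => hvm (by rw [e]; group)
    have hvz : v ≠ z := fun e => hvm (by rw [e, hfix])
    have key : ∀ w ∈ V, w ≠ 1 → w ≠ z → w ≠ v → w = z * v := fun w hw h1 h2 h3 =>
      congrArg Subtype.val (IsKleinFour.eq_mul_of_ne_all (x := (⟨z, hz⟩ : V)) (y := ⟨v, hv⟩)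
        (z := ⟨w, hw⟩) (fun e => hz1 (congrArg Subtype.val e)) (fun e => hv1 (congrArg Subtype.val e))
        (fun e => hvz (congrArg Subtype.val e).symm) (fun e => h1 (congrArg Subtype.val e))
        (fun e => h2 (congrArg Subtype.val e)) (fun e => h3 (congrArg Subtype.val e)))
    have hmv : m * v * m⁻¹ = z * v := key _ (hmV v hv) (fun e => hv1 (conj_eq_one_iff.1 e))
      (fun e => hvz (mul_left_cancel (mul_right_cancel (e.trans hfix.symm)))) hvm
    rw [hmv, ← conj_mul, hfix, hmv, ← mul_assoc, hsq _ hz, one_mul]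
  obtain ⟨j, rfl⟩ := hb
  have hodd' : ∀ j : ℕ, m ^ (2 * j + 1) * v * (m ^ (2 * j + 1))⁻¹ = m * v * m⁻¹ := by
    intro j
    induction j with
    | zero => simp
    | succ j ih =>
      rw [show 2 * (j + 1) + 1 = (2 * j + 1) + 2 by ring, pow_add]
      calc m ^ (2 * j + 1) * m ^ 2 * v * (m ^ (2 * j + 1) * m ^ 2)⁻¹
          = m ^ (2 * j + 1) * (m * (m * v * m⁻¹) * m⁻¹) * (m ^ (2 * j + 1))⁻¹ := by
            rw [pow_two]; group
        _ = m * v * m⁻¹ := by rw [htwo, ih]
  refine hvm ((hodd' j).symm.trans ?_)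
  have hm2 := hsq _ (mul_mem hmbV hv)
  have hm1' := hsq _ hmbV
  calc m ^ (2 * j + 1) * v * (m ^ (2 * j + 1))⁻¹
      = (m ^ (2 * j + 1) * v) * m ^ (2 * j + 1) := by rw [inv_eq_of_mul_eq_one_right hm1']
    _ = (m ^ (2 * j + 1) * v)⁻¹ * m ^ (2 * j + 1) := by rw [inv_eq_of_mul_eq_one_right hm2]
    _ = v⁻¹ := by group
    _ = v := inv_eq_of_mul_eq_one_right (hsq v hv)

namespace Hyp

variable (H : Hyp G Ω) [Fintype Ω] [Fintype G]
include H

variable {a b : Ω} {z : G} (d : Datum a b z)
include d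

/-- If `C(V)` and `C(z) ∩ N(V)` agree in `G_a` and there are at least three common fixed points, their
number is a prime power. -/
theorem fxs_prime_power [FaithfulSMul G Ω]
    (hD : Subgroup.centralizer ({z} : Set G) ⊓ Subgroup.normalizer (four z a b : Set G) ⊓ stabilizer G a ≤
      Subgroup.centralizer (four z a b : Set G))
    (hf : 3 ≤ (fxs Ω (four z a b)).card) :
    ∃ p j : ℕ, p.Prime ∧ (fxs Ω (four z a b)).card = p ^ j := by
  classical
  set S := fxs Ω (four z a b) with hS
  set C := Subgroup.centralizer (four z a b : Set G) with hC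
  have hCM := centralizer_four_le d
  have hinv : ∀ g ∈ C, ∀ x ∈ S, g • x ∈ S := fun g hg x hx =>
    fxs_smul (Subgroup.mem_inf.1 (hCM hg)).2 hx
  -- `C(V)` does not fix `a`
  have hnfix : ∃ g ∈ C, g • a ≠ a := by
    by_contra hno
    push Not at hno
    have hfix : ∀ g ∈ C, ∀ x ∈ S, g • x = x := by
      intro g hg x hx
      rcases eq_or_ne x a with rfl | hxa
      · exact hno g hg
      · obtain ⟨m, hm, h1, -⟩ := H.witt_four d hx (mem_fxs_left d) hxa
        have hconj : m⁻¹ * g * m ∈ C := Subgroup.mem_centralizer_iff.2 fun v hv => by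
          have := Subgroup.mem_centralizer_iff.1 hg _
            ((Subgroup.mem_normalizer_iff.1 (Subgroup.mem_inf.1 hm).2 v).1 hv)
          calc v * (m⁻¹ * g * m) = m⁻¹ * (m * v * m⁻¹ * g) * m := by group
            _ = m⁻¹ * g * m * v := by rw [this]; group
        have h := hno _ hconj
        rwa [mul_smul, mul_smul, h1, inv_smul_eq_iff, h1] at h
    obtain ⟨c, hc, hca, hcb⟩ : ∃ c ∈ S, c ≠ a ∧ c ≠ b := by
      by_contra hno'
      push Not at hno'
      have : S.card ≤ ({a, b} : Finset Ω).card := Finset.card_le_card fun x hx => by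
        by_cases hxa : x = a
        · simp [hxa]
        · simp [hno' x hx hxa]
      have := (Finset.card_le_two (a := a) (b := b)).trans' this
      omega
    obtain ⟨m, hm, h1, h2⟩ := H.witt_four d (mem_fxs_left d) hc hca.symm
    exact hcb (h2.symm.trans (hfix m (hD (Subgroup.mem_inf.2 ⟨hm, mem_stabilizer_iff.2 h1⟩)) b
      (mem_fxs_right d)))
  let S' : SubMulAction C Ω :=
    { carrier := {x | x ∈ S}
      smul_mem' := fun g x hx => hinv g g.2 x hx }
  have hSt : ∀ c e : S', c ≠ ⟨a, mem_fxs_left d⟩ → e ≠ ⟨a, mem_fxs_left d⟩ →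
      ∃ g : C, g • (⟨a, mem_fxs_left d⟩ : S') = ⟨a, mem_fxs_left d⟩ ∧ g • c = e := by
    intro c e hc he
    have hstab : ∀ x ∈ S, x ≠ a → ∃ g ∈ C, g • a = a ∧ g • b = x := fun x hx hxa => by
      obtain ⟨m, hm, h1, h2⟩ := H.witt_four d (mem_fxs_left d) hx hxa.symm
      exact ⟨m, hD (Subgroup.mem_inf.2 ⟨hm, mem_stabilizer_iff.2 h1⟩), h1, h2⟩
    obtain ⟨g1, hg1, h11, h12⟩ := hstab c c.2 fun h => hc (Subtype.ext h)
    obtain ⟨g2, hg2, h21, h22⟩ := hstab e e.2 fun h => he (Subtype.ext h)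
    refine ⟨⟨g2 * g1⁻¹, mul_mem hg2 (inv_mem hg1)⟩, Subtype.ext ?_, Subtype.ext ?_⟩
    · show (g2 * g1⁻¹) • a = a
      rw [mul_smul, inv_smul_eq_iff.2 h11.symm, h21]
    · show (g2 * g1⁻¹) • (c : Ω) = e
      rw [mul_smul, ← h12, inv_smul_smul, h22]
  haveI : IsPretransitive C S' := by
    obtain ⟨g, hg, hga⟩ := hnfix
    have key : ∀ x : S', ∃ k : C, k • (⟨a, mem_fxs_left d⟩ : S') = x := by
      intro x
      rcases eq_or_ne x ⟨a, mem_fxs_left d⟩ with rfl | hx
      · exact ⟨1, one_smul _ _⟩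
      · obtain ⟨k, -, hk2⟩ := hSt ((⟨g, hg⟩ : C) • ⟨a, mem_fxs_left d⟩) x
          (fun h => hga (congrArg Subtype.val h)) hx
        exact ⟨k * ⟨g, hg⟩, by rw [mul_smul, hk2]⟩
    exact ⟨fun x y => by
      obtain ⟨k, hk⟩ := key x
      obtain ⟨l, hl⟩ := key y
      exact ⟨l * k⁻¹, by rw [mul_smul, ← hk, inv_smul_smul, hl]⟩⟩
  have h2t : IsMultiplyPretransitive C S' 2 := Perm.isTwoPretransitive_of_stabilizer _ hSt
  -- the permutation group induced on the common fixed points
  let X := (MulAction.toPermHom C S').range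
  haveI : Nontrivial S' :=
    ⟨⟨⟨a, mem_fxs_left d⟩, ⟨b, mem_fxs_right d⟩, fun h => d.ne (congrArg Subtype.val h)⟩⟩
  haveI : IsMultiplyPretransitive X S' 2 := by
    refine is_two_pretransitive_iff.2 fun {x y u v} hxy huv => ?_
    obtain ⟨g, hg1, hg2⟩ := Perm.exists_smul_eq_two h2t hxy huv
    exact ⟨⟨_, ⟨g, rfl⟩⟩, hg1, hg2⟩
  have hsharp : ∀ x : Fin 2 ↪ S', stabilizer X x = ⊥ := by
    intro x
    refine (Subgroup.eq_bot_iff_forall _).2 ?_
    rintro ⟨_, g, rfl⟩ hg
    refine Subtype.ext (Equiv.ext fun y => Subtype.ext ?_)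
    have h0 := congrArg (fun e : Fin 2 ↪ S' => (e 0 : Ω)) hg
    have h1 := congrArg (fun e : Fin 2 ↪ S' => (e 1 : Ω)) hg
    have hne : (x 0 : Ω) ≠ x 1 := fun h => by
      have := x.injective (Subtype.ext h)
      simp at this
    have hmem : (g : G) ∈ four z (x 0 : Ω) (x 1 : Ω) := mem_four.2
      ⟨mem_cent.1 (Subgroup.mem_inf.1 (hCM g.2)).1, h0, h1⟩
    rw [H.four_eq d (x 0).2 (x 1).2 hne] at hmem
    exact mem_fxs.1 y.2 g hmem
  obtain ⟨-, -, -, -, -, -, p, j, hp, -, hcard, -⟩ :=
    Perm.exists_kernel_of_sharply_two (G := X) (α := S') hsharp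
  refine ⟨p, j, hp, ?_⟩
  rw [← hcard, ← Nat.card_eq_finsetCard]
  rfl

/-- **Even degree.** -/
theorem even_case [FaithfulSMul G Ω]
    (hnr : ∀ N : Subgroup G, N.Normal → IsPretransitive N Ω → (∀ x : Ω, stabilizer N x = ⊥) → False)
    (heven : Fintype.card Ω % 2 = 0) : Fintype.card Ω = 12 ∧ Cfsg.Spor.IsoM11 G := by
  classical
  set n := Fintype.card Ω with hn
  set i := (fx Ω z).card with hi
  set f := (fxs Ω (four z a b)).card with hf
  have hf2 : 2 ≤ f := H.two_le_fxs d
  obtain ⟨e, he2, hie, -⟩ := H.exists_e d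
  rw [← hi, ← hf] at hie
  have hff : f ≤ f * f := Nat.le_mul_self f
  have hfeven : f % 2 = 0 := by
    have h := H.parity d
    rw [← hn, heven, ← hi] at h
    have hev : f * (f - 1) % 2 = 0 := Nat.even_iff.1 (Nat.even_mul_pred_self f)
    have hz : e * (f * (f - 1)) % 2 = 0 := by rw [Nat.mul_mod, hev, mul_zero, Nat.zero_mod]
    omega
  set ep := (swapsIn (cls z) a b).card with hep'
  have hdeg := H.degree_eq d
  rw [← hn, ← hi, ← hep'] at hdeg
  have hep : ep = 1 ∨ ep = 10 ∨ ep = 15 ∨ ep = 16 := by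
    rcases H.swap_cases d with h | ⟨w, h⟩
    · exact Or.inr (Or.inl h.count)
    · rcases h.count with ⟨-, h1 | h16⟩ | ⟨-, h15, -⟩
      exacts [Or.inl h1, Or.inr (Or.inr (Or.inr h16)), Or.inr (Or.inr (Or.inl h15))]
  have hin : i ≤ n := by rw [hi, hn]; exact Finset.card_le_univ _
  have hn2 : 2 ≤ n := Finset.one_lt_card.2 ⟨a, Finset.mem_univ a, b, Finset.mem_univ b, d.ne⟩
  -- the point stabiliser
  have hY : Nat.card (stabilizer G a) = (n - 1) * 60 := H.card_stab d
  have h8 : ¬ 8 ∣ Nat.card (stabilizer G a) := by rw [hY]; omega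
  haveI hVk := H.klein d
  have hVY : four z a b ≤ stabilizer G a := inf_le_right.trans inf_le_left
  set V' := (four z a b).subgroupOf (stabilizer G a) with hV'
  haveI : IsKleinFour V' := by
    haveI : Nontrivial V' := ⟨⟨⟨⟨z, hVY (z_mem_four d)⟩, z_mem_four d⟩, 1,
      fun e => d.ne_one (congrArg Subtype.val (congrArg Subtype.val e))⟩⟩
    refine ⟨?_, (Monoid.exponent_eq_prime_iff Nat.prime_two).2 fun g hg =>
      orderOf_eq_prime (Subtype.ext (Subtype.ext ?_)) hg⟩
    · rw [hV', Nat.card_congr (Subgroup.subgroupOfEquivOfLe hVY).toEquiv, H.card_four d]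
    · rw [Subgroup.coe_pow, Subgroup.coe_pow, pow_two]
      exact H.four_sq d g.2
  have hns : ¬ Group.IsSolvable (stabilizer G a) := by
    intro hs
    obtain ⟨φ⟩ := H.iso a b d.ne
    haveI := hs
    haveI : Group.IsSolvable (two G a b) :=
      Group.isSolvable_of_isSolvable_injective (f := Subgroup.inclusion (inf_le_left : two G a b ≤ stabilizer G a))
        (Subgroup.inclusion_injective _)
    haveI : Group.IsSolvable (alternatingGroup (Fin 5)) :=
      Group.isSolvable_of_surjective (f := φ.toMonoidHom) φ.surjective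
    have hc := IsSimpleGroup.comm_iff_isSolvable.mpr (inferInstance : Group.IsSolvable (alternatingGroup (Fin 5)))
    obtain ⟨v, hv, hv1, hvz⟩ := H.exists_other d
    have h4 := A5.card_commute (φ ⟨z, d.mem⟩)
      (by rw [← map_mul, ← map_one φ]; exact congrArg φ (Subtype.ext d.sq))
      (fun h => d.ne_one (congrArg Subtype.val (φ.injective (h.trans (map_one φ).symm))))
    rw [Finset.filter_true_of_mem fun y _ => hc y _, Finset.card_univ, ← Nat.card_eq_fintype_card,
      nat_card_alternatingGroup, Nat.card_fin] at h4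
    exact absurd h4 (by decide)
  obtain ⟨g, h, hg, hh, hidx, hcen, hsimp⟩ := four_sylow V' h8 hns
    (z := ⟨z, hVY (z_mem_four d)⟩) (z_mem_four d) (fun e => d.ne_one (congrArg Subtype.val e))
  -- the centralisers in the stabiliser
  have hCz : Nat.card (Subgroup.centralizer ({(⟨z, hVY (z_mem_four d)⟩ : stabilizer G a)} : Set (stabilizer G a))) =
      (i - 1) * 4 := by
    rw [card_centralizer_inf, inf_comm]
    exact H.card_cent_stab d
  have hloc : Subgroup.centralizer ({z} : Set G) ⊓ Subgroup.normalizer (four z a b : Set G) ⊓ stabilizer G a ≤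
      Subgroup.centralizer (four z a b : Set G) := fun m hm => by
    obtain ⟨⟨h1, h2⟩, h3⟩ := And.imp_left Subgroup.mem_inf.1 (Subgroup.mem_inf.1 hm)
    exact centralizes_of_normalizes hVY h8 (z_mem_four d) d.ne_one h3 (mem_cent.1 h1) h2
  have hCV : Nat.card (Subgroup.centralizer (V' : Set (stabilizer G a))) = (f - 1) * 4 := by
    rw [hf, ← H.card_local_stab d]
    refine Nat.card_congr
      { toFun := fun g => ⟨g.1.1, Subgroup.mem_inf.2 ⟨centralizer_four_le d
          (Subgroup.mem_centralizer_iff.2 fun v hv =>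
            congrArg Subtype.val (Subgroup.mem_centralizer_iff.1 g.2 ⟨v, hVY hv⟩ hv)), g.1.2⟩⟩
        invFun := fun g => ⟨⟨g.1, (Subgroup.mem_inf.1 g.2).2⟩, Subgroup.mem_centralizer_iff.2
          fun v hv => Subtype.ext (Subgroup.mem_centralizer_iff.1 (hloc g.2) v.1 hv)⟩
        left_inv := fun g => rfl
        right_inv := fun g => rfl }
  rw [hCz, hCV] at hcen
  set idx := (Subgroup.centralizer
    ({(⟨z, hVY (z_mem_four d)⟩ : stabilizer G a)} : Set (stabilizer G a))).index with hidxdef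
  have hidxcard : idx * ((i - 1) * 4) = (n - 1) * 60 := by
    rw [hidxdef, ← hCz, Subgroup.index_mul_card, hY]
  -- the two equations
  have hif : f ≤ i := by omega
  have hi1 : i - 1 = g * h * (f - 1) := by
    have : (i - 1) * 4 = g * h * (f - 1) * 4 := by rw [hcen]; ring
    omega
  have hval : idx = 15 + ep * i := by
    have h1 : idx * (i - 1) = 15 * (n - 1) := by
      have : idx * (i - 1) * 4 = 15 * (n - 1) * 4 := by rw [mul_assoc, hidxcard]; ring
      omega
    have h2 : 15 * (n - 1) = (15 + ep * i) * (i - 1) := by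
      have : n - 1 = (n - i) + (i - 1) := by omega
      rw [this, Nat.mul_add, hdeg]; ring
    exact Nat.eq_of_mul_eq_mul_right (show 0 < i - 1 by omega) (h1.trans h2)
  have hgh : g * h = 1 + e * f := by
    refine Nat.eq_of_mul_eq_mul_right (show 0 < f - 1 by omega) ?_
    rw [← hi1, hie]
    obtain ⟨k, hk⟩ : ∃ k, f = k + 1 := ⟨f - 1, by omega⟩
    rw [hk, Nat.add_sub_cancel, Nat.add_right_comm, Nat.add_sub_cancel]
    ring
  rw [hval] at hidx
  have he : e = 1 ∨ e = 2 := by
    rcases Nat.eq_zero_or_pos e with rfl | he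
    · exfalso
      rw [zero_mul, add_zero] at hgh
      obtain rfl : g = 1 := Nat.eq_one_of_mul_eq_one_right hgh
      obtain rfl : h = 1 := by omega
      rcases hidx with h15 | ⟨h2, -⟩
      · have h0 : ep * i = 0 := by norm_num at h15; omega
        rcases mul_eq_zero.1 h0 with h0 | h0 <;> omega
      · omega
    · omega
  have hsol := Arith.solve (i := i) hg hf2 hfeven he hep hgh (by
    rw [hie, Nat.mul_sub_one]
    have : e * (f * f - f) + e * f = e * (f * f) := by rw [← Nat.mul_add, Nat.sub_add_cancel hff]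
    omega) hidx
  have hpp : ∀ k, f = k → (k = 24 ∨ k = 30) → False := by
    intro k hk h
    obtain ⟨p, j, hp, hpj⟩ := H.fxs_prime_power d hloc (by rw [← hf, hk]; omega)
    rw [← hf, hk] at hpj
    have h2 : 2 ∣ p ^ j := hpj ▸ by omega
    have h3 : 3 ∣ p ^ j := hpj ▸ by omega
    have e2 := (Nat.prime_dvd_prime_iff_eq Nat.prime_two hp).1 (Nat.prime_two.dvd_of_dvd_pow h2)
    have e3 := (Nat.prime_dvd_prime_iff_eq Nat.prime_three hp).1 (Nat.prime_three.dvd_of_dvd_pow h3)
    omega
  obtain ⟨he1, hep10, hg1, hf2'⟩ := hsol.resolve_right fun h =>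
    h.elim (fun h => hpp 24 h (Or.inl rfl)) (fun h => hpp 30 h (Or.inr rfl))
  have hi4 : i = 4 := by rw [hie, he1, hf2']
  rw [hi4, hep10] at hdeg
  have hn12 : n = 12 := by omega
  refine ⟨hn12, ?_⟩
  have hsY : IsSimpleGroup (stabilizer G a) := hsimp hg1 (by rw [hCV, hf2'])
  have hprim : IsPreprimitive G Ω := isPreprimitive_of_is_two_pretransitive H.trans
  haveI : Nontrivial G := ⟨⟨z, 1, d.ne_one⟩⟩
  haveI : IsSimpleGroup G := ⟨fun N hN => by
    haveI := hN
    rcases eq_or_ne N ⊥ with hN0 | hN0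
    · exact Or.inl hN0
    right
    haveI hNt := Perm.isPretransitive_of_normal (α := Ω) hN0
    rcases hsY.eq_bot_or_eq_top_of_normal (N.subgroupOf (stabilizer G a)) inferInstance with hb | ht
    · exfalso
      refine hnr N hN hNt fun x => (Subgroup.eq_bot_iff_forall _).2 fun m hm => ?_
      obtain ⟨k, hk⟩ := exists_smul_eq N a x
      have hmem : ((k⁻¹ * m * k : N) : G) ∈ stabilizer G a := by
        have hm' : (m : G) • x = x := hm
        rw [mem_stabilizer_iff, Subgroup.coe_mul, Subgroup.coe_mul, Subgroup.coe_inv, mul_smul, mul_smul,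
          show (k : G) • a = x from hk, hm', inv_smul_eq_iff]
        exact hk.symm
      have h1 := (Subgroup.eq_bot_iff_forall _).1 hb ⟨_, hmem⟩
        (by rw [Subgroup.mem_subgroupOf]; exact (k⁻¹ * m * k : N).2)
      have h2 : k⁻¹ * m * k = 1 := Subtype.ext (congrArg (fun t : stabilizer G a => (t : G)) h1)
      calc m = k * (k⁻¹ * m * k) * k⁻¹ := by group
        _ = 1 := by rw [h2]; group
    · have hle : stabilizer G a ≤ N := Subgroup.subgroupOf_eq_top.1 ht
      rw [eq_top_iff, ← Perm.stabilizer_sup_eq_top hNt a]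
      exact sup_le hle le_rfl⟩
  exact Order7920.nonempty_mulEquiv_M11 (by rw [H.card_group d, ← hn, hn12])

end Hyp

end Cfsg.Agent.TwoTransFour
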