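import Cfsg.Agent.Lib.TwoTransFour.Swap
import Mathlib.GroupTheory.Perm.Cycle.Type

/-!
# Two-point stabiliser `A₅`: elements fixing a single common fixed point
-/

set_option autoImplicit false
set_option linter.unusedSectionVars false
set_option linter.style.haveILetI false

namespace Cfsg.Agent.TwoTransFour

open MulAction

variable {G : Type*} [Group G] {Ω : Type*} [MulAction G Ω]

/-- In a subgroup of order not divisible by 8 a 2-element normalising a four group lies in it. -/
theorem mem_of_two_element [Finite G] {K V : Subgroup G} [hV : IsKleinFour V] (hVK : V ≤ K)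
    (h8 : ¬ 8 ∣ Nat.card K) {x : G} (hx : IsPGroup 2 (Subgroup.zpowers x)) (hxK : x ∈ K)
    (hxN : x ∈ Subgroup.normalizer (V : Set G)) : x ∈ V := by
  haveI : Fact (Nat.Prime 2) := ⟨Nat.prime_two⟩
  have hV2 : IsPGroup 2 V := IsPGroup.of_card (n := 2) (by rw [hV.card_four]; norm_num)
  have hpU := hV2.to_sup_of_normal_left' hx (Subgroup.zpowers_le.2 hxN)
  obtain ⟨k, hk⟩ := IsPGroup.iff_card.1 hpU
  have hk2 : k ≤ 2 := by
    by_contra hlt
    refine h8 ((show 8 ∣ 2 ^ k from (show (8 : ℕ) = 2 ^ 3 from rfl) ▸ pow_dvd_pow 2 (by omega)).trans ?_)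
    rw [← hk]
    exact Subgroup.card_dvd_of_le (sup_le hVK (Subgroup.zpowers_le.2 hxK))
  have hpow : 2 ^ k ≤ 2 ^ 2 := Nat.pow_le_pow_right (by norm_num) hk2
  have heq := Subgroup.eq_of_le_of_card_ge (H := V) (K := V ⊔ Subgroup.zpowers x) le_sup_left
    (by rw [hk, hV.card_four]; exact hpow.trans (by norm_num))
  rw [heq]
  exact Subgroup.mem_sup_right (Subgroup.mem_zpowers _)

/-- An involutory map on a finite set fixes as many points as the set has, modulo 2. -/
theorem card_fixed_mod_two [DecidableEq Ω] (S : Finset Ω) (t : G) (hmap : ∀ x ∈ S, t • x ∈ S)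
    (hsq : ∀ x ∈ S, t • t • x = x) :
    (S.filter fun x => t • x = x).card % 2 = S.card % 2 := by
  let σ : Function.End {x // x ∈ S} := fun x => ⟨t • x.1, hmap x.1 x.2⟩
  haveI : Fact (Nat.Prime 2) := ⟨Nat.prime_two⟩
  have h2 : σ ^ 2 ^ 1 = 1 := by
    funext x
    exact Subtype.ext (hsq x.1 x.2)
  have h := Equiv.Perm.card_fixedPoints_modEq (α := {x // x ∈ S}) h2
  rw [Fintype.card_coe, ← Nat.card_eq_fintype_card] at h
  rw [← Nat.card_eq_finsetCard, h]
  congr 1
  exact Nat.card_congr
    { toFun := fun x => ⟨⟨x.1, (Finset.mem_filter.1 x.2).1⟩, Subtype.ext (Finset.mem_filter.1 x.2).2⟩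
      invFun := fun x => ⟨x.1.1, Finset.mem_filter.2 ⟨x.1.2, congrArg Subtype.val x.2⟩⟩
      left_inv := fun x => rfl
      right_inv := fun x => rfl }

namespace Hyp

variable (H : Hyp G Ω) [Fintype Ω] [Fintype G]
include H

variable {a b : Ω} {z : G} (d : Datum a b z)
include d

/-- An involution of `C(z)` fixing two common fixed points lies in `vset`. -/
theorem vset_of_fixes {x : G} (h1 : x * z = z * x) (hx1 : x ≠ 1) (hxz : x ≠ z)
    {c e : Ω} (hc : c ∈ fx Ω z) (he : e ∈ fx Ω z) (hce : c ≠ e) (hxc : x • c = c) (hxe : x • e = e) :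
    x ∈ vset Ω z :=
  mem_vset.2 ⟨h1, hx1, hxz, c, e, hce, mem_fx.1 hc, mem_fx.1 he, hxc, hxe⟩

/-- An element of `C(z)` outside the four group with square in it fixes at most one of its fixed points. -/
theorem single_fixed [DecidableEq Ω] {x : G} (hx : x ∈ Subgroup.centralizer ({z} : Set G) ⊓
      Subgroup.normalizer (four z a b : Set G)) (hsq : x * x ∈ four z a b) (hxW : x ∉ four z a b)
    (hodd : (fxs Ω (four z a b)).card % 2 = 1) :
    ((fxs Ω (four z a b)).filter fun y => x • y = y).card = 1 := by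
  obtain ⟨h1, h2⟩ := Subgroup.mem_inf.1 hx
  have hle : ((fxs Ω (four z a b)).filter fun y => x • y = y).card ≤ 1 := by
    rw [Finset.card_le_one]
    intro c hc e he
    rw [Finset.mem_filter] at hc he
    by_contra hce
    exact hxW (H.four_eq d hc.1 he.1 hce ▸ mem_four.2 ⟨mem_cent.1 h1, hc.2, he.2⟩)
  have h := card_fixed_mod_two (fxs Ω (four z a b)) x (fun y hy => fxs_smul h2 hy)
    (fun y hy => by rw [← mul_smul]; exact mem_fxs.1 hy _ hsq)
  omega

/-- **Uniqueness**: modulo the four group `W = C(z) ∩ G_ab`, at most one element of square in `W` fixes a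
given fixed point of `W` when their number is odd. -/
theorem coset_unique {x u : G}
    (hx : x ∈ Subgroup.centralizer ({z} : Set G) ⊓ Subgroup.normalizer (four z a b : Set G))
    (hxsq : x * x ∈ four z a b) (hxW : x ∉ four z a b) (hxa : x • a = a)
    (hu : u ∈ Subgroup.centralizer ({z} : Set G) ⊓ Subgroup.normalizer (four z a b : Set G))
    (husq : u * u ∈ four z a b) (huW : u ∉ four z a b) (hua : u • a = a)
    (hodd : (fxs Ω (four z a b)).card % 2 = 1) : x⁻¹ * u ∈ four z a b := by
  classical
  set W := four z a b with hW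
  set M := Subgroup.centralizer ({z} : Set G) ⊓ Subgroup.normalizer (W : Set G) with hM
  let U : Finset G := Finset.univ.filter fun y => y ∈ M ∧ y * y ∈ W ∧ y ∉ W
  have hWM : W ≤ M := le_inf inf_le_left Subgroup.le_normalizer
  have hnorm : ∀ g ∈ M, ∀ w, g * w * g⁻¹ ∈ W ↔ w ∈ W := fun g hg w =>
    ((Subgroup.mem_normalizer_iff.1 (Subgroup.mem_inf.1 hg).2) w).symm
  have hswap := card_fix_eq_card_swap M U (fxs Ω W) (mem_fxs_left d) (mem_fxs_right d) d.ne
    (fun c hc e he hne => H.witt_four d hc he hne)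
    (fun g hg t ht => by
      simp only [U, Finset.mem_filter, Finset.mem_univ, true_and] at ht ⊢
      refine ⟨mul_mem (mul_mem hg ht.1) (inv_mem hg), ?_, fun h => ht.2.2 ((hnorm g hg t).1 h)⟩
      rw [conj_mul]; exact (hnorm g hg _).2 ht.2.1)
    (fun t ht y hy => by
      simp only [U, Finset.mem_filter, Finset.mem_univ, true_and] at ht
      exact fxs_smul (Subgroup.mem_inf.1 ht.1).2 hy)
    (fun t ht y hy => by
      simp only [U, Finset.mem_filter, Finset.mem_univ, true_and] at ht
      rw [← mul_smul]; exact mem_fxs.1 hy _ ht.2.1)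
    (fun t ht => by
      simp only [U, Finset.mem_filter, Finset.mem_univ, true_and] at ht
      exact H.single_fixed d ht.1 ht.2.1 ht.2.2 hodd)
  have h4 : (U.filter fun t => t • a = b ∧ t • b = a).card ≤ 4 := H.card_swappers_le d fun t ht => by
    simp only [U, Finset.mem_filter, Finset.mem_univ, true_and] at ht
    exact ⟨mem_cent.1 (Subgroup.mem_inf.1 ht.1.1).1, ht.2⟩
  rw [← hswap] at h4
  -- the coset `x W` fills the stabiliser of `a`
  by_contra hne
  let C : Finset G := (Finset.univ.filter fun w => w ∈ W).image fun w => x * w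
  have hC : C.card = 4 := by
    rw [Finset.card_image_of_injective _ (fun w w' e => mul_left_cancel e), ← H.card_four d,
      Nat.card_eq_fintype_card, Fintype.card_subtype]
  have hCU : insert u C ⊆ U.filter fun t => t • a = a := by
    intro y hy
    simp only [U, Finset.mem_filter, Finset.mem_univ, true_and]
    rcases Finset.mem_insert.1 hy with rfl | hy
    · exact ⟨⟨hu, husq, huW⟩, hua⟩
    · obtain ⟨w, hw, rfl⟩ := Finset.mem_image.1 hy
      rw [Finset.mem_filter] at hw
      refine ⟨⟨mul_mem hx (hWM hw.2), ?_, fun h => hxW ((W.mul_mem_cancel_right hw.2).1 h)⟩, ?_⟩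
      · rw [show x * w * (x * w) = x * w * x⁻¹ * (x * x) * w by group]
        exact mul_mem (mul_mem ((hnorm x hx w).2 hw.2) hxsq) hw.2
      · rw [mul_smul, (mem_four.1 hw.2).2.1, hxa]
  have huC : u ∉ C := fun h => hne (by
    obtain ⟨w, hw, rfl⟩ := Finset.mem_image.1 h
    rw [inv_mul_cancel_left]
    exact (Finset.mem_filter.1 hw).2)
  have := Finset.card_le_card hCU
  rw [Finset.card_insert_of_notMem huC, hC] at this
  omega

end Hyp

end Cfsg.Agent.TwoTransFour
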