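import Cfsg.Agent.Lib.TwoTransFour.OddCentralFinal

/-!
# 2-transitive groups without regular normal subgroup whose two-point stabilisers are `A₅`

`n = 7` and `G ≅ A₇`, or `n = 12` and `G ≅ M₁₁`.
-/

set_option autoImplicit false
set_option linter.unusedSectionVars false
set_option linter.style.haveILetI false

namespace Cfsg.Agent.TwoTransFour

open MulAction

universe u

variable {G : Type u} [Group G] {Ω : Type*} [MulAction G Ω]

/-- Two-point stabilisers of a 2-transitive group are isomorphic. -/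
theorem hyp_of_iso (h2 : IsMultiplyPretransitive G Ω 2) {a b : Ω} (hab : a ≠ b)
    (e : two G a b ≃* alternatingGroup (Fin 5)) : Hyp G Ω := by
  refine ⟨h2, fun c d hcd => ?_⟩
  obtain ⟨g, h1, h2'⟩ := Perm.exists_smul_eq_two h2 hab hcd
  have hmap : (two G a b).map (MulAut.conj g).toMonoidHom = two G c d := by
    ext x
    rw [Subgroup.mem_map]
    refine ⟨?_, fun hx => ⟨g⁻¹ * x * g, ?_, by simp [mul_assoc]⟩⟩
    · rintro ⟨y, hy, rfl⟩
      exact (two_conj h1 h2').2 hy
    · rw [← two_conj h1 h2' (x := g⁻¹ * x * g), show g * (g⁻¹ * x * g) * g⁻¹ = x by group]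
      exact hx
  exact ⟨((MulEquiv.subgroupCongr hmap.symm).trans
    ((two G a b).equivMapOfInjective (MulAut.conj g).toMonoidHom (MulEquiv.injective _)).symm).trans e⟩

namespace Hyp

variable (H : Hyp G Ω) [Fintype Ω] [Fintype G]
include H

theorem two_not_solvable {a b : Ω} {z : G} (d : Datum a b z) : ¬ Group.IsSolvable (two G a b) := by
  intro hs
  obtain ⟨φ⟩ := H.iso a b d.ne
  haveI := hs
  haveI : Group.IsSolvable (alternatingGroup (Fin 5)) :=
    Group.isSolvable_of_surjective (f := φ.toMonoidHom) φ.surjective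
  have hc := IsSimpleGroup.comm_iff_isSolvable.mpr (inferInstance : Group.IsSolvable (alternatingGroup (Fin 5)))
  have h4 := A5.card_commute (φ ⟨z, d.mem⟩)
    (by rw [← map_mul, ← map_one φ]; exact congrArg φ (Subtype.ext d.sq))
    (fun h => d.ne_one (congrArg Subtype.val (φ.injective (h.trans (map_one φ).symm))))
  rw [Finset.filter_true_of_mem fun y _ => hc y _, Finset.card_univ, ← Nat.card_eq_fintype_card,
    nat_card_alternatingGroup, Nat.card_fin] at h4
  exact absurd h4 (by decide)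

/-- The central case does not occur in odd degree. -/
theorem central_false [FaithfulSMul G Ω] {a b : Ω} {z w : G} (d : Datum a b z)
    (hodd : Fintype.card Ω % 2 = 1) (hC : Central a b z w)
    (hnr : ∀ N : Subgroup G, N.Normal → IsPretransitive N Ω → (∀ x : Ω, stabilizer N x = ⊥) → False) :
    False := by
  classical
  have hwcls := H.central_cls d hodd hC hnr
  obtain ⟨-, hcount⟩ := hC.count.resolve_right fun h => h.1 hwcls
  obtain ⟨hwa, hwb⟩ := hC.swap
  obtain ⟨g, hg⟩ := mem_cls.1 hwcls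
  have hw1 : w ≠ 1 := fun e => d.ne (by rw [← hwa, e, one_smul])
  have hclseq : cls w = cls z := by
    ext x
    rw [mem_cls, mem_cls]
    constructor
    · rintro ⟨k, rfl⟩; exact ⟨k * g, by rw [← hg]; group⟩
    · rintro ⟨k, rfl⟩; exact ⟨k * g⁻¹, by rw [← hg]; group⟩
  have hfxw : (fx Ω w).card = (fx Ω z).card := by rw [← hg]; exact fx_conj d g
  obtain ⟨hiodd, hfodd, hf3⟩ := H.odd_parity d hodd
  set V := four z a b with hV
  -- a fixed point of `w` on `fxs V`
  have hwN : w ∈ Subgroup.normalizer (V : Set G) := Subgroup.centralizer_le_normalizer _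
    (Subgroup.mem_centralizer_iff.2 fun v hv => (hC.comm v (Subgroup.mem_inf.1 hv).2).symm)
  obtain ⟨c, hc⟩ := Finset.card_pos.1 (show 0 < ((fxs Ω V).filter fun p => w • p = p).card by
    have h := card_fixed_mod_two (fxs Ω V) w (fun p hp => fxs_smul hwN hp)
      (fun p _ => by rw [← mul_smul, hC.sq, one_smul])
    omega)
  rw [Finset.mem_filter] at hc
  obtain ⟨hcV, hwc⟩ := hc
  obtain ⟨e, hew, hec⟩ : ∃ e, e ∈ fx Ω w ∧ e ≠ c := by
    have : 1 < (fx Ω w).card := by
      rw [hfxw]
      exact lt_of_lt_of_le Nat.one_lt_two ((H.two_le_fxs d).trans (H.fxs_le_fx d))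
    exact Finset.exists_mem_ne this c
  have δ : Datum c e w := ⟨hec.symm, mem_two.2 ⟨hwc, mem_fx.1 hew⟩, hC.sq, hw1⟩
  -- the element of order 3
  obtain ⟨φ⟩ := H.iso a b d.ne
  obtain ⟨τ, hτne, hτc, hτ3⟩ := A5.exists_cycler (φ ⟨z, d.mem⟩)
    (by rw [← map_mul, ← map_one φ]; exact congrArg φ (Subtype.ext d.sq))
    (fun h => d.ne_one (congrArg Subtype.val (φ.injective (h.trans (map_one φ).symm))))
  obtain ⟨T, rfl⟩ := φ.surjective τ
  set t : G := T.1 with ht
  have ht3 : t * t * t = 1 := by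
    rw [← map_mul, ← map_mul, ← map_one φ] at hτ3
    exact congrArg Subtype.val (φ.injective hτ3)
  set z' := t * z * t⁻¹ with hz'
  have hz'ne : z' ≠ z := fun h => hτne (by
    rw [← map_inv, ← map_mul, ← map_mul]; exact congrArg φ (Subtype.ext h))
  have hz'c : z' * z = z * z' := by
    rw [← map_inv, ← map_mul, ← map_mul, ← map_mul, ← map_mul] at hτc
    exact congrArg Subtype.val (φ.injective hτc)
  have htD : t ∈ two G a b := T.2
  have hz'D : z' ∈ two G a b := mul_mem (mul_mem htD d.mem) (inv_mem htD)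
  have hz'V : z' ∈ V := Subgroup.mem_inf.2 ⟨mem_cent.2 hz'c, hz'D⟩
  have hz'sq : z' * z' = 1 := by rw [hz', conj_mul, d.sq]; group
  have hz'1 : z' ≠ 1 := fun h => d.ne_one (conj_eq_one_iff.1 h)
  have d' : Datum a b z' := ⟨d.ne, hz'D, hz'sq, hz'1⟩
  haveI := H.klein d
  have hVV : V ≤ four z' a b := fun v hv => Subgroup.mem_inf.2
    ⟨mem_cent.2 (H.four_comm d hv hz'V), (Subgroup.mem_inf.1 hv).2⟩
  have hVeq : four z' a b = V :=
    (Subgroup.eq_of_le_of_card_ge hVV (by rw [H.card_four d, H.card_four d'])).symm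
  have htV : ∀ v ∈ V, t * v * t⁻¹ ∈ V := fun v hv => by
    rw [← hVeq]
    refine Subgroup.mem_inf.2 ⟨mem_cent.2 ?_, mul_mem (mul_mem htD (Subgroup.mem_inf.1 hv).2) (inv_mem htD)⟩
    rw [hz', conj_mul, conj_mul, (mem_four.1 hv).1]
  have htne : ∀ v ∈ V, v ≠ 1 → t * v * t⁻¹ ≠ v := by
    intro v hv hv1 hfix
    have hvz : v ≠ z := fun h => hz'ne (by rw [hz', ← h]; exact hfix)
    have hvz' : z' ≠ v := fun h => by
      have : t * z * t⁻¹ = t * v * t⁻¹ := by rw [← hz', h, hfix]
      exact hvz (mul_left_cancel (mul_right_cancel this)).symm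
    have hzv : z' = z * v := by
      rcases H.four_cases d hv hv1 hvz hz'V with h | h | h | h
      exacts [absurd h hz'1, absurd h hz'ne, absurd h hvz', h]
    have htz' : t * z' * t⁻¹ = z := by
      rw [hzv, ← conj_mul, hfix, ← hz', hzv, mul_assoc, H.four_sq d hv, mul_one]
    refine hz'ne ?_
    calc z' = t * (t * (t * z * t⁻¹) * t⁻¹) * t⁻¹ := by rw [← hz', htz', hz']
      _ = (t * t * t) * z * (t * t * t)⁻¹ := by group
      _ = z := by rw [ht3]; group
  have hwV : w ∉ V := fun h => d.ne (by rw [← hwa, (mem_four.1 h).2.1])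
  have hwt : t * w = w * t := (hC.comm t htD).symm
  have htc : t • c = c := by
    by_contra hne
    have hfix : ∀ v ∈ V, v • (t • c) = t • c := fun v hv => by
      have h := htV _ (htV v hv)
      have hvt : t⁻¹ * v * t ∈ V := by
        rw [show t⁻¹ * v * t = t * (t * v * t⁻¹) * t⁻¹ by
          calc t⁻¹ * v * t = t⁻¹ * ((t * t * t) * v * (t * t * t)⁻¹) * t := by rw [ht3]; group
            _ = t * (t * v * t⁻¹) * t⁻¹ := by group]
        exact h
      have h2 := mem_fxs.1 hcV _ hvt
      rwa [mul_smul, mul_smul, inv_smul_eq_iff] at h2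
    have hwtc : w • (t • c) = t • c := by rw [← mul_smul, ← hwt, mul_smul, hwc]
    have δ3 : Datum c (t • c) w := ⟨Ne.symm hne, mem_two.2 ⟨hwc, hwtc⟩, hC.sq, hw1⟩
    have hle : V ≤ four w c (t • c) := fun v hv => mem_four.2
      ⟨(hC.comm v (Subgroup.mem_inf.1 hv).2).symm, mem_fxs.1 hcV v hv, hfix v hv⟩
    exact hwV ((Subgroup.eq_of_le_of_card_ge hle (by rw [H.card_four d, H.card_four δ3])) ▸ z_mem_four δ3)
  have E : Eight Ω V w t c :=
    { card := H.card_four d
      sq := fun v hv => H.four_sq d hv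
      comm := fun u hu v hv => H.four_comm d hu hv
      cent := fun v hv => (hC.comm v (Subgroup.mem_inf.1 hv).2).symm
      fix := fun v hv => mem_fxs.1 hcV v hv
      not_mem := hwV
      cycle_cent := hwt
      cycle_fix := htc
      cycle_cube := ht3
      cycle_mem := htV
      cycle_ne := htne
      moves := fun v hv hv1 => by
        by_contra hno
        push Not at hno
        obtain ⟨k, -, hk⟩ := H.invol_conj d.ne d.mem (Subgroup.mem_inf.1 hv).2 d.sq d.ne_one (H.four_sq d hv) hv1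
        have heq : fx Ω w = fx Ω v := Finset.eq_of_subset_of_card_le (fun x hx => mem_fx.2 (hno x hx))
          (by rw [hfxw, ← hk, fx_conj d k])
        have : a ∈ fx Ω w := heq ▸ mem_fx.2 (mem_four.1 hv).2.1
        exact d.ne ((mem_fx.1 this).symm.trans hwa) }
  refine H.eight_false δ E hodd (fun c' δ' => ?_) ⟨two G a b, fun x hx => mem_cent.2 (hC.comm x hx).symm,
    fun h => d.ne ((mem_two.1 h).1.symm.trans hwa), H.two_not_solvable d⟩
  refine (H.swap_cases δ').resolve_left fun hT => ?_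
  have h1 := H.degree_eq δ'
  rw [hT.count, hfxw, H.degree_eq d] at h1
  have hi2 : 2 ≤ (fx Ω z).card := (H.two_le_fxs d).trans (H.fxs_le_fx d)
  have h2 : (swapsIn (cls z) a b).card = 10 :=
    Nat.eq_of_mul_eq_mul_right (Nat.mul_pos (by omega) (by omega)) h1
  omega

end Hyp

/-- **The main theorem.** -/
theorem result_aux [Finite G] [Fintype Ω] [FaithfulSMul G Ω] (h2 : IsMultiplyPretransitive G Ω 2) {a b : Ω}
    (hab : a ≠ b)
    (hnr : ∀ N : Subgroup G, N.Normal → IsPretransitive N Ω → (∀ x : Ω, stabilizer N x = ⊥) → False)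
    (e : two G a b ≃* alternatingGroup (Fin 5)) :
    (Fintype.card Ω = 7 ∧ Nonempty (G ≃* alternatingGroup (Fin 7))) ∨
      (Fintype.card Ω = 12 ∧ Cfsg.Spor.IsoM11 G) := by
  haveI := Fintype.ofFinite G
  have H := hyp_of_iso h2 hab e
  haveI : Fact (Nat.Prime 2) := ⟨Nat.prime_two⟩
  obtain ⟨x, hx⟩ := exists_prime_orderOf_dvd_card' (G := two G a b) 2 (by rw [H.card_two hab]; norm_num)
  have d : Datum a b (x : G) := by
    refine ⟨hab, x.2, ?_, fun h => ?_⟩
    · rw [← pow_two, ← hx, ← Subgroup.orderOf_coe]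
      exact pow_orderOf_eq_one _
    · rw [← Subgroup.orderOf_coe, h, orderOf_one] at hx
      norm_num at hx
  rcases Nat.mod_two_eq_zero_or_one (Fintype.card Ω) with hn | hn
  · exact Or.inr (H.even_case d hnr hn)
  · rcases H.swap_cases d with hT | ⟨w, hC⟩
    · exact Or.inl (H.transposed_case d hn hT hnr)
    · exact (H.central_false d hn hC hnr).elim

end Cfsg.Agent.TwoTransFour
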