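import Cfsg.Agent.Lib.TwoTransFour.OddSquare
import Cfsg.Agent.Lib.TwoTransFour.Machine
import Cfsg.Agent.Lib.TwoTransFour.A7Facts
import Cfsg.Agent.Lib.Perm.SmallSuborbit
import Cfsg.Agent.Lib.Perm.BurnsideTwoTrans

/-!
# Two-point stabiliser `A₅`, odd degree, transposition case: `A₇` on 7 points

The Sylow 2-subgroups are dihedral of order 8; the Gorenstein-Walter theorem gives the socle.
-/

set_option autoImplicit false
set_option linter.unusedSectionVars false
set_option linter.style.haveILetI false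

namespace Cfsg.Agent.TwoTransFour

open MulAction
open scoped MatrixGroups

universe u

variable {G : Type u} [Group G] {Ω : Type*} [MulAction G Ω]

/-- A 2-transitive group without regular normal subgroup has trivial odd core. -/
theorem oddCore_eq_bot [Finite G] [Finite Ω] [FaithfulSMul G Ω] (h2 : IsMultiplyPretransitive G Ω 2)
    (hnr : ∀ N : Subgroup G, N.Normal → IsPretransitive N Ω → (∀ x : Ω, stabilizer N x = ⊥) → False) :
    Cfsg.oddCore G = ⊥ := by
  by_contra hne
  obtain ⟨N, ⟨hNn, hN0, hNO⟩, hmin⟩ := wellFounded_lt.has_min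
    {M : Subgroup G | M.Normal ∧ M ≠ ⊥ ∧ M ≤ Cfsg.oddCore G} ⟨_, inferInstance, hne, le_rfl⟩
  haveI := hNn
  haveI hprim : IsPreprimitive G Ω := isPreprimitive_of_is_two_pretransitive h2
  haveI : Nonempty Ω := by
    by_contra h
    exact hN0 (Perm.eq_bot_of_forall_smul_eq (α := Ω) fun g _ x => absurd ⟨x⟩ h)
  rcases Perm.burnside_two_transitive h2 N hN0 (fun M hM hMN => by
    by_contra hh
    push Not at hh
    exact hmin M ⟨hM, hh.1, hMN.trans hNO⟩ (lt_of_le_of_ne hMN hh.2)) with ⟨-, -, hreg⟩ | ⟨hs, -⟩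
  · exact hnr N hNn (Perm.isPretransitive_of_normal (α := Ω) hN0) hreg
  · haveI := hs
    haveI : Group.IsSolvable N := Cfsg.Agent.S0205.result
      (Odd.of_dvd_nat PCore.odd_card_oddCore (Subgroup.card_dvd_of_le hNO))
    haveI : IsMulCommutative N := ⟨⟨IsSimpleGroup.comm_iff_isSolvable.mpr inferInstance⟩⟩
    obtain ⟨ht, hreg, -⟩ := Perm.regular_of_abelian_normal (α := Ω) hN0
    exact hnr N hNn ht hreg

/-- A normal four group containing a reflection forces a dihedral group of order at most 8. -/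
theorem dihedral_four_normal {n : ℕ} [NeZero n] (W : Subgroup (DihedralGroup n)) (hW : W.Normal)
    (hcard : Nat.card W = 4) (hsq : ∀ w ∈ W, w * w = 1) : n ≤ 4 := by
  classical
  obtain ⟨j, hj⟩ : ∃ j, DihedralGroup.sr j ∈ W := by
    by_contra hno
    push Not at hno
    have hsub : (Finset.univ.filter fun g => g ∈ W) ⊆
        {1, DihedralGroup.r (DihedralSylow.half n)} := fun g hg => by
      have hgW := (Finset.mem_filter.1 hg).2
      rcases g with i | i
      · have := hsq _ hgW
        rw [DihedralGroup.r_mul_r, DihedralGroup.one_def, DihedralGroup.r.injEq] at this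
        rcases DihedralSylow.eq_zero_or_half this with h | h
        · rw [h]; exact Finset.mem_insert_self _ _
        · rw [h]; exact Finset.mem_insert_of_mem (Finset.mem_singleton_self _)
      · exact absurd hgW (hno i)
    have h := (Finset.card_le_card hsub).trans Finset.card_le_two
    rw [← Fintype.card_subtype, ← Nat.card_eq_fintype_card] at h
    rw [← Nat.card_congr (Equiv.refl W)] at hcard
    omega
  have hconj := hW.conj_mem _ hj (DihedralGroup.r 1)
  rw [DihedralGroup.inv_r, DihedralGroup.r_mul_sr, DihedralGroup.sr_mul_r] at hconj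
  have hprod := hsq _ (W.mul_mem hconj hj)
  rw [DihedralGroup.sr_mul_sr, DihedralGroup.r_mul_r, DihedralGroup.one_def, DihedralGroup.r.injEq] at hprod
  have h4 : ((4 : ℕ) : ZMod n) = 0 := by push_cast; linear_combination hprod
  rw [ZMod.natCast_eq_zero_iff] at h4
  exact Nat.le_of_dvd (by norm_num) h4

namespace Hyp

variable (H : Hyp G Ω) [Fintype Ω] [Fintype G]
include H

variable {a b : Ω} {z : G} (d : Datum a b z) (hodd : Fintype.card Ω % 2 = 1) (hO : Transposed a b z)
include d hodd hO

/-- **Odd degree, transposition case.** -/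
theorem transposed_case [FaithfulSMul G Ω]
    (hnr : ∀ N : Subgroup G, N.Normal → IsPretransitive N Ω → (∀ x : Ω, stabilizer N x = ⊥) → False) :
    Fintype.card Ω = 7 ∧ Nonempty (G ≃* alternatingGroup (Fin 7)) := by
  classical
  haveI : Fact (Nat.Prime 2) := ⟨Nat.prime_two⟩
  haveI hVk := H.klein d
  obtain ⟨hiodd, hfodd, hf3⟩ := H.odd_parity d hodd
  set f := (fxs Ω (four z a b)).card with hf
  set i := (fx Ω z).card with hi
  set n := Fintype.card Ω with hn
  obtain ⟨e, he2, hie, hesw⟩ := H.exists_e d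
  rw [← hi, ← hf] at hie
  have he1 : e ≤ 1 := by have := H.vset_swappers_le d hodd hO; omega
  obtain rfl : e = 0 := by
    by_contra hne
    obtain rfl : e = 1 := by omega
    exact H.no_square d hodd hO (by omega) (by rw [← hi, ← hf, hie, one_mul])
  rw [zero_mul, add_zero] at hie
  set W := four z a b with hW
  have hfx : fxs Ω W = fx Ω z := Finset.eq_of_subset_of_card_le (fxs_subset d) (by rw [← hf, ← hi, hie])
  set C := Subgroup.centralizer ({z} : Set G) with hC
  have hCN : C ≤ Subgroup.normalizer (W : Set G) := fun g hg =>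
    H.normalizes d hg (hfx ▸ fx_smul hg (mem_fx_left d)) (hfx ▸ fx_smul hg (mem_fx_right d)) rfl rfl
  have hCcard : Nat.card C = f * (f - 1) * 4 := by rw [H.card_cent d, ← hi, hie]
  have h16C : ¬ 16 ∣ Nat.card C := by
    have := H.local_sixteen d hodd hO
    rwa [inf_eq_left.2 hCN] at this
  have h8C : 8 ∣ Nat.card C := by
    obtain ⟨k, hk⟩ := Nat.even_mul_pred_self f
    rw [hCcard, hk]
    exact ⟨k, by ring⟩
  -- the index of `C(z)`
  have hdeg := H.degree_eq d
  rw [← hn, ← hi, hO.count] at hdeg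
  have hin : i ≤ n := by rw [hi, hn]; exact Finset.card_le_univ _
  have h15n : 15 * n = i * (10 * i + 5) := by
    obtain ⟨m, hm⟩ : ∃ m, n = i + m := ⟨n - i, by omega⟩
    obtain ⟨k, hk⟩ : ∃ k, i = k + 1 := ⟨i - 1, by omega⟩
    rw [hm, hk, Nat.add_sub_cancel_left, Nat.add_sub_cancel] at hdeg
    rw [hm, hk, Nat.mul_add, hdeg]; ring
  have h15n1 : 15 * (n - 1) = (i - 1) * (10 * i + 15) := by
    obtain ⟨k, hk⟩ : ∃ k, i = k + 1 := ⟨i - 1, by omega⟩
    rw [hk] at h15n ⊢
    rw [Nat.mul_sub_one, h15n, Nat.add_sub_cancel]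
    refine Nat.sub_eq_of_eq_add ?_
    ring
  have hG : Nat.card G = n * (n - 1) * 60 := H.card_group d
  have hidx : 15 * C.index = (10 * i + 5) * (10 * i + 15) := by
    refine Nat.eq_of_mul_eq_mul_right (show 0 < i * (i - 1) from Nat.mul_pos (by omega) (by omega)) ?_
    have h := C.index_mul_card
    rw [hCcard, ← hie, hG] at h
    calc 15 * C.index * (i * (i - 1)) = 15 * 15 * (n * (n - 1)) := by
          refine Nat.eq_of_mul_eq_mul_right (show 0 < 4 by norm_num) ?_
          calc 15 * C.index * (i * (i - 1)) * 4 = 15 * (C.index * (i * (i - 1) * 4)) := by ring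
            _ = 15 * 15 * (n * (n - 1)) * 4 := by rw [h]; ring
      _ = (15 * n) * (15 * (n - 1)) := by ring
      _ = (10 * i + 5) * (10 * i + 15) * (i * (i - 1)) := by rw [h15n, h15n1]; ring
  have hidxodd : C.index % 2 = 1 := by
    have h1 : (10 * i + 5) * (10 * i + 15) % 2 = 1 := by
      rw [Nat.mul_mod, show (10 * i + 5) % 2 = 1 by omega, show (10 * i + 15) % 2 = 1 by omega]
    omega
  have h16G : ¬ 16 ∣ Nat.card G := by
    rw [← C.index_mul_card]
    intro h
    exact h16C ((Nat.Coprime.dvd_of_dvd_mul_left (Nat.Coprime.pow_left 4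
      (Nat.coprime_two_left.2 (Nat.odd_iff.2 hidxodd)) : Nat.Coprime 16 C.index)) h)
  -- a dihedral Sylow 2-subgroup of order 8
  have hWC : W ≤ C := inf_le_left
  obtain ⟨K, hK8, hWK⟩ := Sylow.exists_subgroup_card_pow_succ (G := C) (p := 2) (n := 2)
    (show 2 ^ (2 + 1) ∣ _ from h8C) (H := W.subgroupOf C)
    (by rw [Nat.card_congr (Subgroup.subgroupOfEquivOfLe hWC).toEquiv, H.card_four d]; norm_num)
  set T : Subgroup G := K.map C.subtype with hT
  have hT8 : Nat.card T = 8 := by rw [hT, Subgroup.card_map_of_injective C.subtype_injective, hK8]; norm_num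
  have hWT : W ≤ T := fun w hw => ⟨⟨w, hWC hw⟩, hWK (Subgroup.mem_subgroupOf.2 hw), rfl⟩
  have hTC : T ≤ C := Subgroup.map_subtype_le _
  obtain ⟨S, hS⟩ := (IsPGroup.of_card (p := 2) (n := 3) (G := T) (by rw [hT8]; norm_num)).exists_le_sylow
  have hTS : T = (S : Subgroup G) := Subgroup.eq_of_le_of_card_ge hS (by
    obtain ⟨k, hk⟩ := IsPGroup.iff_card.1 S.2
    have hk3 : k ≤ 3 := by
      by_contra hlt
      exact h16G ((show 16 ∣ 2 ^ k from (show (16 : ℕ) = 2 ^ 4 from rfl) ▸ pow_dvd_pow 2 (by omega)).trans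
        (hk ▸ (S : Subgroup G).card_subgroup_dvd_card))
    rw [hk, hT8]
    exact (Nat.pow_le_pow_right (by norm_num) hk3).trans (by norm_num))
  obtain ⟨g, hgT, hgW⟩ : ∃ g ∈ T, g ∉ W := by
    by_contra hno
    push Not at hno
    have := Nat.le_of_dvd Nat.card_pos (Subgroup.card_dvd_of_le hno)
    rw [hT8, H.card_four d] at this
    omega
  have hg2 : g * g ∈ W := by
    have hidx2 : (W.subgroupOf T).index = 2 := by
      have := (W.subgroupOf T).index_mul_card
      rw [Nat.card_congr (Subgroup.subgroupOfEquivOfLe hWT).toEquiv, H.card_four d, hT8] at this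
      omega
    have := Subgroup.sq_mem_of_index_two hidx2 ⟨g, hgT⟩
    rw [pow_two, Subgroup.mem_subgroupOf] at this
    exact this
  obtain ⟨v, hv, hv1, hvz⟩ := H.exists_other d
  have hgC : g ∈ C := hTC hgT
  have hgz : g * z = z * g := mem_cent.1 hgC
  have hncg : g * v * g⁻¹ ≠ v := fun h => by
    have hgV : g ∈ Subgroup.centralizer (W : Set G) := Subgroup.mem_centralizer_iff.2 fun w hw => by
      rcases H.four_cases d hv hv1 hvz hw with rfl | rfl | rfl | rfl
      · simp
      · exact hgz.symm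
      · exact (mul_inv_eq_iff_eq_mul.1 h).symm
      · rw [mul_assoc, ← mul_inv_eq_iff_eq_mul.1 h, ← mul_assoc, ← hgz, mul_assoc]
    exact hgW (mem_of_two_element (H.four_le_centralizer d) (H.centralizer_eight d hodd hO)
      ((IsPGroup.of_card (p := 2) (n := 3) (G := T) (by rw [hT8]; norm_num)).to_le
        (Subgroup.zpowers_le.2 hgT)) hgV (hCN hgC))
  have hgvz : g * v * g⁻¹ = z * v := by
    rcases H.four_cases d hv hv1 hvz ((Subgroup.mem_normalizer_iff.1 (hCN hgC) v).1 hv) with h | h | h | h
    · exact absurd (conj_eq_one_iff.1 h) hv1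
    · exact absurd (mul_left_cancel (mul_right_cancel (h.trans (conj_cent hgC).symm))) hvz
    · exact absurd h hncg
    · exact h
  have hzv : z * v = v * z := H.four_comm d (z_mem_four d) hv
  have hgg : g * g = 1 ∨ g * g = z := by
    rcases H.four_cases d hv hv1 hvz hg2 with h | h | h | h
    · exact Or.inl h
    · exact Or.inr h
    · exact absurd (by rw [← h]; group) hncg
    · exfalso
      have e1 : g * (z * v) * g⁻¹ = z * v := by rw [← h]; group
      have e2 : g * (z * v) * g⁻¹ = v := by
        rw [← conj_mul, conj_cent hgC, hgvz, ← mul_assoc, d.sq, one_mul]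
      exact d.ne_one (mul_eq_right.1 (e1.symm.trans e2))
  obtain ⟨t, htT, htt, htW, htv⟩ : ∃ t ∈ T, t * t = 1 ∧ t ∉ W ∧ t * v * t⁻¹ = z * v := by
    rcases hgg with h | h
    · exact ⟨g, hgT, h, hgW, hgvz⟩
    · refine ⟨g * v, mul_mem hgT (hWT hv), ?_, fun h' => hgW ((W.mul_mem_cancel_right hv).1 h'), ?_⟩
      · calc g * v * (g * v) = (g * v * g⁻¹) * (g * g) * v := by group
          _ = z * (v * z) * v := by rw [hgvz, h]; group
          _ = (z * z) * (v * v) := by rw [← hzv]; group
          _ = 1 := by rw [d.sq, H.four_sq d hv, one_mul]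
      · calc g * v * v * (g * v)⁻¹ = g * v * g⁻¹ := by group
          _ = z * v := hgvz
  have hvv := H.four_sq d hv
  set r := t * v with hr
  have hrr : r * r = z := by
    have hti : t⁻¹ = t := inv_eq_of_mul_eq_one_right htt
    calc r * r = (t * v * t⁻¹) * (t * t) * v := by rw [hr]; group
      _ = z * (v * v) := by rw [htv, htt]; group
      _ = z := by rw [hvv, mul_one]
  have hrord : orderOf r = 4 := by
    refine orderOf_eq_prime_pow (p := 2) (n := 1) ?_ ?_
    · rw [pow_one, pow_two, hrr]; exact d.ne_one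
    · rw [show r ^ 2 ^ (1 + 1) = (r * r) * (r * r) by simp [pow_succ, mul_assoc], hrr, d.sq]
  have hti : t⁻¹ = t := inv_eq_of_mul_eq_one_right htt
  have hvi : v⁻¹ = v := inv_eq_of_mul_eq_one_right hvv
  have htr : t * r * t⁻¹ = r⁻¹ := by
    rw [hr, mul_inv_rev, hti, hvi, ← mul_assoc, htt, one_mul]
  have htnr : t ∉ Subgroup.zpowers r := by
    rintro ⟨j, hj⟩
    have hcomm : t * r * t⁻¹ = r := by
      rw [← hj]; group
    have h2 : r * r = 1 := by
      nth_rewrite 2 [← hcomm]
      rw [htr, mul_inv_cancel]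
    exact d.ne_one (hrr.symm.trans h2)
  obtain ⟨eT⟩ := Perm.nonempty_mulEquiv_dihedral (G := T) (t := ⟨t, htT⟩)
    (z := ⟨r, mul_mem htT (hWT hv)⟩) (m := 4) (by norm_num) (Subtype.ext htt)
    (by rw [Subgroup.orderOf_mk, hrord]) (Subtype.ext htr)
    (fun ⟨j, hj⟩ => htnr ⟨j, congrArg Subtype.val hj⟩) (by rw [hT8])
  have hd : GW.SubDihedral G :=
    GW.subDihedral_of_sylow S (by norm_num) ((MulEquiv.subgroupCongr hTS.symm).trans eT)
  -- the socle
  have hOc := oddCore_eq_bot H.trans hnr
  have h60 : 60 ∣ Nat.card G := hG ▸ dvd_mul_left 60 _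
  obtain ⟨E, hEn, hEs, hEk, -⟩ : ∃ E : Subgroup G, E.Normal ∧ IsSimpleGroup E ∧ GW.IsKnown E ∧
      Subgroup.centralizer (E : Set G) = ⊥ := by
    rcases GW.structure_of_oddCore_eq_bot hd (GW.knownSections GW.partTwo) hOc with h | ⟨⟨eq⟩⟩ | ⟨⟨eq⟩⟩ | h
    · exfalso
      obtain ⟨k, hk⟩ := IsPGroup.iff_card.1 h
      rw [hk] at h60
      have h5 := (Nat.prime_dvd_prime_iff_eq Nat.prime_five Nat.prime_two).1
        (Nat.prime_five.dvd_of_dvd_pow ((show 5 ∣ 60 by norm_num).trans h60))
      omega
    · rw [Nat.card_congr eq.toEquiv, nat_card_alternatingGroup, Nat.card_fin] at h60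
      exact absurd h60 (by decide)
    · rw [Nat.card_congr eq.toEquiv, Nat.card_perm, Nat.card_fin] at h60
      exact absurd h60 (by decide)
    · exact h
  haveI := hEn
  haveI := hEs
  have hEna := hEk.not_comm
  have hE2 := hEk.even_card
  have hE4 : 4 ∣ Nat.card E := by
    obtain ⟨R⟩ : Nonempty (Sylow 2 E) := inferInstance
    obtain ⟨k, hk⟩ := IsPGroup.iff_card.1 R.2
    have hk2 : 2 ≤ k := by
      by_contra hlt
      refine GW.not_complement_of_simple hEna hE2 (GW.hasNormalPComplement_of_cyclic_two R ?_)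
      interval_cases k
      · haveI : Subsingleton (R : Subgroup E) := (Nat.card_eq_one_iff_unique.1 (by simpa using hk)).1
        infer_instance
      · exact isCyclic_of_prime_card (p := 2) (by simpa using hk)
    exact ((show 4 ∣ 2 ^ k from (show (4 : ℕ) = 2 ^ 2 from rfl) ▸ pow_dvd_pow 2 hk2)).trans
      (hk ▸ (R : Subgroup E).card_subgroup_dvd_card)
  have hzE : z ∈ E := by
    obtain ⟨φ⟩ := H.iso a b d.ne
    haveI : IsSimpleGroup (two G a b) := φ.isSimpleGroup
    rcases (inferInstance : IsSimpleGroup (two G a b)).eq_bot_or_eq_top_of_normal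
      (E.subgroupOf (two G a b)) inferInstance with h | h
    · exfalso
      have hinj : Function.Injective ((QuotientGroup.mk' E).comp (two G a b).subtype) := by
        rw [injective_iff_map_eq_one]
        intro x hx
        exact (Subgroup.eq_bot_iff_forall _).1 h x
          (Subgroup.mem_subgroupOf.2 ((QuotientGroup.eq_one_iff (x : G)).1 hx))
      have hdv := Subgroup.card_dvd_of_injective _ hinj
      rw [H.card_two d.ne] at hdv
      have := Nat.mul_dvd_mul hdv hE4
      rw [← Subgroup.card_eq_card_quotient_mul_card_subgroup] at this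
      exact h16G ((show 16 ∣ 60 * 4 by norm_num).trans this)
    · exact Subgroup.subgroupOf_eq_top.1 h d.mem
  set x : E := ⟨z, hzE⟩ with hx
  have hxo : orderOf x = 2 := by rw [hx, Subgroup.orderOf_mk]; exact datum_order d
  set CE := E ⊓ C with hCE
  have hsup : E ⊔ C = ⊤ := eq_top_iff.2 fun g _ => by
    have hg : g * z * g⁻¹ ∈ E := hEn.conj_mem _ hzE g
    have ho : orderOf (⟨g * z * g⁻¹, hg⟩ : E) = 2 := by
      rw [Subgroup.orderOf_mk]
      refine orderOf_eq_prime (by rw [pow_two, conj_mul, d.sq]; group) fun h => d.ne_one (conj_eq_one_iff.1 h)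
    obtain ⟨l, hl⟩ := isConj_iff.1 (GW.isConj_invol_of_simple (hd.subgroup E) hEna hE2 hxo ho)
    have hl' : (l : G) * z * (l : G)⁻¹ = g * z * g⁻¹ := congrArg Subtype.val hl
    rw [← mul_inv_cancel_left (l : G) g]
    refine mul_mem (Subgroup.mem_sup_left l.2) (Subgroup.mem_sup_right (mem_cent.2 ?_))
    calc (l : G)⁻¹ * g * z = (l : G)⁻¹ * (g * z * g⁻¹) * g := by group
      _ = z * ((l : G)⁻¹ * g) := by rw [← hl']; group
  have hEC : Nat.card E = C.index * Nat.card CE := by
    have h1 : E.index = E.relIndex C := by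
      rw [← Subgroup.relIndex_top_right, ← hsup, Subgroup.relIndex_sup_left]
    have h2 : Nat.card CE * E.relIndex C = Nat.card C := by
      have h3 := (E.subgroupOf C).card_mul_index
      rw [Subgroup.relIndex]
      rw [← h3, ← Subgroup.card_map_of_injective C.subtype_injective (K := E.subgroupOf C),
        Subgroup.subgroupOf_map_subtype]
    refine Nat.eq_of_mul_eq_mul_right (show 0 < E.index from Nat.pos_of_ne_zero E.index_ne_zero_of_finite) ?_
    calc Nat.card E * E.index = C.index * Nat.card C := by rw [Subgroup.card_mul_index, Subgroup.index_mul_card]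
      _ = C.index * Nat.card CE * E.index := by rw [h1, ← h2]; ring
  rcases hEk with ⟨F, iF, iF', hF, hF3, ⟨eL⟩⟩ | ⟨⟨eA⟩⟩
  · exfalso
    have h2F : (2 : F) ≠ 0 := PSL2.odd_card_iff.1 hF
    have hxo' : orderOf (eL x) = 2 := by rw [MulEquiv.orderOf_eq, hxo]
    obtain ⟨hm1, hm3⟩ := PSL2.card_centralizer_involution h2F hxo'
    obtain ⟨m, hm, ⟨eD⟩⟩ := PSL2.dihedral_centralizer_involution h2F hxo'
    haveI : NeZero m := ⟨by rcases hm with ⟨rfl, -⟩ | ⟨rfl, -⟩ <;> omega⟩
    have hCEcard : Nat.card CE = Nat.card (Subgroup.centralizer ({eL x} : Set PSL(2, F))) := by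
      rw [← card_centralizer_equiv eL x, card_centralizer_inf x]
    have hWE : W ≤ E := by
      intro w hw
      by_cases hw1 : w = 1
      · exact hw1 ▸ one_mem E
      obtain ⟨k, -, hk⟩ := H.invol_conj d.ne d.mem (Subgroup.mem_inf.1 hw).2 d.sq d.ne_one (H.four_sq d hw) hw1
      exact hk ▸ hEn.conj_mem z hzE k
    let φ : CE → DihedralGroup m := fun g => eD ⟨eL ⟨g.1, (Subgroup.mem_inf.1 g.2).1⟩,
      Subgroup.mem_centralizer_singleton_iff.2 (by
        rw [← map_mul, ← map_mul]
        exact congrArg eL (Subtype.ext (mem_cent.1 (Subgroup.mem_inf.1 g.2).2)))⟩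
    have hφmul : ∀ g g' : CE, φ (g * g') = φ g * φ g' := fun g g' => by
      simp only [φ, ← map_mul, MulMemClass.mk_mul_mk]
      rfl
    have hφinj : Function.Injective φ := fun g g' hgg' => by
      have := congrArg Subtype.val (eD.injective hgg')
      exact Subtype.ext (congrArg Subtype.val (eL.injective this) :)
    let φh : CE →* DihedralGroup m := MonoidHom.mk' φ hφmul
    have hcardD : Nat.card CE = 2 * m := by
      rw [hCEcard, Nat.card_congr eD.toEquiv, DihedralGroup.nat_card]
    have hbij : Function.Bijective φh :=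
      (Nat.bijective_iff_injective_and_card _).2 ⟨hφinj, by rw [hcardD, DihedralGroup.nat_card]⟩
    have hWCE : W ≤ CE := le_inf hWE hWC
    have hWn : (W.subgroupOf CE).Normal := ⟨fun w hw g =>
      (Subgroup.mem_normalizer_iff.1 (hCN (Subgroup.mem_inf.1 g.2).2) _).1 hw⟩
    have hm4 : m ≤ 4 := by
      refine dihedral_four_normal ((W.subgroupOf CE).map φh) (hWn.map _ hbij.2) ?_ ?_
      · rw [Subgroup.card_map_of_injective hbij.1, Nat.card_congr (Subgroup.subgroupOfEquivOfLe hWCE).toEquiv,
          H.card_four d]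
      · rintro _ ⟨w, hw, rfl⟩
        rw [← map_mul, ← map_one φh]
        exact congrArg φh (Subtype.ext (H.four_sq d hw))
    have hCEpos : Nat.card CE ≠ 0 := Nat.card_pos.ne'
    have hE : 2 * Nat.card E = Fintype.card F * (Fintype.card F ^ 2 - 1) := by
      rw [Nat.card_congr eL.toEquiv]; exact PSL2.two_mul_card_PSL h2F
    rw [hEC, hcardD] at hE
    have hqm : Fintype.card F = 2 * m + 1 ∧ Fintype.card F % 4 = 1 ∨
        Fintype.card F + 1 = 2 * m ∧ Fintype.card F % 4 = 3 := by
      rcases (show Fintype.card F % 4 = 1 ∨ Fintype.card F % 4 = 3 by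
        obtain ⟨k, hk⟩ := hF; omega) with h1 | h3
      · left; have := hm1 h1; rw [← hCEcard, hcardD] at this; omega
      · right; have := hm3 h3; rw [← hCEcard, hcardD] at this; omega
    have hi3 : 3 ≤ i := by omega
    have h49 : 49 ≤ (2 * i + 1) * (2 * i + 3) :=
      le_trans (by norm_num) (Nat.mul_le_mul (show 7 ≤ 2 * i + 1 by omega) (show 7 ≤ 2 * i + 3 by omega))
    have hidx' : 15 * C.index = 25 * ((2 * i + 1) * (2 * i + 3)) := by rw [hidx]; ring
    rcases hqm with ⟨hq, hq4⟩ | ⟨hq, hq4⟩
    · rw [hq] at hE hF3 hq4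
      interval_cases m
      all_goals first | omega | (norm_num at hE <;> omega)
    · have hq' : Fintype.card F = 2 * m - 1 := by omega
      rw [hq'] at hE hF3 hq4
      interval_cases m
      all_goals first | omega | (norm_num at hE <;> omega)
  · have h105 : Nat.card E = 105 * Nat.card CE := by
      let P : Finset E := Finset.univ.filter fun g => g * g = 1 ∧ g ≠ 1
      have hP : P.card = 105 := by
        rw [← A7.card_invol]
        refine Finset.card_equiv eA.toEquiv fun g => ?_
        simp only [P, Finset.mem_filter, Finset.mem_univ, true_and, MulEquiv.toEquiv_eq_coe, EquivLike.coe_coe,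
          ne_eq, ← map_mul, EmbeddingLike.map_eq_one_iff]
      have hx2 : x * x = 1 := Subtype.ext d.sq
      have h := card_fibre (⊤ : Subgroup E) (Subgroup.centralizer ({x} : Set E)) (fun g => g * x * g⁻¹) P
        (fun g _ => Finset.mem_filter.2 ⟨Finset.mem_univ _, by rw [conj_mul, hx2]; group,
          fun h => d.ne_one (congrArg Subtype.val (conj_eq_one_iff.1 h))⟩)
        (fun p hp => by
          obtain ⟨hp1, hp2⟩ := (Finset.mem_filter.1 hp).2
          obtain ⟨l, hl⟩ := isConj_iff.1 (GW.isConj_invol_of_simple (hd.subgroup E) hEna hE2 hxo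
            (orderOf_eq_prime (by rw [pow_two, hp1]) hp2))
          exact ⟨l, Subgroup.mem_top _, hl⟩) le_top
        (fun g _ g' _ => by
          rw [Subgroup.mem_centralizer_singleton_iff]
          refine ⟨fun h => ?_, fun h => ?_⟩
          · calc g⁻¹ * g' * x = g⁻¹ * (g' * x * g'⁻¹) * g' := by group
              _ = g⁻¹ * (g * x * g⁻¹) * g' := by rw [h]
              _ = x * (g⁻¹ * g') := by group
          · calc g * x * g⁻¹ = g * (x * (g⁻¹ * g')) * g'⁻¹ := by group
              _ = g * (g⁻¹ * g' * x) * g'⁻¹ := by rw [h]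
              _ = g' * x * g'⁻¹ := by group)
      rw [Subgroup.card_top, hP, card_centralizer_inf x] at h
      exact h
    rw [hEC] at h105
    have hidx105 : C.index = 105 := Nat.eq_of_mul_eq_mul_right Nat.card_pos h105
    rw [hidx105] at hidx
    have hi3 : i = 3 := by
      have hlt : i < 4 := by
        by_contra hge
        have := Nat.mul_le_mul (show 45 ≤ 10 * i + 5 by omega) (show 55 ≤ 10 * i + 15 by omega)
        omega
      omega
    have hn7 : n = 7 := by rw [hi3] at h15n; omega
    refine ⟨hn7, ?_⟩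
    have hEtop : E = ⊤ := (Subgroup.card_eq_iff_eq_top E).1 (by
      rw [Nat.card_congr eA.toEquiv, nat_card_alternatingGroup, Nat.card_fin, hG, hn7]
      decide)
    exact ⟨(Subgroup.topEquiv.symm.trans (MulEquiv.subgroupCongr hEtop.symm)).trans eA⟩

end Hyp

end Cfsg.Agent.TwoTransFour
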