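import Cfsg.Agent.Lib.TwoTransFour.Even
import Cfsg.Agent.Lib.TwoTransFour.OddZero
import Cfsg.Agent.Lib.DihedralCent.Klein

/-!
# Two-point stabiliser `A₅`, odd degree: no involution centralises the stabiliser of a pair it interchanges
-/

set_option autoImplicit false
set_option linter.unusedSectionVars false
set_option linter.style.haveILetI false

namespace Cfsg.Agent.TwoTransFour

open MulAction

universe u

variable {G : Type u} [Group G] {Ω : Type*} [MulAction G Ω]

/-- A four group centralised by an involution `y` outside it, all fixing `c`, with an element of order 3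
cycling it. -/
structure Eight (Ω : Type*) [MulAction G Ω] [Fintype Ω] (V : Subgroup G) (y t : G) (c : Ω) : Prop where
  card : Nat.card V = 4
  sq : ∀ v ∈ V, v * v = 1
  comm : ∀ u ∈ V, ∀ v ∈ V, u * v = v * u
  cent : ∀ v ∈ V, v * y = y * v
  fix : ∀ v ∈ V, v • c = c
  not_mem : y ∉ V
  cycle_cent : t * y = y * t
  cycle_fix : t • c = c
  cycle_cube : t * t * t = 1
  cycle_mem : ∀ v ∈ V, t * v * t⁻¹ ∈ V
  cycle_ne : ∀ v ∈ V, v ≠ 1 → t * v * t⁻¹ ≠ v
  moves : ∀ v ∈ V, v ≠ 1 → ∃ x ∈ fx Ω y, v • x ≠ x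

namespace Eight

variable [Fintype Ω] {V : Subgroup G} {y t : G} {c : Ω} (E : Eight Ω V y t c)
include E

theorem third {v : G} (hv : v ∈ V) (hv1 : v ≠ 1) :
    ∀ s ∈ V, s ≠ 1 → s = v ∨ s = t * v * t⁻¹ ∨ s = v * (t * v * t⁻¹) := by
  haveI : Finite V := Nat.finite_of_card_ne_zero (by rw [E.card]; norm_num)
  haveI : Nontrivial V := ⟨⟨⟨v, hv⟩, 1, fun e => hv1 (congrArg Subtype.val e)⟩⟩
  haveI : IsKleinFour V := ⟨E.card, (Monoid.exponent_eq_prime_iff Nat.prime_two).2 fun g hg =>
    orderOf_eq_prime (Subtype.ext (by rw [Subgroup.coe_pow, pow_two]; exact E.sq g g.2)) hg⟩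
  intro s hs hs1
  by_cases h1 : s = v
  · exact Or.inl h1
  by_cases h2 : s = t * v * t⁻¹
  · exact Or.inr (Or.inl h2)
  exact Or.inr (Or.inr (congrArg Subtype.val (IsKleinFour.eq_mul_of_ne_all (x := (⟨v, hv⟩ : V))
    (y := ⟨_, E.cycle_mem v hv⟩) (z := ⟨s, hs⟩) (fun e => hv1 (congrArg Subtype.val e))
    (fun e => hv1 (conj_eq_one_iff.1 (congrArg Subtype.val e)))
    (fun e => E.cycle_ne v hv hv1 (congrArg Subtype.val e).symm) (fun e => hs1 (congrArg Subtype.val e))
    (fun e => h1 (congrArg Subtype.val e)) (fun e => h2 (congrArg Subtype.val e)))))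

end Eight

namespace Hyp

variable (H : Hyp G Ω) [Fintype Ω] [Fintype G]
include H

/-- An element interchanging `a` and `b` and centralising their stabiliser is conjugate to `z`. -/
theorem central_cls [FaithfulSMul G Ω] {a b : Ω} {z w : G} (d : Datum a b z)
    (hodd : Fintype.card Ω % 2 = 1) (hC : Central a b z w)
    (hnr : ∀ N : Subgroup G, N.Normal → IsPretransitive N Ω → (∀ x : Ω, stabilizer N x = ⊥) → False) :
    w ∈ cls z := by
  classical
  by_contra hw
  obtain ⟨-, -, hrest⟩ := hC.count.resolve_left fun h => hw h.1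
  obtain ⟨hwa, hwb⟩ := hC.swap
  have hw1 : w ≠ 1 := fun e => d.ne (by rw [← hwa, e, one_smul])
  -- conjugates of `w` fix exactly one point
  have hone : ∀ x ∈ cls w, ((Finset.univ : Finset Ω).filter fun p => x • p = p).card = 1 := by
    intro x hx
    obtain ⟨g, hg⟩ := mem_cls.1 hx
    have hxx : x * x = 1 := by rw [← hg, conj_mul, hC.sq]; group
    have h := card_fixed_mod_two (Finset.univ : Finset Ω) x (fun _ _ => Finset.mem_univ _)
      (fun p _ => by rw [← mul_smul, hxx, one_smul])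
    rw [Finset.card_univ, hodd] at h
    have hle : ((Finset.univ : Finset Ω).filter fun p => x • p = p).card ≤ 1 := by
      rw [Finset.card_le_one]
      intro p hp q hq
      rw [Finset.mem_filter] at hp hq
      by_contra hpq
      obtain ⟨k, h1, h2⟩ := Perm.exists_smul_eq_two H.trans d.ne hpq
      have hkz : k * z * k⁻¹ ∈ two G p q := (two_conj h1 h2).2 d.mem
      obtain ⟨l, -, hl⟩ := H.invol_conj hpq hkz (mem_two.2 ⟨hp.2, hq.2⟩)
        (by rw [conj_mul, d.sq]; group) (fun e => d.ne_one (conj_eq_one_iff.1 e)) hxx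
        (fun e => hw1 (conj_eq_one_iff.1 (hg.trans e)))
      refine hw (mem_cls.2 ⟨g⁻¹ * (l * k), ?_⟩)
      calc g⁻¹ * (l * k) * z * (g⁻¹ * (l * k))⁻¹ = g⁻¹ * (l * (k * z * k⁻¹) * l⁻¹) * g := by group
        _ = w := by rw [hl, ← hg]; group
    omega
  -- one of them at each point
  have hswap : ((cls w).filter fun x => x • a = b ∧ x • b = a).card = 1 := by
    rw [Finset.card_eq_one]
    refine ⟨w, Finset.ext fun x => ?_⟩
    rw [Finset.mem_filter, Finset.mem_singleton]
    refine ⟨fun ⟨hx, hs⟩ => by_contra fun hxw => ?_, fun e => by rw [e]; exact ⟨mem_cls.2 ⟨1, by group⟩, hwa, hwb⟩⟩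
    obtain ⟨g, hg⟩ := mem_cls.1 hx
    obtain ⟨k, hk⟩ := mem_cls.1 (hrest x (mem_swappers.2 hs) (by rw [← hg, conj_mul, hC.sq]; group) hxw)
    exact hw (mem_cls.2 ⟨g⁻¹ * k, by
      calc g⁻¹ * k * z * (g⁻¹ * k)⁻¹ = g⁻¹ * (k * z * k⁻¹) * g := by group
        _ = w := by rw [hk, ← hg]; group⟩)
  have hpt : ((cls w).filter fun x => x • a = a).card = 1 := by
    rw [card_fix_eq_card_swap (⊤ : Subgroup G) (cls w) Finset.univ (Finset.mem_univ a) (Finset.mem_univ b) d.ne
      (fun c _ e _ hne => (Perm.exists_smul_eq_two H.trans d.ne hne).imp fun g hg => ⟨Subgroup.mem_top g, hg⟩)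
      (fun g _ x hx => by
        obtain ⟨k, rfl⟩ := mem_cls.1 hx
        exact mem_cls.2 ⟨g * k, by group⟩)
      (fun x _ p _ => Finset.mem_univ _)
      (fun x hx p _ => by
        obtain ⟨g, rfl⟩ := mem_cls.1 hx
        rw [← mul_smul, conj_mul, hC.sq, mul_one, mul_inv_cancel, one_smul]) hone, hswap]
  haveI : IsPreprimitive G Ω := isPreprimitive_of_is_two_pretransitive H.trans
  obtain ⟨c, hc⟩ := Finset.card_eq_one.1 (hone w (mem_cls.2 ⟨1, by group⟩))
  have hwc : w • c = c := (Finset.mem_filter.1 (hc ▸ Finset.mem_singleton_self c :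
    c ∈ (Finset.univ : Finset Ω).filter fun p => w • p = p)).2
  -- `w` is isolated
  have hiso : Cfsg.IsIsolatedInvolution w := by
    refine ⟨orderOf_eq_prime (by rw [pow_two]; exact hC.sq) hw1, fun g hcomm => ?_⟩
    have hx : g * w * g⁻¹ ∈ cls w := mem_cls.2 ⟨g, rfl⟩
    set x := g * w * g⁻¹ with hxdef
    have hxc : x • c = c := by
      have : x • c ∈ (Finset.univ : Finset Ω).filter fun p => w • p = p := Finset.mem_filter.2
        ⟨Finset.mem_univ _, by rw [← mul_smul, hcomm.eq, mul_smul, hwc]⟩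
      rw [hc, Finset.mem_singleton] at this
      exact this
    obtain ⟨k, hk⟩ := exists_smul_eq G c a
    have hmem : ∀ p ∈ cls w, p • c = c → k * p * k⁻¹ ∈ (cls w).filter fun x => x • a = a := fun p hp hpc => by
      obtain ⟨l, rfl⟩ := mem_cls.1 hp
      refine Finset.mem_filter.2 ⟨mem_cls.2 ⟨k * l, by group⟩, ?_⟩
      rw [mul_smul, mul_smul, inv_smul_eq_iff.2 hk.symm, hpc, hk]
    exact mul_left_cancel (mul_right_cancel (Finset.card_le_one.1 hpt.le _ (hmem x hx hxc) _
      (hmem w (mem_cls.2 ⟨1, by group⟩) hwc)))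
  have htop := DihedralCentTools.sup_oddCore_of_isolated hiso
  rw [oddCore_eq_bot H.trans hnr, sup_bot_eq] at htop
  refine hw1 (Perm.eq_one_of_forall_smul_eq (α := Ω) fun p => ?_)
  obtain ⟨g, rfl⟩ := exists_smul_eq G c p
  rw [← mul_smul, ← mem_cent.1 (htop ▸ Subgroup.mem_top g : g ∈ Subgroup.centralizer ({w} : Set G)), mul_smul,
    hwc]

section Eight

variable {c d' : Ω} {y t : G} {V : Subgroup G} (δ : Datum c d' y) (E : Eight Ω V y t c)
  (hodd : Fintype.card Ω % 2 = 1)
include δ E hodd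

omit H δ E hodd in
/-- The involutions of `C(y)` with exactly one fixed point among those of `y`. -/
theorem single_conj [DecidableEq G] [DecidableEq Ω] {g x : G} (hg : g * y = y * g)
    (hx : x ∈ Finset.univ.filter fun x : G =>
      x * y = y * x ∧ x * x = 1 ∧ ((fx Ω y).filter fun p => x • p = p).card = 1) :
    g * x * g⁻¹ ∈ Finset.univ.filter fun x : G =>
      x * y = y * x ∧ x * x = 1 ∧ ((fx Ω y).filter fun p => x • p = p).card = 1 := by
  simp only [Finset.mem_filter, Finset.mem_univ, true_and] at hx ⊢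
  refine ⟨mem_cent.1 (mul_mem (mul_mem (mem_cent.2 hg) (mem_cent.2 hx.1)) (inv_mem (mem_cent.2 hg))),
    by rw [conj_mul, hx.2.1]; group, ?_⟩
  rw [← hx.2.2]
  symm
  refine Finset.card_bij (fun p _ => g • p) (fun p hp => ?_) (fun p _ q _ e => MulAction.injective g e)
    (fun q hq => ?_)
  · rw [Finset.mem_filter] at hp ⊢
    exact ⟨fx_smul (mem_cent.2 hg) hp.1, by simp [mul_smul, hp.2]⟩
  · rw [Finset.mem_filter] at hq
    refine ⟨g⁻¹ • q, Finset.mem_filter.2 ⟨fx_smul (inv_mem (mem_cent.2 hg)) hq.1, ?_⟩, smul_inv_smul g q⟩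
    have h := hq.2
    rw [mul_smul, mul_smul, smul_eq_iff_eq_inv_smul] at h
    exact h

omit H in
theorem six_facts {v : G} (hv : v ∈ V) (hv1 : v ≠ 1) :
    (v * y = y * v ∧ v * v = 1 ∧ v ≠ 1 ∧ v ≠ y ∧ v • c = c) ∧
    (v * y * y = y * (v * y) ∧ v * y * (v * y) = 1 ∧ v * y ≠ 1 ∧ v * y ≠ y ∧ (v * y) • c = c) := by
  have hc := E.cent v hv
  refine ⟨⟨hc, E.sq v hv, hv1, fun e => E.not_mem (e ▸ hv), E.fix v hv⟩, ?_, ?_, ?_, ?_, ?_⟩
  · rw [← mul_assoc, ← hc]
  · calc v * y * (v * y) = v * (y * v) * y := by group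
      _ = (v * v) * (y * y) := by rw [← hc]; group
      _ = 1 := by rw [E.sq v hv, δ.sq, one_mul]
  · exact fun e => E.not_mem (inv_eq_of_mul_eq_one_right e ▸ inv_mem hv)
  · exact fun e => hv1 (mul_eq_right.1 e)
  · rw [mul_smul, (mem_two.1 δ.mem).1, E.fix v hv]

/-- The six elements of `⟨V, y⟩` outside `⟨y⟩` each fix at least two of the fixed points of `y`; in particular
`e ≠ 0`. -/
theorem six_vset : (swapsIn (vset Ω y) c d').card ≠ 0 ∧
    ∀ v ∈ V, v ≠ 1 → v ∈ vset Ω y ∧ v * y ∈ vset Ω y := by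
  classical
  obtain ⟨hiodd, hfodd, hf3⟩ := H.odd_parity δ hodd
  let U : Finset G := Finset.univ.filter fun x =>
    x * y = y * x ∧ x * x = 1 ∧ ((fx Ω y).filter fun p => x • p = p).card = 1
  have hUs : (U.filter fun x => x • c = c).card = (U.filter fun x => x • c = d' ∧ x • d' = c).card :=
    card_fix_eq_card_swap (Subgroup.centralizer ({y} : Set G)) U (fx Ω y) (mem_fx_left δ) (mem_fx_right δ)
      δ.ne (fun p hp q hq hne => H.witt δ hp hq hne) (fun g hg x hx => single_conj (mem_cent.1 hg) hx)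
      (fun x hx p hp => fx_smul (mem_cent.2 (Finset.mem_filter.1 hx).2.1) hp)
      (fun x hx p _ => by rw [← mul_smul, (Finset.mem_filter.1 hx).2.2.1, one_smul])
      (fun x hx => (Finset.mem_filter.1 hx).2.2.2)
  have hle : (U.filter fun x => x • c = c).card + (swapsIn (vset Ω y) c d').card ≤ 4 := by
    rw [hUs, ← Finset.card_union_of_disjoint]
    · refine H.card_swappers_le δ fun x hx => ?_
      rcases Finset.mem_union.1 hx with hx | hx
      · obtain ⟨hxU, hs⟩ := Finset.mem_filter.1 hx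
        exact ⟨(Finset.mem_filter.1 hxU).2.1, hs⟩
      · exact ⟨(mem_vset.1 (mem_swapsIn.1 hx).1).1, (mem_swapsIn.1 hx).2⟩
    · refine Finset.disjoint_left.2 fun x hx hx' => ?_
      have h1 := (Finset.mem_filter.1 (Finset.mem_filter.1 hx).1).2.2.2
      rw [H.vset_fixed δ (mem_swapsIn.1 hx').1] at h1
      omega
  have hcls : ∀ x, x * y = y * x → x * x = 1 → x ≠ 1 → x ≠ y → x • c = c → x ∉ vset Ω y →
      x ∈ U.filter fun x => x • c = c := by
    intro x h1 h2 h3 h4 h5 h6
    refine Finset.mem_filter.2 ⟨Finset.mem_filter.2 ⟨Finset.mem_univ _, h1, h2, ?_⟩, h5⟩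
    rw [Finset.card_eq_one]
    refine ⟨c, Finset.ext fun p => ?_⟩
    rw [Finset.mem_filter, Finset.mem_singleton]
    exact ⟨fun ⟨hp, hxp⟩ => by_contra fun hpc =>
      h6 (H.vset_of_fixes δ h1 h3 h4 (mem_fx_left δ) hp (Ne.symm hpc) h5 hxp),
      fun e => e ▸ ⟨mem_fx_left δ, h5⟩⟩
  let K : Finset G := Finset.univ.filter fun v => v ∈ V ∧ v ≠ 1
  have hK : K.card = 3 := by
    have h4 := E.card
    rw [Nat.card_eq_fintype_card, Fintype.card_subtype] at h4
    have : Finset.univ.filter (fun v => v ∈ V) = insert 1 K := by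
      ext v
      simp only [K, Finset.mem_filter, Finset.mem_univ, true_and, Finset.mem_insert]
      exact ⟨fun h => or_iff_not_imp_left.2 fun h1 => ⟨h, h1⟩,
        fun h => h.elim (fun h => h ▸ one_mem V) And.left⟩
    rw [this, Finset.card_insert_of_notMem (by simp [K])] at h4
    omega
  obtain ⟨e, -, hie, hesw⟩ := H.exists_e δ
  have he : e ≠ 0 := by
    rintro rfl
    rw [zero_mul, add_zero] at hie
    have hall : ∀ v ∈ K, v ∈ U.filter (fun x => x • c = c) ∧ v * y ∈ U.filter (fun x => x • c = c) := by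
      intro v hv
      obtain ⟨hv, hv1⟩ := (Finset.mem_filter.1 hv).2
      obtain ⟨⟨a1, a2, a3, a4, a5⟩, b1, b2, b3, b4, b5⟩ := six_facts δ E hodd hv hv1
      obtain ⟨p, hp, hvp⟩ := E.moves v hv hv1
      have hpt : ∀ x ∈ vset Ω y, x • p = p := fun x hx => by
        have h := H.vset_fixed δ hx
        rw [← hie] at h
        exact (Finset.card_filter_eq_iff.1 h) p hp
      refine ⟨hcls v a1 a2 a3 a4 a5 fun h => hvp (hpt v h), hcls _ b1 b2 b3 b4 b5 fun h => hvp ?_⟩
      have := hpt _ h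
      rwa [mul_smul, mem_fx.1 hp] at this
    have hsub : K ∪ K.image (fun v => v * y) ⊆ U.filter (fun x => x • c = c) := fun x hx => by
      rcases Finset.mem_union.1 hx with hx | hx
      · exact (hall x hx).1
      · obtain ⟨v, hv, rfl⟩ := Finset.mem_image.1 hx
        exact (hall v hv).2
    have hdis : Disjoint K (K.image fun v => v * y) := Finset.disjoint_left.2 fun x hx hx' => by
      obtain ⟨v, hv, hvx⟩ := Finset.mem_image.1 hx'
      refine E.not_mem ?_
      rw [← V.mul_mem_cancel_left (Finset.mem_filter.1 hv).2.1, hvx]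
      exact (Finset.mem_filter.1 hx).2.1
    have := Finset.card_le_card hsub
    rw [Finset.card_union_of_disjoint hdis, Finset.card_image_of_injective _ (fun u v e => mul_right_cancel e),
      hK] at this
    omega
  have hne : (swapsIn (vset Ω y) c d').card ≠ 0 := by omega
  refine ⟨hne, fun v hv hv1 => ?_⟩
  -- three of them in `U` are too many
  have hthree : ∀ x, x ∈ U.filter (fun x => x • c = c) → t * x * t⁻¹ ∈ U.filter (fun x => x • c = c) := by
    intro x hx
    obtain ⟨h1, h2⟩ := Finset.mem_filter.1 hx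
    exact Finset.mem_filter.2 ⟨single_conj E.cycle_cent h1, by
      rw [mul_smul, mul_smul, inv_smul_eq_iff.2 E.cycle_fix.symm, h2, E.cycle_fix]⟩
  have hbad : ∀ x, t * x * t⁻¹ ≠ x → x ∉ U.filter (fun x => x • c = c) := by
    intro x hne' hx
    have h3 : t * (t * (t * x * t⁻¹) * t⁻¹) * t⁻¹ = x := by
      calc t * (t * (t * x * t⁻¹) * t⁻¹) * t⁻¹ = (t * t * t) * x * (t * t * t)⁻¹ := by group
        _ = x := by rw [E.cycle_cube]; group
    have hsub : ({x, t * x * t⁻¹, t * (t * x * t⁻¹) * t⁻¹} : Finset G) ⊆ U.filter (fun x => x • c = c) := by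
      intro p hp
      simp only [Finset.mem_insert, Finset.mem_singleton] at hp
      rcases hp with rfl | rfl | rfl
      exacts [hx, hthree x hx, hthree _ (hthree x hx)]
    have h := Finset.card_le_card hsub
    rw [Finset.card_insert_of_notMem, Finset.card_pair] at h
    · omega
    · exact fun e => hne' (mul_left_cancel (mul_right_cancel e)).symm
    · simp only [Finset.mem_insert, Finset.mem_singleton, not_or]
      refine ⟨fun e => hne' e.symm, fun e => hne' ?_⟩
      rw [← e] at h3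
      exact h3
  obtain ⟨⟨a1, a2, a3, a4, a5⟩, b1, b2, b3, b4, b5⟩ := six_facts δ E hodd hv hv1
  refine ⟨by_contra fun h => hbad v (E.cycle_ne v hv hv1) (hcls v a1 a2 a3 a4 a5 h),
    by_contra fun h => hbad (v * y) (fun e => E.cycle_ne v hv hv1 ?_) (hcls _ b1 b2 b3 b4 b5 h)⟩
  rw [← conj_mul, show t * y * t⁻¹ = y from mul_inv_eq_iff_eq_mul.2 E.cycle_cent] at e
  exact mul_right_cancel e

end Eight

end Hyp

end Cfsg.Agent.TwoTransFour
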