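import Cfsg.Agent.Lib.TwoTransFour.OddCentral

/-!
# Two-point stabiliser `A₅`, odd degree: the central case is impossible
-/

set_option autoImplicit false
set_option linter.unusedSectionVars false
set_option linter.style.haveILetI false

namespace Cfsg.Agent.TwoTransFour

open MulAction

universe u

variable {G : Type u} [Group G] {Ω : Type*} [MulAction G Ω]

/-- The order of the image of a subgroup containing the kernel. -/
theorem card_eq_card_map_mul {X Y : Type*} [Group X] [Group Y] (f : X →* Y) (A : Subgroup X) (h : f.ker ≤ A) :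
    Nat.card A = Nat.card (A.map f) * Nat.card f.ker := by
  rw [← (f.ker.subgroupOf A).index_mul_card, Nat.card_congr (Subgroup.subgroupOfEquivOfLe h).toEquiv]
  congr 1
  have h2 := Subgroup.index_ker (f.comp A.subtype)
  rw [MonoidHom.range_comp, Subgroup.range_subtype, ← MonoidHom.comap_ker] at h2
  exact h2

namespace Hyp

variable (H : Hyp G Ω) [Fintype Ω] [Fintype G]
include H

set_option maxHeartbeats 1600000 in
theorem eight_false {c d' : Ω} {y t : G} {V : Subgroup G} (δ : Datum c d' y) (E : Eight Ω V y t c)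
    (hodd : Fintype.card Ω % 2 = 1)
    (hw : ∀ c' : Ω, Datum c c' y → ∃ w, Central c c' y w)
    (hD : ∃ D : Subgroup G, D ≤ Subgroup.centralizer ({y} : Set G) ∧ y ∉ D ∧ ¬ Group.IsSolvable D) :
    False := by
  classical
  haveI : Fact (Nat.Prime 2) := ⟨Nat.prime_two⟩
  -- choose the pair inside the fixed points of some `v`
  obtain ⟨v, hvV, hv1⟩ : ∃ v ∈ V, v ≠ 1 := by
    by_contra hno
    push Not at hno
    have := E.card
    rw [(Subgroup.eq_bot_iff_forall V).2 hno, Subgroup.card_bot] at this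
    omega
  obtain ⟨hvv, -⟩ := (H.six_vset δ E hodd).2 v hvV hv1
  obtain ⟨e', hce', he', hve'⟩ : ∃ e', c ≠ e' ∧ e' ∈ fx Ω y ∧ v • e' = e' := by
    obtain ⟨-, -, -, p, q, hpq, hp, hq, hvp, hvq⟩ := mem_vset.1 hvv
    by_cases hcp : c = p
    · exact ⟨q, hcp ▸ hpq, mem_fx.2 hq, hvq⟩
    · exact ⟨p, hcp, mem_fx.2 hp, hvp⟩
  have δ' := datum_of_fixed δ hce' (mem_fx.1 (mem_fx_left δ)) (mem_fx.1 he')
  obtain ⟨hne0, hsix⟩ := H.six_vset δ' E hodd
  obtain ⟨hiodd, hfodd, hf3⟩ := H.odd_parity δ' hodd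
  obtain ⟨e, he2, hie, hesw⟩ := H.exists_e δ'
  set W := four y c e' with hW
  set f := (fxs Ω W).card with hf
  set i := (fx Ω y).card with hi
  set M := Subgroup.centralizer ({y} : Set G) ⊓ Subgroup.normalizer (W : Set G) with hM
  have hvW : v ∈ W := mem_four.2 ⟨E.cent v hvV, E.fix v hvV, hve'⟩
  have hvy : v ≠ y := fun h => E.not_mem (h ▸ hvV)
  have hf1 : (fxs Ω (four y c e')).card ≠ 1 := by show f ≠ 1; omega
  have hWc : ∀ k ∈ W, k = 1 ∨ k = y ∨ k = v ∨ k = y * v := fun k hk => H.four_cases δ' hvW hv1 hvy hk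
  set v2 := t * v * t⁻¹ with hv2
  have hv2V : v2 ∈ V := E.cycle_mem v hvV
  have hv21 : v2 ≠ 1 := fun h => hv1 (conj_eq_one_iff.1 h)
  have hcentW : ∀ g, g * y = y * g → g * v = v * g → g ∈ Subgroup.centralizer (W : Set G) := fun g h1 h2 =>
    Subgroup.mem_centralizer_iff.2 fun k hk => by
      rcases hWc k hk with rfl | rfl | rfl | rfl
      · simp
      · exact h1.symm
      · exact h2.symm
      · rw [mul_assoc, ← h2, ← mul_assoc, ← h1, mul_assoc]
  have hv2M : v2 ∈ M :=
    centralizer_four_le δ' (hcentW v2 (E.cent v2 hv2V) (E.comm v2 hv2V v hvV))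
  have hv2W : v2 ∉ W := fun h => by
    rcases hWc v2 h with h' | h' | h' | h'
    · exact hv21 h'
    · exact E.not_mem (h' ▸ hv2V)
    · exact E.cycle_ne v hvV hv1 h'
    · exact E.not_mem ((V.mul_mem_cancel_right hvV).1 (h' ▸ hv2V))
  -- the group of order 8
  let E8 : Subgroup G :=
    { carrier := {x | ∃ s ∈ V, x = s ∨ x = s * y}
      one_mem' := ⟨1, one_mem V, Or.inl rfl⟩
      mul_mem' := by
        rintro a b ⟨s, hs, ha⟩ ⟨r, hr, hb⟩
        refine ⟨s * r, mul_mem hs hr, ?_⟩
        rcases ha with rfl | rfl <;> rcases hb with rfl | rfl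
        · exact Or.inl rfl
        · exact Or.inr (mul_assoc _ _ _).symm
        · exact Or.inr (by rw [mul_assoc, ← E.cent b hr, ← mul_assoc])
        · refine Or.inl ?_
          calc s * y * (r * y) = s * (y * r) * y := by group
            _ = s * r * (y * y) := by rw [← E.cent r hr]; group
            _ = s * r := by rw [δ.sq, mul_one]
      inv_mem' := by
        rintro a ⟨s, hs, ha⟩
        refine ⟨s⁻¹, inv_mem hs, ?_⟩
        rcases ha with rfl | rfl
        · exact Or.inl rfl
        · refine Or.inr ?_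
          rw [mul_inv_rev, inv_eq_of_mul_eq_one_right δ.sq, inv_eq_of_mul_eq_one_right (E.sq s hs), E.cent s hs] }
  have hVE : ∀ s ∈ V, s ∈ E8 := fun s hs => ⟨s, hs, Or.inl rfl⟩
  have hyE : y ∈ E8 := ⟨1, one_mem V, Or.inr (one_mul y).symm⟩
  have hWE : W ≤ E8 := fun k hk => by
    rcases hWc k hk with rfl | rfl | rfl | rfl
    exacts [one_mem _, hyE, hVE _ hvV, mul_mem hyE (hVE _ hvV)]
  have hE8cases : ∀ x ∈ E8, x = 1 ∨ x = y ∨ x ∈ vset Ω y := by
    rintro x ⟨s, hs, hx⟩
    rcases eq_or_ne s 1 with rfl | hs1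
    · rcases hx with rfl | rfl
      · exact Or.inl rfl
      · exact Or.inr (Or.inl (one_mul y))
    · rcases hx with rfl | rfl
      exacts [Or.inr (Or.inr (hsix _ hs hs1).1), Or.inr (Or.inr (hsix _ hs hs1).2)]
  -- the coset argument
  have hcoset : ∀ u, u ∈ M → u * u ∈ W → u ∉ W → u • c = c → u ∈ E8 := fun u hu husq huW huc => by
    have h := H.coset_unique δ' hv2M (by rw [E.sq v2 hv2V]; exact one_mem W) hv2W (E.fix v2 hv2V) hu husq huW huc
      hfodd
    rw [← mul_inv_cancel_left v2 u]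
    exact mul_mem (hVE v2 hv2V) (hWE h)
  have hMc : Nat.card ↥(M ⊓ stabilizer G c) = (f - 1) * 4 := H.card_local_stab δ'
  rcases (show e = 1 ∨ e = 2 by omega) with rfl | rfl
  · -- `e = 1`: there is an involution fixing only `c` among the fixed points of `y`
    obtain ⟨w, hwC⟩ := hw e' δ'
    obtain ⟨hwa, hwb⟩ := hwC.swap
    have hwy : w * y = y * w := hwC.comm y δ'.mem
    let U : Finset G := Finset.univ.filter fun x =>
      x * y = y * x ∧ x * x = 1 ∧ ((fx Ω y).filter fun p => x • p = p).card = 1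
    have hUs : (U.filter fun x => x • c = c).card = (U.filter fun x => x • c = e' ∧ x • e' = c).card :=
      card_fix_eq_card_swap (Subgroup.centralizer ({y} : Set G)) U (fx Ω y) (mem_fx_left δ') (mem_fx_right δ')
        δ'.ne (fun p hp q hq hne => H.witt δ' hp hq hne) (fun g hg x hx => single_conj (mem_cent.1 hg) hx)
        (fun x hx p hp => fx_smul (mem_cent.2 (Finset.mem_filter.1 hx).2.1) hp)
        (fun x hx p _ => by rw [← mul_smul, (Finset.mem_filter.1 hx).2.2.1, one_smul])
        (fun x hx => (Finset.mem_filter.1 hx).2.2.2)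
    have hle : (U.filter fun x => x • c = c).card + (swapsIn (vset Ω y) c e').card ≤ 4 := by
      rw [hUs, ← Finset.card_union_of_disjoint]
      · refine H.card_swappers_le δ' fun x hx => ?_
        rcases Finset.mem_union.1 hx with hx | hx
        · obtain ⟨hxU, hs⟩ := Finset.mem_filter.1 hx
          exact ⟨(Finset.mem_filter.1 hxU).2.1, hs⟩
        · exact ⟨(mem_vset.1 (mem_swapsIn.1 hx).1).1, (mem_swapsIn.1 hx).2⟩
      · refine Finset.disjoint_left.2 fun x hx hx' => ?_
        have h1 := (Finset.mem_filter.1 (Finset.mem_filter.1 hx).1).2.2.2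
        rw [H.vset_fixed δ' (mem_swapsIn.1 hx').1] at h1
        exact hf1 h1
    obtain ⟨x, hxswap, hxv⟩ : ∃ x, (x ∈ (Finset.univ.filter fun k => k ∈ W).image fun k => w * k) ∧
        x ∉ vset Ω y := by
      by_contra hno
      push Not at hno
      have hsub : ((Finset.univ.filter fun k => k ∈ W).image fun k => w * k) ⊆ swapsIn (vset Ω y) c e' := by
        intro x hx
        refine mem_swapsIn.2 ⟨hno x hx, ?_⟩
        obtain ⟨k, hk, rfl⟩ := Finset.mem_image.1 hx
        exact swap_mul_two hwa hwb (Subgroup.mem_inf.1 (Finset.mem_filter.1 hk).2).2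
      have h := Finset.card_le_card hsub
      have h4 := H.card_four δ'
      rw [Nat.card_eq_fintype_card, Fintype.card_subtype] at h4
      rw [Finset.card_image_of_injective _ (fun p q e => mul_left_cancel e), h4] at h
      omega
    obtain ⟨k, hk, rfl⟩ := Finset.mem_image.1 hxswap
    have hkW := (Finset.mem_filter.1 hk).2
    obtain ⟨hs1, hs2⟩ := swap_mul_two hwa hwb (Subgroup.mem_inf.1 hkW).2
    have hxy : w * k * y = y * (w * k) := by
      rw [mul_assoc, (mem_four.1 hkW).1, ← mul_assoc, hwy, mul_assoc]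
    have hxx : w * k * (w * k) = 1 := by
      calc w * k * (w * k) = w * (k * w) * k := by group
        _ = (w * w) * (k * k) := by rw [← hwC.comm k (Subgroup.mem_inf.1 hkW).2]; group
        _ = 1 := by rw [hwC.sq, H.four_sq δ' hkW, one_mul]
    have hxU : w * k ∈ U := by
      refine Finset.mem_filter.2 ⟨Finset.mem_univ _, hxy, hxx, ?_⟩
      have hle1 : ((fx Ω y).filter fun p => (w * k) • p = p).card ≤ 1 := by
        rw [Finset.card_le_one]
        intro p hp q hq
        rw [Finset.mem_filter] at hp hq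
        by_contra hpq
        exact hxv (H.vset_of_fixes δ' hxy (fun h => δ'.ne (by rw [← hs1, h, one_smul]))
          (fun h => δ'.ne (by rw [← hs1, h, (mem_two.1 δ'.mem).1])) hp.1 hq.1 hpq hp.2 hq.2)
      have h := card_fixed_mod_two (fx Ω y) (w * k) (fun p hp => fx_smul (mem_cent.2 hxy) hp)
        (fun p _ => by rw [← mul_smul, hxx, one_smul])
      omega
    obtain ⟨ζ, hζ⟩ := Finset.card_pos.1 (show 0 < (U.filter fun x => x • c = c).card by
      rw [hUs]; exact Finset.card_pos.2 ⟨w * k, Finset.mem_filter.2 ⟨hxU, hs1, hs2⟩⟩)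
    obtain ⟨hζU, hζc⟩ := Finset.mem_filter.1 hζ
    obtain ⟨hζy, hζζ, hζ1⟩ := (Finset.mem_filter.1 hζU).2
    have hζyc : ζ * y ∈ U.filter fun x => x • c = c := by
      refine Finset.mem_filter.2 ⟨Finset.mem_filter.2 ⟨Finset.mem_univ _, by rw [hζy, mul_assoc, hζy],
        ?_, ?_⟩, by rw [mul_smul, (mem_two.1 δ.mem).1, hζc]⟩
      · calc ζ * y * (ζ * y) = ζ * (y * ζ) * y := by group
          _ = (ζ * ζ) * (y * y) := by rw [← hζy]; group
          _ = 1 := by rw [hζζ, δ.sq, one_mul]
      · rw [← hζ1]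
        congr 1
        exact Finset.filter_congr fun p hp => by rw [mul_smul, mem_fx.1 hp]
    have hpair : U.filter (fun x => x • c = c) = {ζ, ζ * y} := by
      symm
      refine Finset.eq_of_subset_of_card_le (fun p hp => ?_) ?_
      · rcases Finset.mem_insert.1 hp with rfl | hp
        · exact hζ
        · rw [Finset.mem_singleton.1 hp]; exact hζyc
      · rw [Finset.card_pair fun h => δ.ne_one (mul_eq_left.1 h.symm)]
        omega
    have hconj : ∀ g, g * y = y * g → g • c = c → g * ζ * g⁻¹ = ζ ∨ g * ζ * g⁻¹ = ζ * y := by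
      intro g hg hgc
      have h : g * ζ * g⁻¹ ∈ U.filter (fun x => x • c = c) := Finset.mem_filter.2 ⟨single_conj hg hζU,
        by rw [mul_smul, mul_smul, inv_smul_eq_iff.2 hgc.symm, hζc, hgc]⟩
      rw [hpair] at h
      simpa using h
    have hty : t * y * t⁻¹ = y := mul_inv_eq_iff_eq_mul.2 E.cycle_cent
    have htζ : t * ζ * t⁻¹ = ζ := by
      refine (hconj t E.cycle_cent E.cycle_fix).resolve_right fun h => ?_
      have h2 : t * (t * (t * ζ * t⁻¹) * t⁻¹) * t⁻¹ = ζ := by
        calc t * (t * (t * ζ * t⁻¹) * t⁻¹) * t⁻¹ = (t * t * t) * ζ * (t * t * t)⁻¹ := by group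
          _ = ζ := by rw [E.cycle_cube]; group
      have h3 : t * (ζ * y) * t⁻¹ = ζ := by rw [← conj_mul, h, hty, mul_assoc, δ.sq, mul_one]
      rw [h, h3, h] at h2
      exact δ.ne_one (mul_eq_left.1 h2)
    have hcomm : v * ζ = ζ * v := by
      by_contra hne
      have h1 : ∀ s ∈ V, s * y = y * s := E.cent
      have hvζ : v * ζ * v⁻¹ = ζ * y :=
        (hconj v (E.cent v hvV) (E.fix v hvV)).resolve_left fun h => hne (mul_inv_eq_iff_eq_mul.1 h)
      have hv2ζ : v2 * ζ * v2⁻¹ = ζ * y := by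
        calc v2 * ζ * v2⁻¹ = t * (v * (t⁻¹ * ζ * t) * v⁻¹) * t⁻¹ := by rw [hv2]; group
          _ = t * (v * ζ * v⁻¹) * t⁻¹ := by rw [show t⁻¹ * ζ * t = ζ by nth_rewrite 1 [← htζ]; group]
          _ = ζ * y := by rw [hvζ, ← conj_mul, htζ, hty]
      set v3 := t * v2 * t⁻¹ with hv3
      have hv3V : v3 ∈ V := E.cycle_mem v2 hv2V
      have hv3ζ : v3 * ζ * v3⁻¹ = ζ * y := by
        calc v3 * ζ * v3⁻¹ = t * (v2 * (t⁻¹ * ζ * t) * v2⁻¹) * t⁻¹ := by rw [hv3]; group
          _ = t * (v2 * ζ * v2⁻¹) * t⁻¹ := by rw [show t⁻¹ * ζ * t = ζ by nth_rewrite 1 [← htζ]; group]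
          _ = ζ * y := by rw [hv2ζ, ← conj_mul, htζ, hty]
      have hv31 : v3 ≠ 1 := fun h => hv21 (conj_eq_one_iff.1 h)
      rcases E.third hvV hv1 v3 hv3V hv31 with h | h | h
      · have h3 : t * v3 * t⁻¹ = v := by
          rw [hv3, hv2]
          calc t * (t * (t * v * t⁻¹) * t⁻¹) * t⁻¹ = (t * t * t) * v * (t * t * t)⁻¹ := by group
            _ = v := by rw [E.cycle_cube]; group
        exact E.cycle_ne v3 hv3V hv31 (h3.trans h.symm)
      · exact E.cycle_ne v2 hv2V hv21 h
      · rw [h, show v * (t * v * t⁻¹) * ζ * (v * (t * v * t⁻¹))⁻¹ = v * (v2 * ζ * v2⁻¹) * v⁻¹ by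
          rw [hv2]; group, hv2ζ, ← conj_mul, hvζ,
          mul_inv_eq_iff_eq_mul.2 (E.cent v hvV), mul_assoc] at hv3ζ
        exact δ.ne_one (mul_eq_left.1 (mul_left_cancel hv3ζ))
    have hζW : ζ ∉ W := fun h => by
      have hsub : ({c, e'} : Finset Ω) ⊆ (fx Ω y).filter fun p => ζ • p = p := fun p hp => by
        simp only [Finset.mem_insert, Finset.mem_singleton] at hp
        rcases hp with rfl | rfl
        · exact Finset.mem_filter.2 ⟨mem_fx_left δ', (mem_four.1 h).2.1⟩
        · exact Finset.mem_filter.2 ⟨he', (mem_four.1 h).2.2⟩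
      have := Finset.card_le_card hsub
      rw [hζ1, Finset.card_pair hce'] at this
      omega
    have hζE : ζ ∈ E8 := hcoset ζ (centralizer_four_le δ' (hcentW ζ hζy hcomm.symm))
      (by rw [hζζ]; exact one_mem W) hζW hζc
    rcases hE8cases ζ hζE with h | h | h
    · exact hζW (h ▸ one_mem W)
    · exact hζW (h ▸ z_mem_four δ')
    · rw [H.vset_fixed δ' h] at hζ1
      exact hf1 hζ1
  · -- `e = 2`
    set C := Subgroup.centralizer ({y} : Set G) with hC
    set C1 := M ⊓ stabilizer G c with hC1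
    have hyW : y ∈ W := z_mem_four δ'
    have hvM : v ∈ M := centralizer_four_le δ' (hcentW v (E.cent v hvV) rfl)
    have hWM : W ≤ M := le_inf inf_le_left Subgroup.le_normalizer
    have hEC1 : E8 ≤ C1 := by
      rintro x ⟨s, hs, hx⟩
      have hsC1 : s ∈ C1 := Subgroup.mem_inf.2
        ⟨centralizer_four_le δ' (hcentW s (E.cent s hs) (E.comm s hs v hvV)), E.fix s hs⟩
      rcases hx with rfl | rfl
      · exact hsC1
      · exact mul_mem hsC1 (Subgroup.mem_inf.2 ⟨hWM hyW, (mem_two.1 δ.mem).1⟩)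
    have hEcard : Nat.card E8 = 8 := by
      rw [show (8 : ℕ) = Nat.card V * 2 by rw [E.card], ← Nat.card_fin 2, ← Nat.card_prod]
      refine (Nat.card_eq_of_bijective
        (fun p : V × Fin 2 => (⟨if p.2 = 0 then (p.1 : G) else p.1 * y,
          ⟨p.1, p.1.2, by split_ifs <;> simp⟩⟩ : E8)) ⟨?_, ?_⟩).symm
      · rintro ⟨s, j⟩ ⟨r, l⟩ h
        have h' := congrArg Subtype.val h
        fin_cases j <;> fin_cases l <;> simp at h'
        · rw [h']
        · exact absurd ((V.mul_mem_cancel_left r.2).1 (h' ▸ s.2)) E.not_mem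
        · exact absurd ((V.mul_mem_cancel_left s.2).1 (h'.symm ▸ r.2)) E.not_mem
        · rw [h']
      · rintro ⟨x, s, hs, hx⟩
        rcases hx with rfl | rfl
        exacts [⟨(⟨_, hs⟩, 0), rfl⟩, ⟨(⟨s, hs⟩, 1), rfl⟩]
    -- `8` is the largest power of 2 dividing `|C1|`
    have h16 : ¬ 16 ∣ Nat.card C1 := by
      intro h16
      obtain ⟨K, hK, hEK⟩ := Sylow.exists_subgroup_card_pow_succ (G := C1) (p := 2) (n := 3)
        (show 2 ^ (3 + 1) ∣ _ from h16) (H := E8.subgroupOf C1)
        (by rw [Nat.card_congr (Subgroup.subgroupOfEquivOfLe hEC1).toEquiv, hEcard]; norm_num)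
      obtain ⟨⟨g, hgC1⟩, hgK, hgE⟩ : ∃ g ∈ K, g ∉ E8.subgroupOf C1 := by
        by_contra hno
        push Not at hno
        have := Nat.le_of_dvd Nat.card_pos (Subgroup.card_dvd_of_le hno)
        rw [hK, Nat.card_congr (Subgroup.subgroupOfEquivOfLe hEC1).toEquiv, hEcard] at this
        norm_num at this
      have hidx : ((E8.subgroupOf C1).subgroupOf K).index = 2 := by
        have := ((E8.subgroupOf C1).subgroupOf K).index_mul_card
        rw [hK, Nat.card_congr (Subgroup.subgroupOfEquivOfLe hEK).toEquiv,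
          Nat.card_congr (Subgroup.subgroupOfEquivOfLe hEC1).toEquiv, hEcard] at this
        norm_num at this
        omega
      have hgg : g * g ∈ E8 := by
        have := Subgroup.sq_mem_of_index_two hidx ⟨⟨g, hgC1⟩, hgK⟩
        rw [pow_two, Subgroup.mem_subgroupOf, Subgroup.mem_subgroupOf] at this
        exact this
      rw [Subgroup.mem_subgroupOf] at hgE
      obtain ⟨hgM, hgc⟩ := Subgroup.mem_inf.1 hgC1
      have hgc' : g • c = c := hgc
      have hgy : g * y = y * g := mem_cent.1 (Subgroup.mem_inf.1 hgM).1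
      by_cases hggW : g * g ∈ W
      · exact hgE (hcoset g hgM hggW (fun h => hgE (hWE h)) hgc')
      rcases hE8cases _ hgg with h | h | h
      · exact hggW (h ▸ one_mem W)
      · exact hggW (h ▸ hyW)
      obtain ⟨hgg1, hgg2, hgg3, p, q, hpq, hp, hq, hxp, hxq⟩ := mem_vset.1 h
      obtain ⟨c2, hc2, hc2y, hc2x⟩ : ∃ c2, c ≠ c2 ∧ c2 ∈ fx Ω y ∧ (g * g) • c2 = c2 := by
        by_cases hcp : c = p
        · exact ⟨q, hcp ▸ hpq, mem_fx.2 hq, hxq⟩
        · exact ⟨p, hcp, mem_fx.2 hp, hxp⟩
      have δ2 := datum_of_fixed δ hc2 (mem_fx.1 (mem_fx_left δ)) (mem_fx.1 hc2y)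
      set W2 := four y c c2 with hW2
      have hxW2 : g * g ∈ W2 := mem_four.2 ⟨hgg1, by rw [mul_smul, hgc', hgc'], hc2x⟩
      have hW2c : ∀ k ∈ W2, k = 1 ∨ k = y ∨ k = g * g ∨ k = y * (g * g) :=
        fun k hk => H.four_cases δ2 hxW2 hgg2 hgg3 hk
      have hW2E : W2 ≤ E8 := fun k hk => by
        rcases hW2c k hk with rfl | rfl | rfl | rfl
        exacts [one_mem _, hyE, hgg, mul_mem hyE hgg]
      have hcentW2 : ∀ k, k * y = y * k → k * (g * g) = (g * g) * k →
          k ∈ Subgroup.centralizer (W2 : Set G) := fun k h1 h2 =>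
        Subgroup.mem_centralizer_iff.2 fun l hl => by
          rcases hW2c l hl with rfl | rfl | rfl | rfl
          · simp
          · exact h1.symm
          · exact h2.symm
          · rw [mul_assoc, ← h2, ← mul_assoc, ← h1, mul_assoc]
      have hvW2 : v ∉ W2 := fun h' => by
        rcases hW2c v h' with h'' | h'' | h'' | h''
        · exact hv1 h''
        · exact hvy h''
        · exact hggW (h'' ▸ hvW)
        · exact hggW ((W.mul_mem_cancel_left hyW).1 (h'' ▸ hvW))
      have hvcomm : v * (g * g) = (g * g) * v := by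
        obtain ⟨s, hs, hx⟩ := hgg
        rcases hx with hx | hx
        · rw [hx]; exact E.comm v hvV s hs
        · rw [hx, ← mul_assoc, E.comm v hvV s hs, mul_assoc, E.cent v hvV, ← mul_assoc]
      have h' := H.coset_unique δ2 (centralizer_four_le δ2 (hcentW2 v (E.cent v hvV) hvcomm))
        (by rw [E.sq v hvV]; exact one_mem _) hvW2 (E.fix v hvV)
        (centralizer_four_le δ2 (hcentW2 g hgy (mul_assoc g g g).symm))
        hxW2 (fun h' => hgE (hW2E h')) hgc' (H.odd_parity δ2 hodd).2.1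
      refine hgE ?_
      have hmem := mul_mem (hVE v hvV) (hW2E h')
      rwa [mul_inv_cancel_left] at hmem
    have hf4 : f % 4 = 3 := by
      by_contra hne
      refine h16 ⟨(f - 1) / 4, ?_⟩
      rw [hMc]
      omega
    -- the quotient by `y`
    set N := (Subgroup.zpowers y).subgroupOf C with hN
    haveI : N.Normal := ⟨fun k hk g => by
      rw [hN, Subgroup.mem_subgroupOf] at hk ⊢
      obtain ⟨j, hj⟩ := hk
      refine ⟨j, ?_⟩
      show y ^ j = (g : G) * (k : G) * (g : G)⁻¹
      rw [show (k : G) = y ^ j from hj.symm]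
      exact (mul_inv_eq_iff_eq_mul.2 (Commute.zpow_right (show Commute (g : G) y from mem_cent.1 g.2) j).eq).symm⟩
    set π := QuotientGroup.mk' N with hπ
    have hyC : y ∈ C := mem_cent.2 rfl
    have hker : π.ker = N := QuotientGroup.ker_mk' N
    have hNcard : Nat.card π.ker = 2 := by
      rw [hker, hN, Nat.card_congr (Subgroup.subgroupOfEquivOfLe (Subgroup.zpowers_le.2 hyC)).toEquiv,
        Nat.card_zpowers, datum_order δ]
    have hmemN : ∀ k : C, k ∈ N ↔ (k : G) = 1 ∨ (k : G) = y := by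
      intro k
      rw [hN, Subgroup.mem_subgroupOf]
      constructor
      · rintro ⟨j, hj⟩
        rcases Int.even_or_odd' j with ⟨l, rfl | rfl⟩
        · left; rw [← hj]; show y ^ (2 * l) = 1; rw [zpow_mul, zpow_ofNat, pow_two, δ.sq, one_zpow]
        · right; rw [← hj]; show y ^ (2 * l + 1) = y; rw [zpow_add, zpow_mul, zpow_ofNat, pow_two, δ.sq, one_zpow, one_mul, zpow_one]
      · rintro (h | h) <;> rw [h]
        exacts [one_mem _, Subgroup.mem_zpowers y]
    have hπ_eq : ∀ p q : C, π p = π q ↔ (q : G) = p ∨ (q : G) = p * y := by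
      intro p q
      rw [hπ, QuotientGroup.mk'_apply, QuotientGroup.mk'_apply, QuotientGroup.eq, hmemN, Subgroup.coe_mul,
        Subgroup.coe_inv, inv_mul_eq_iff_eq_mul, mul_one, inv_mul_eq_iff_eq_mul]
    -- images
    have hVC : V ≤ C := fun s hs => mem_cent.2 (E.cent s hs)
    have hinjV : ∀ p q : C, (p : G) ∈ V → (q : G) ∈ V → π p = π q → p = q := fun p q hp hq h =>
      ((hπ_eq p q).1 h).elim (fun h => Subtype.ext h.symm)
        (fun h => absurd ((V.mul_mem_cancel_left hp).1 (h ▸ hq)) E.not_mem)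
    set Vb := (V.subgroupOf C).map π with hVb
    have hVb4 : Nat.card Vb = 4 := by
      rw [← E.card, ← Nat.card_congr (Subgroup.subgroupOfEquivOfLe hVC).toEquiv, hVb]
      exact (Nat.card_eq_of_bijective
        (fun s : V.subgroupOf C => (⟨π s, Subgroup.mem_map_of_mem π s.2⟩ : (V.subgroupOf C).map π))
        ⟨fun p q h => Subtype.ext (hinjV p q p.2 q.2 (congrArg Subtype.val h)),
          fun ⟨_, s, hs, hsx⟩ => ⟨⟨s, hs⟩, Subtype.ext hsx⟩⟩).symm
    set vb := π ⟨v, hVC hvV⟩ with hvb
    have hvbV : vb ∈ Vb := Subgroup.mem_map_of_mem π (Subgroup.mem_subgroupOf.2 hvV)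
    have hvb1 : vb ≠ 1 := fun h =>
      hv1 (congrArg Subtype.val (hinjV ⟨v, hVC hvV⟩ 1 hvV (one_mem V) (h.trans (map_one π).symm)))
    haveI : IsKleinFour Vb := by
      haveI : Nontrivial Vb := ⟨⟨⟨vb, hvbV⟩, 1, fun h => hvb1 (congrArg Subtype.val h)⟩⟩
      refine ⟨hVb4, (Monoid.exponent_eq_prime_iff Nat.prime_two).2 fun g hg => orderOf_eq_prime ?_ hg⟩
      obtain ⟨_, s, hs, rfl⟩ := g
      refine Subtype.ext ?_
      rw [Subgroup.coe_pow, pow_two, Subgroup.coe_one]
      show π s * π s = 1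
      rw [← map_mul, show s * s = 1 from Subtype.ext (E.sq _ hs), map_one]
    -- orders
    have hCcard : Nat.card C = i * (i - 1) * 4 := H.card_cent δ'
    have hY2 : Nat.card (↥C ⧸ N) * 2 = i * (i - 1) * 4 := by
      rw [← hCcard, Subgroup.card_eq_card_quotient_mul_card_subgroup N]
      rw [hker] at hNcard
      rw [hNcard]
    have hi1 : i - 1 = (f - 1) * (2 * f + 1) := by
      obtain ⟨m, hm⟩ : ∃ m, f = m + 1 := ⟨f - 1, by omega⟩
      rw [hie, hm, Nat.add_sub_cancel, Nat.add_right_comm, Nat.add_sub_cancel]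
      ring
    have h8 : ¬ 8 ∣ Nat.card (↥C ⧸ N) := by
      intro h8
      obtain ⟨k, hk⟩ := h8
      have h1 : i * ((i - 1) / 2) % 2 = 1 := by
        have h2 : (i - 1) % 4 = 2 := by
          rw [hi1, Nat.mul_mod, show (f - 1) % 4 = 2 by omega, show (2 * f + 1) % 4 = 3 by omega]
        rw [Nat.mul_mod, hiodd, show ((i - 1) / 2) % 2 = 1 by omega]
      have h2 : Nat.card (↥C ⧸ N) = 4 * (i * ((i - 1) / 2)) := by
        have hev : (i - 1) = 2 * ((i - 1) / 2) := by omega
        rw [hev] at hY2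
        have : i * (2 * ((i - 1) / 2)) * 4 = 2 * (4 * (i * ((i - 1) / 2))) := by ring
        omega
      omega
    have hnC : ∀ g, g * y = y * g → (g * v * g⁻¹ = v ∨ g * v * g⁻¹ = v * y) →
        g ∈ Subgroup.normalizer (W : Set G) := by
      intro g hgy hgv
      have key : ∀ k ∈ W, g * k * g⁻¹ ∈ W := by
        intro k hk
        have h2 : g * y * g⁻¹ = y := mul_inv_eq_iff_eq_mul.2 hgy
        have h3 : g * v * g⁻¹ ∈ W := by
          rcases hgv with h | h <;> rw [h]
          exacts [hvW, mul_mem hvW hyW]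
        rcases hWc k hk with rfl | rfl | rfl | rfl
        · rw [mul_one, mul_inv_cancel]; exact one_mem W
        · rw [h2]; exact hyW
        · exact h3
        · rw [← conj_mul, h2]; exact mul_mem hyW h3
      rw [Subgroup.mem_normalizer_iff]
      refine fun k => ⟨key k, fun hk => ?_⟩
      have hbij : Function.Bijective (fun l : W => (⟨g * l * g⁻¹, key l l.2⟩ : W)) :=
        Finite.injective_iff_bijective.1 fun l l' h => Subtype.ext
          (mul_left_cancel (mul_right_cancel (congrArg Subtype.val h)))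
      obtain ⟨l, hl⟩ := hbij.2 ⟨_, hk⟩
      have : (l : G) = k := mul_left_cancel (mul_right_cancel (congrArg Subtype.val hl))
      exact this ▸ l.2
    -- the centraliser of `vb`
    have hCvb : Subgroup.centralizer ({vb} : Set (↥C ⧸ N)) = (M.subgroupOf C).map π := by
      ext x
      obtain ⟨g, rfl⟩ := QuotientGroup.mk'_surjective N x
      rw [Subgroup.mem_centralizer_singleton_iff, Subgroup.mem_map]
      constructor
      · intro h
        refine ⟨g, Subgroup.mem_subgroupOf.2 (Subgroup.mem_inf.2 ⟨g.2, hnC g (mem_cent.1 g.2) ?_⟩), rfl⟩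
        rw [hvb, ← mul_inv_eq_iff_eq_mul, ← map_inv, ← map_mul, ← map_mul, eq_comm, hπ_eq] at h
        simpa using h
      · rintro ⟨k, hk, hkg⟩
        rw [← hkg, hvb, ← mul_inv_eq_iff_eq_mul, ← map_inv, ← map_mul, ← map_mul, eq_comm, hπ_eq]
        obtain ⟨hk1, hk2⟩ := Subgroup.mem_inf.1 (Subgroup.mem_subgroupOf.1 hk)
        have hm : (k : G) * v * (k : G)⁻¹ ∈ W := (Subgroup.mem_normalizer_iff.1 hk2 v).1 hvW
        simp only [Subgroup.coe_mul, Subgroup.coe_inv]
        rcases hWc _ hm with h | h | h | h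
        · exact absurd (conj_eq_one_iff.1 h) hv1
        · exact absurd (mul_left_cancel (mul_right_cancel (h.trans (conj_cent hk1).symm))) hvy
        · exact Or.inl h
        · exact Or.inr (h.trans (E.cent v hvV).symm)
    -- the centraliser of `Vb`
    have hCVb : Subgroup.centralizer (Vb : Set (↥C ⧸ N)) = (C1.subgroupOf C).map π := by
      ext x
      constructor
      · intro hx
        have hx' : x ∈ Subgroup.centralizer ({vb} : Set (↥C ⧸ N)) :=
          Subgroup.centralizer_le (Set.singleton_subset_iff.2 hvbV) hx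
        rw [hCvb] at hx'
        obtain ⟨g, hg, rfl⟩ := hx'
        refine ⟨g, Subgroup.mem_subgroupOf.2 (Subgroup.mem_inf.2 ⟨Subgroup.mem_subgroupOf.1 hg, ?_⟩), rfl⟩
        have hgy : (g : G) * y = y * g := mem_cent.1 g.2
        have hconjV : ∀ s (hs : s ∈ V), (g : G)⁻¹ * s * g = s ∨ (g : G)⁻¹ * s * g = s * y := by
          intro s hs
          have h := Subgroup.mem_centralizer_iff.1 hx (π ⟨s, hVC hs⟩)
            (Subgroup.mem_map_of_mem π (Subgroup.mem_subgroupOf.2 hs))
          have h' : π ⟨s, hVC hs⟩ = π (g⁻¹ * ⟨s, hVC hs⟩ * g) := by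
            rw [map_mul, map_mul, map_inv, mul_assoc, h, inv_mul_cancel_left]
          simpa using (hπ_eq _ _).1 h'
        show (g : G) • c = c
        by_contra hne
        have hgfix : ∀ s ∈ V, s • ((g : G) • c) = (g : G) • c := by
          intro s hs
          have hsc : ((g : G)⁻¹ * s * g) • c = c := by
            rcases hconjV s hs with h | h <;> rw [h]
            · exact E.fix s hs
            · rw [mul_smul, (mem_two.1 δ.mem).1, E.fix s hs]
          rwa [mul_smul, mul_smul, inv_smul_eq_iff] at hsc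
        have hgcy : (g : G) • c ∈ fx Ω y := fx_smul g.2 (mem_fx_left δ)
        have δ3 := datum_of_fixed δ (Ne.symm hne) (mem_fx.1 (mem_fx_left δ)) (mem_fx.1 hgcy)
        have hv' : v ∈ four y c ((g : G) • c) := mem_four.2 ⟨E.cent v hvV, E.fix v hvV, hgfix v hvV⟩
        have hv2' : v2 ∈ four y c ((g : G) • c) :=
          mem_four.2 ⟨E.cent v2 hv2V, E.fix v2 hv2V, hgfix v2 hv2V⟩
        rcases H.four_cases δ3 hv' hv1 hvy hv2' with h | h | h | h
        · exact hv21 h
        · exact E.not_mem (h ▸ hv2V)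
        · exact E.cycle_ne v hvV hv1 h
        · exact E.not_mem ((V.mul_mem_cancel_right hvV).1 (h ▸ hv2V))
      · rintro ⟨g, hg, rfl⟩
        obtain ⟨hgM, hgc⟩ := Subgroup.mem_inf.1 (Subgroup.mem_subgroupOf.1 hg)
        have hgy : (g : G) * y = y * g := mem_cent.1 g.2
        have hgc' : (g : G) • c = c := hgc
        have hgv : π g ∈ Subgroup.centralizer ({vb} : Set (↥C ⧸ N)) :=
          hCvb ▸ Subgroup.mem_map_of_mem π (Subgroup.mem_subgroupOf.2 hgM)
        have hkey : ∀ s ∈ V, (g : G) * s * (g : G)⁻¹ ∈ E8 := by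
          have hconjW : ∀ l, (g : G) * l * (g : G)⁻¹ ∈ W ↔ l ∈ W := fun l =>
            (Subgroup.mem_normalizer_iff.1 (Subgroup.mem_inf.1 hgM).2 l).symm
          have h2 : (g : G) * v2 * (g : G)⁻¹ ∈ E8 := hcoset _
            (mul_mem (mul_mem hgM hv2M) (inv_mem hgM)) (by rw [conj_mul, E.sq v2 hv2V]; simp)
            (fun h => hv2W ((hconjW v2).1 h))
            (by rw [mul_smul, mul_smul, inv_smul_eq_iff.2 hgc'.symm, E.fix v2 hv2V, hgc'])
          intro s hs
          rcases eq_or_ne s 1 with rfl | hs1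
          · simp
          rcases E.third hvV hv1 s hs hs1 with rfl | rfl | rfl
          · exact hWE ((hconjW s).2 hvW)
          · exact h2
          · rw [← conj_mul]; exact mul_mem (hWE ((hconjW v).2 hvW)) h2
        have hVbN : ∀ p ∈ Vb, π g * p * (π g)⁻¹ ∈ Vb := by
          rintro _ ⟨s, hs, rfl⟩
          obtain ⟨r, hr, hrs⟩ := hkey s hs
          refine ⟨⟨r, hVC hr⟩, Subgroup.mem_subgroupOf.2 hr, ?_⟩
          rw [← map_inv, ← map_mul, ← map_mul, hπ_eq]
          simpa using hrs
        refine centralizes_of_normalizes (K := (⊤ : Subgroup (↥C ⧸ N))) le_top (by rwa [Subgroup.card_top]) hvbV hvb1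
          (Subgroup.mem_top _) (Subgroup.mem_centralizer_singleton_iff.1 hgv) ?_
        rw [Subgroup.mem_normalizer_iff]
        refine fun p => ⟨hVbN p, fun hp => ?_⟩
        have hbij : Function.Bijective (fun l : Vb => (⟨π g * l * (π g)⁻¹, hVbN l l.2⟩ : Vb)) :=
          Finite.injective_iff_bijective.1 fun l l' h => Subtype.ext
            (mul_left_cancel (mul_right_cancel (congrArg Subtype.val h)))
        obtain ⟨l, hl⟩ := hbij.2 ⟨_, hp⟩
        have : (l : (↥C ⧸ N)) = p := mul_left_cancel (mul_right_cancel (congrArg Subtype.val hl))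
        exact this ▸ l.2
    have hns : ¬ Group.IsSolvable (↥C ⧸ N) := by
      intro hs
      obtain ⟨D, hDC, hyD, hDs⟩ := hD
      refine hDs ?_
      haveI := hs
      refine Group.isSolvable_of_isSolvable_injective (f := π.comp (Subgroup.inclusion hDC)) ?_
      rw [injective_iff_map_eq_one]
      intro x hx
      have hxN : Subgroup.inclusion hDC x ∈ N := hker ▸ (MonoidHom.mem_ker.2 hx)
      rcases (hmemN _).1 hxN with h | h
      · exact Subtype.ext h
      · exact absurd (h ▸ x.2) hyD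
    obtain ⟨g, h, hg, hh, hidx, hcen, -⟩ := four_sylow Vb h8 hns hvbV hvb1
    have hMC : M ≤ C := inf_le_left
    have hcM : Nat.card (Subgroup.centralizer ({vb} : Set (↥C ⧸ N))) * 2 = f * (f - 1) * 4 := by
      rw [hCvb, ← hNcard, ← card_eq_card_map_mul π (M.subgroupOf C) (by
        rw [hker]
        intro k hk
        rw [Subgroup.mem_subgroupOf]
        rcases (hmemN k).1 hk with h | h <;> rw [h]
        exacts [one_mem _, hWM hyW]),
        Nat.card_congr (Subgroup.subgroupOfEquivOfLe hMC).toEquiv]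
      exact H.card_local δ'
    have hc1 : Nat.card (Subgroup.centralizer (Vb : Set (↥C ⧸ N))) * 2 = (f - 1) * 4 := by
      rw [hCVb, ← hNcard, ← card_eq_card_map_mul π (C1.subgroupOf C) (by
        rw [hker]
        intro k hk
        rw [Subgroup.mem_subgroupOf]
        rcases (hmemN k).1 hk with h | h <;> rw [h]
        exacts [one_mem _, Subgroup.mem_inf.2 ⟨hWM hyW, (mem_two.1 δ.mem).1⟩]),
        Nat.card_congr (Subgroup.subgroupOfEquivOfLe (inf_le_left.trans hMC)).toEquiv]
      exact hMc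
    have hgh : g * h = f := by
      refine Nat.eq_of_mul_eq_mul_right (show 0 < (f - 1) * 4 by omega) ?_
      rw [← hc1, ← mul_assoc, ← hcen, hcM, hc1, ← mul_assoc]
    have hindex : (Subgroup.centralizer ({vb} : Set (↥C ⧸ N))).index = (2 * f - 1) * (2 * f + 1) := by
      have h := (Subgroup.centralizer ({vb} : Set (↥C ⧸ N))).index_mul_card
      refine Nat.eq_of_mul_eq_mul_right (show 0 < f * (f - 1) * 4 from
        Nat.mul_pos (Nat.mul_pos (by omega) (by omega)) (by norm_num)) ?_
      rw [← hcM, ← mul_assoc, h, hY2, hcM, hi1, hie]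
      obtain ⟨m, hm⟩ : ∃ m, f = m + 1 := ⟨f - 1, by omega⟩
      rw [hm, Nat.add_sub_cancel, show 2 * (m + 1) - 1 = 2 * m + 1 by omega]
      ring
    rw [hindex] at hidx
    obtain ⟨k, rfl⟩ : ∃ k, g = k + 1 := ⟨g - 1, by omega⟩
    rcases hidx with h1 | ⟨h2, h1⟩
    · have hlhs : (2 * f - 1) * (2 * f + 1) ≤ 4 * (f * f) := by
        obtain ⟨m, hm⟩ : ∃ m, f = m + 1 := ⟨f - 1, by omega⟩
        rw [hm, show 2 * (m + 1) - 1 = 2 * m + 1 by omega]
        nlinarith
      rw [h1, ← hgh] at hlhs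
      nlinarith
    · obtain ⟨m, rfl⟩ : ∃ m, h = m + 1 := ⟨h - 1, by omega⟩
      have hfZ : ((k : ℤ) + 1) * (m + 1) = f := by exact_mod_cast hgh
      have h1Z : (2 * (f : ℤ) - 1) * (2 * f + 1) = ((k : ℤ) + 1) ^ 2 * ((4 * m + 3) * (2 * m + 1)) := by
        rw [show 4 * (m + 1) - 1 = 4 * m + 3 by omega, show 2 * (m + 1) - 1 = 2 * m + 1 by omega] at h1
        have := congrArg (Nat.cast : ℕ → ℤ) h1
        push_cast [Nat.cast_sub (show 1 ≤ 2 * f by omega)] at this
        exact this
      have hk1 : ((k : ℤ) + 1) ∣ 1 := ⟨4 * (m + 1) ^ 2 * (k + 1) - (k + 1) * ((4 * m + 3) * (2 * m + 1)), by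
        rw [← hfZ] at h1Z
        linear_combination -h1Z⟩
      have hk0 : k = 0 := by
        have := Int.le_of_dvd one_pos hk1
        omega
      subst hk0
      rw [← hfZ] at h1Z
      push_cast at h1Z
      nlinarith

end Hyp

end Cfsg.Agent.TwoTransFour
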