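import Cfsg.Agent.Lib.TwoTransFour.Local
import Cfsg.Agent.Lib.PGroup.UniqueOrderP
import Cfsg.Agent.Lib.Spectrum.OrthSphere

/-!
# Two-point stabiliser `A₅`, odd degree, transposition case

With `e ≤ 1`: the case `i = f²` is impossible by the sign of the action on the fixed points.
-/

set_option autoImplicit false
set_option linter.unusedSectionVars false
set_option linter.style.haveILetI false

namespace Cfsg.Agent.TwoTransFour

open MulAction

universe u

variable {G : Type u} [Group G] {Ω : Type*} [MulAction G Ω]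

/-- A central element of a generalized quaternion group has square 1. -/
theorem quaternion_central_sq {N : ℕ} (hN : 2 ≤ N) {x : QuaternionGroup N}
    (hx : ∀ y, y * x = x * y) : x * x = 1 := by
  haveI : NeZero N := ⟨by omega⟩
  haveI : Fact (2 < 2 * N) := ⟨by omega⟩
  rcases x with i | i
  · have h := hx (QuaternionGroup.xa 0)
    rw [QuaternionGroup.xa_mul_a, QuaternionGroup.a_mul_xa, QuaternionGroup.xa.injEq] at h
    rw [QuaternionGroup.a_mul_a, QuaternionGroup.one_def, QuaternionGroup.a.injEq]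
    linear_combination h
  · exfalso
    have h := hx (QuaternionGroup.a 1)
    rw [QuaternionGroup.a_mul_xa, QuaternionGroup.xa_mul_a, QuaternionGroup.xa.injEq] at h
    have h2 : ((2 : ℕ) : ZMod (2 * N)) = 0 := by push_cast; linear_combination -h
    rw [ZMod.natCast_eq_zero_iff] at h2
    have := Nat.le_of_dvd (by norm_num) h2
    omega

/-- A finite cyclic group of even order `2N` with `g` generating: `g ^ N` is the involution. -/
theorem pow_half_eq {G : Type*} [Group G] {g z : G} {N : ℕ} (hN : 0 < N) (hg : orderOf g = 2 * N)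
    (huniq : ∀ t ∈ Subgroup.zpowers g, t * t = 1 → t = 1 ∨ t = z) : g ^ N = z := by
  refine (huniq _ (pow_mem (Subgroup.mem_zpowers g) N) (by
    rw [← pow_add, ← two_mul, ← hg, pow_orderOf_eq_one])).resolve_left fun h => ?_
  have := Nat.le_of_dvd hN (orderOf_dvd_of_pow_eq_one h)
  omega

namespace Hyp

variable (H : Hyp G Ω) [Fintype Ω] [Fintype G]
include H

variable {a b : Ω} {z : G} (d : Datum a b z)
include d

omit H in
theorem datum_order : orderOf z = 2 := orderOf_eq_prime (by rw [pow_two]; exact d.sq) d.ne_one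

/-- Parities for odd degree. -/
theorem odd_parity (hodd : Fintype.card Ω % 2 = 1) :
    (fx Ω z).card % 2 = 1 ∧ (fxs Ω (four z a b)).card % 2 = 1 ∧ 3 ≤ (fxs Ω (four z a b)).card := by
  obtain ⟨e, -, hie, -⟩ := H.exists_e d
  have h := H.parity d
  rw [hodd] at h
  have h2 := H.two_le_fxs d
  have hev : (fxs Ω (four z a b)).card * ((fxs Ω (four z a b)).card - 1) % 2 = 0 :=
    Nat.even_iff.1 (Nat.even_mul_pred_self _)
  have hz : e * ((fxs Ω (four z a b)).card * ((fxs Ω (four z a b)).card - 1)) % 2 = 0 := by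
    rw [Nat.mul_mod, hev, mul_zero, Nat.zero_mod]
  omega

variable (hodd : Fintype.card Ω % 2 = 1) (hO : Transposed a b z)
include hodd hO

/-- No element of `C(V)` interchanges two fixed points of `V`. -/
theorem centralizer_no_swap {x : G} (hx : x ∈ Subgroup.centralizer (four z a b : Set G)) {c e : Ω}
    (hc : c ∈ fxs Ω (four z a b)) (he : e ∈ fxs Ω (four z a b)) (hce : c ≠ e) :
    ¬ (x • c = e ∧ x • e = c) := by
  rintro ⟨h1, h2⟩
  obtain ⟨m, hm, hma, hmb⟩ := H.witt_four d hc he hce
  refine hO.not_central (m⁻¹ * x * m) (mem_swappers.2 ⟨?_, ?_⟩) ?_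
  · rw [mul_smul, mul_smul, hma, h1, inv_smul_eq_iff, hmb]
  · rw [mul_smul, mul_smul, hmb, h2, inv_smul_eq_iff, hma]
  · refine Subgroup.mem_centralizer_iff.2 fun v hv => ?_
    have := Subgroup.mem_centralizer_iff.1 hx _
      ((Subgroup.mem_normalizer_iff.1 (Subgroup.mem_inf.1 hm).2 v).1 hv)
    calc v * (m⁻¹ * x * m) = m⁻¹ * (m * v * m⁻¹ * x) * m := by group
      _ = m⁻¹ * x * m * v := by rw [this]; group

/-- `8 ∤ |C(V)|`. -/
theorem centralizer_eight : ¬ 8 ∣ Nat.card (Subgroup.centralizer (four z a b : Set G)) := by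
  intro h8
  haveI : Fact (Nat.Prime 2) := ⟨Nat.prime_two⟩
  set C := Subgroup.centralizer (four z a b : Set G) with hC
  have hVC : four z a b ≤ C := H.four_le_centralizer d
  obtain ⟨K, hK, hVK⟩ := Sylow.exists_subgroup_card_pow_succ (G := C) (p := 2) (n := 2) (by norm_num; exact h8)
    (H := (four z a b).subgroupOf C)
    (by rw [Nat.card_congr (Subgroup.subgroupOfEquivOfLe hVC).toEquiv, H.card_four d]; norm_num)
  obtain ⟨g, hgK, hgV⟩ : ∃ g ∈ K, g ∉ (four z a b).subgroupOf C := by
    by_contra hno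
    push Not at hno
    have := Nat.le_of_dvd Nat.card_pos (Subgroup.card_dvd_of_le hno)
    rw [hK, Nat.card_congr (Subgroup.subgroupOfEquivOfLe hVC).toEquiv, H.card_four d] at this
    norm_num at this
  have hidx : (((four z a b).subgroupOf C).subgroupOf K).index = 2 := by
    have := (((four z a b).subgroupOf C).subgroupOf K).index_mul_card
    rw [hK, Nat.card_congr (Subgroup.subgroupOfEquivOfLe hVK).toEquiv,
      Nat.card_congr (Subgroup.subgroupOfEquivOfLe hVC).toEquiv, H.card_four d] at this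
    norm_num at this
    omega
  have hsq : (g : G) * g ∈ four z a b := by
    have := Subgroup.sq_mem_of_index_two hidx ⟨g, hgK⟩
    rw [pow_two, Subgroup.mem_subgroupOf, Subgroup.mem_subgroupOf] at this
    exact this
  obtain ⟨hgz, hgN⟩ := Subgroup.mem_inf.1 (centralizer_four_le d g.2)
  by_cases ha : (g : G) • a = a ∧ (g : G) • b = b
  · exact hgV (Subgroup.mem_subgroupOf.2 (mem_four.2 ⟨mem_cent.1 hgz, ha⟩))
  obtain ⟨c, hc, hgc⟩ : ∃ c ∈ fxs Ω (four z a b), (g : G) • c ≠ c := by
    rcases not_and_or.1 ha with h | h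
    exacts [⟨a, mem_fxs_left d, h⟩, ⟨b, mem_fxs_right d, h⟩]
  exact H.centralizer_no_swap d hodd hO g.2 hc (fxs_smul hgN hc) (Ne.symm hgc)
    ⟨rfl, by rw [← mul_smul]; exact mem_fxs.1 hc _ hsq⟩

/-- `16 ∤ |C(z) ∩ N(V)|` and `C(V)` has index at most 2 in it. -/
theorem local_sixteen : ¬ 16 ∣ Nat.card ↥(Subgroup.centralizer ({z} : Set G) ⊓
    Subgroup.normalizer (four z a b : Set G)) := by
  classical
  obtain ⟨v, hv, hv1, hvz⟩ := H.exists_other d
  set M := Subgroup.centralizer ({z} : Set G) ⊓ Subgroup.normalizer (four z a b : Set G)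
  set C := Subgroup.centralizer (four z a b : Set G) with hC
  let P : Finset G := (Finset.univ.filter fun g => g ∈ M).image fun g => g * v * g⁻¹
  have hP : P ⊆ {v, z * v} := by
    intro y hy
    obtain ⟨g, hg, rfl⟩ := Finset.mem_image.1 hy
    obtain ⟨hgz, hgN⟩ := Subgroup.mem_inf.1 (Finset.mem_filter.1 hg).2
    rcases H.four_cases d hv hv1 hvz ((Subgroup.mem_normalizer_iff.1 hgN v).1 hv) with h | h | h | h
    · exact absurd (conj_eq_one_iff.1 h) hv1
    · exact absurd (mul_left_cancel (mul_right_cancel (h.trans (conj_cent hgz).symm))) hvz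
    · rw [h]; exact Finset.mem_insert_self _ _
    · rw [h]; exact Finset.mem_insert_of_mem (Finset.mem_singleton_self _)
  have hcard := card_fibre M C (fun g => g * v * g⁻¹) P
    (fun g hg => Finset.mem_image.2 ⟨g, Finset.mem_filter.2 ⟨Finset.mem_univ _, hg⟩, rfl⟩)
    (fun p hp => by
      obtain ⟨g, hg, hgp⟩ := Finset.mem_image.1 hp
      exact ⟨g, (Finset.mem_filter.1 hg).2, hgp⟩)
    (centralizer_four_le d) (fun g hg g' hg' => by
      constructor
      · intro h
        refine Subgroup.mem_centralizer_iff.2 fun u hu => ?_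
        set k := g⁻¹ * g' with hk
        have hkz : k * z = z * k :=
          mem_cent.1 (mul_mem (inv_mem (Subgroup.mem_inf.1 hg).1) (Subgroup.mem_inf.1 hg').1)
        have hkv : k * v = v * k := by
          calc k * v = g⁻¹ * (g' * v * g'⁻¹) * g' := by rw [hk]; group
            _ = g⁻¹ * (g * v * g⁻¹) * g' := by rw [h]
            _ = v * k := by rw [hk]; group
        rcases H.four_cases d hv hv1 hvz hu with rfl | rfl | rfl | rfl
        · simp
        · exact hkz.symm
        · exact hkv.symm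
        · rw [mul_assoc, ← hkv, ← mul_assoc, ← hkz, mul_assoc]
      · intro h
        have := Subgroup.mem_centralizer_iff.1 h v hv
        calc g * v * g⁻¹ = g * (v * (g⁻¹ * g')) * g'⁻¹ := by group
          _ = g * (g⁻¹ * g' * v) * g'⁻¹ := by rw [this]
          _ = g' * v * g'⁻¹ := by group)
  have h8 := H.centralizer_eight d hodd hO
  have hP2 : P.card ≤ 2 := (Finset.card_le_card hP).trans Finset.card_le_two
  intro h16
  rw [hcard] at h16
  interval_cases hPc : P.card
  · exact absurd (Finset.card_eq_zero.1 hPc) (Finset.nonempty_iff_ne_empty.1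
      ⟨_, Finset.mem_image.2 ⟨1, Finset.mem_filter.2 ⟨Finset.mem_univ _, one_mem _⟩, rfl⟩⟩)
  · rw [one_mul] at h16
    exact h8 (Dvd.dvd.trans (by norm_num) h16)
  · exact h8 ((Nat.mul_dvd_mul_iff_left (a := 2) (by norm_num)).1 (show 2 * 8 ∣ _ from h16))

/-- `f ≡ 3 (mod 4)`. -/
theorem fxs_mod_four : (fxs Ω (four z a b)).card % 4 = 3 := by
  obtain ⟨-, hf, -⟩ := H.odd_parity d hodd
  have h := H.local_sixteen d hodd hO
  rw [H.card_local d] at h
  by_contra hne
  have h1 : (fxs Ω (four z a b)).card % 4 = 1 := by omega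
  refine h ⟨(fxs Ω (four z a b)).card * (((fxs Ω (four z a b)).card - 1) / 4), ?_⟩
  have : (fxs Ω (four z a b)).card - 1 = 4 * (((fxs Ω (four z a b)).card - 1) / 4) := by omega
  conv_lhs => rw [this]
  ring

/-- At most two involutions of `C(z)` interchange `a` and `b`, so `e ≤ 1`. -/
theorem vset_swappers_le : (swapsIn (vset Ω z) a b).card ≤ 2 := hO.two_invol _ fun t ht =>
  ⟨mem_swappers.2 (mem_swapsIn.1 ht).2, H.vset_sq d (mem_swapsIn.1 ht).1,
    (mem_vset.1 (mem_swapsIn.1 ht).1).1⟩

/-- For `e = 1` every involution of `C(z)` other than `z` is in `vset`. -/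
theorem invol_vset (h2 : (swapsIn (vset Ω z) a b).card = 2) {x : G} (hx : x * z = z * x) (hxx : x * x = 1)
    (hx1 : x ≠ 1) (hxz : x ≠ z) : x ∈ vset Ω z := by
  classical
  by_cases hfix : ∀ c ∈ fx Ω z, x • c = c
  · exact H.vset_of_fixes d hx hx1 hxz (mem_fx_left d) (mem_fx_right d) d.ne (hfix a (mem_fx_left d))
      (hfix b (mem_fx_right d))
  push Not at hfix
  obtain ⟨c, hc, hxc⟩ := hfix
  obtain ⟨g, hg, hga, hgb⟩ := H.witt d hc (fx_smul (mem_cent.2 hx) hc) (Ne.symm hxc)
  set y := g⁻¹ * x * g with hy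
  have hyy : y * y = 1 := by
    rw [hy, show g⁻¹ * x * g * (g⁻¹ * x * g) = g⁻¹ * (x * x) * g by group, hxx]; group
  have hyz : y * z = z * y :=
    mem_cent.1 (mul_mem (mul_mem (inv_mem hg) (mem_cent.2 hx)) hg)
  have hys : y ∈ swappers G a b := mem_swappers.2 ⟨by rw [hy, mul_smul, mul_smul, hga, inv_smul_eq_iff, hgb],
    by rw [hy, mul_smul, mul_smul, hgb, ← mul_smul x x, hxx, one_smul, inv_smul_eq_iff, hga]⟩
  have hyv : y ∈ vset Ω z := by
    by_contra hyv
    have := hO.two_invol (insert y (swapsIn (vset Ω z) a b)) fun t ht => by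
      rcases Finset.mem_insert.1 ht with rfl | ht
      · exact ⟨hys, hyy, hyz⟩
      · exact ⟨mem_swappers.2 (mem_swapsIn.1 ht).2, H.vset_sq d (mem_swapsIn.1 ht).1,
          (mem_vset.1 (mem_swapsIn.1 ht).1).1⟩
    rw [Finset.card_insert_of_notMem (fun h => hyv (mem_swapsIn.1 h).1), h2] at this
    omega
  have := vset_conj d hg hyv
  rwa [hy, show g * (g⁻¹ * x * g) * g⁻¹ = x by group] at this

/-- `i = f²` is impossible. -/
theorem no_square (h2 : (swapsIn (vset Ω z) a b).card = 2)
    (hie : (fx Ω z).card = (fxs Ω (four z a b)).card +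
      (fxs Ω (four z a b)).card * ((fxs Ω (four z a b)).card - 1)) : False := by
  classical
  haveI : Fact (Nat.Prime 2) := ⟨Nat.prime_two⟩
  haveI := H.klein d
  obtain ⟨hiodd, hfodd, hf3⟩ := H.odd_parity d hodd
  have hf4 := H.fxs_mod_four d hodd hO
  set f := (fxs Ω (four z a b)).card with hf
  set i := (fx Ω z).card with hi
  set W := four z a b with hW
  set A := Subgroup.centralizer ({z} : Set G) ⊓ stabilizer G a with hA
  have hAcard : Nat.card A = (i - 1) * 4 := H.card_cent_stab d
  have hWA : W ≤ A := inf_le_inf_left _ inf_le_left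
  -- the elements of square `z`
  let U : Finset G := Finset.univ.filter fun x => x * x = z
  have hUz : ∀ x ∈ U, x * z = z * x := fun x hx => by
    rw [← (Finset.mem_filter.1 hx).2, mul_assoc]
  have hUone : ∀ x ∈ U, ((fx Ω z).filter fun y => x • y = y).card = 1 := by
    intro x hx
    have hxx := (Finset.mem_filter.1 hx).2
    have hle : ((fx Ω z).filter fun y => x • y = y).card ≤ 1 := by
      rw [Finset.card_le_one]
      intro c hc e he
      rw [Finset.mem_filter] at hc he
      by_contra hce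
      have dc := datum_of_fixed d hce (mem_fx.1 hc.1) (mem_fx.1 he.1)
      exact d.ne_one (hxx.symm.trans (H.four_sq dc (mem_four.2 ⟨hUz x hx, hc.2, he.2⟩)))
    have h := card_fixed_mod_two (fx Ω z) x (fun y hy => fx_smul (mem_cent.2 (hUz x hx)) hy)
      (fun y hy => by rw [← mul_smul, hxx]; exact mem_fx.1 hy)
    omega
  have hUswap : (U.filter fun t => t • a = b ∧ t • b = a).card = 2 := hO.roots _ fun t => by
    simp only [U, Finset.mem_filter, Finset.mem_univ, true_and, mem_swappers]
    exact and_comm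
  have hUa : (U.filter fun t => t • a = a).card = 2 := by
    rw [card_fix_eq_card_swap (Subgroup.centralizer ({z} : Set G)) U (fx Ω z) (mem_fx_left d)
      (mem_fx_right d) d.ne (fun c hc e he hne => H.witt d hc he hne) (fun g hg t ht => by
        simp only [U, Finset.mem_filter, Finset.mem_univ, true_and] at ht ⊢
        rw [conj_mul, ht, conj_cent hg])
      (fun t ht y hy => fx_smul (mem_cent.2 (hUz t ht)) hy)
      (fun t ht y hy => by rw [← mul_smul, (Finset.mem_filter.1 ht).2]; exact mem_fx.1 hy) hUone, hUswap]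
  obtain ⟨u, hu⟩ := Finset.card_pos.1 (show 0 < (U.filter fun t => t • a = a).card by omega)
  rw [Finset.mem_filter] at hu
  obtain ⟨huU, hua⟩ := hu
  have huu : u * u = z := (Finset.mem_filter.1 huU).2
  have huz : u * z = z * u := hUz u huU
  have hune : u ≠ u⁻¹ := fun h => d.ne_one (huu.symm.trans (mul_eq_one_iff_eq_inv.2 h))
  have hUapair : U.filter (fun t => t • a = a) = {u, u⁻¹} := by
    symm
    refine Finset.eq_of_subset_of_card_le (fun t ht => ?_) (by rw [hUa, Finset.card_pair hune])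
    rcases Finset.mem_insert.1 ht with rfl | ht
    · exact Finset.mem_filter.2 ⟨huU, hua⟩
    · rw [Finset.mem_singleton.1 ht]
      refine Finset.mem_filter.2 ⟨Finset.mem_filter.2 ⟨Finset.mem_univ _, ?_⟩, inv_smul_eq_iff.2 hua.symm⟩
      rw [← mul_inv_rev, huu, inv_eq_of_mul_eq_one_right d.sq]
  have huA : u ∈ A := Subgroup.mem_inf.2 ⟨mem_cent.2 huz, mem_stabilizer_iff.2 hua⟩
  have hconj : ∀ g ∈ A, g * u * g⁻¹ = u ∨ g * u * g⁻¹ = u⁻¹ := by
    intro g hg
    obtain ⟨hg1, hg2⟩ := Subgroup.mem_inf.1 hg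
    have hg2' : g • a = a := hg2
    have : g * u * g⁻¹ ∈ U.filter (fun t => t • a = a) := Finset.mem_filter.2
      ⟨Finset.mem_filter.2 ⟨Finset.mem_univ _, by rw [conj_mul, huu, conj_cent hg1]⟩,
        by rw [mul_smul, mul_smul, inv_smul_eq_iff.2 hg2'.symm, hua, hg2']⟩
    rw [hUapair] at this
    simpa using this
  -- no element of `V` but `1`, `z` centralises `u`
  have h8 := H.centralizer_eight d hodd hO
  have hu2 : IsPGroup 2 (Subgroup.zpowers u) := IsPGroup.of_card (n := 2) (by
    rw [Nat.card_zpowers]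
    refine orderOf_eq_prime_pow ?_ ?_
    · rw [pow_one, pow_two, huu]; exact d.ne_one
    · norm_num; rw [show u ^ 4 = (u * u) * (u * u) by simp [pow_succ, mul_assoc], huu, d.sq])
  have hnc : ∀ v ∈ W, v ≠ 1 → v ≠ z → u * v ≠ v * u := by
    intro v hv hv1 hvz huv
    have huC : u ∈ Subgroup.centralizer (W : Set G) := Subgroup.mem_centralizer_iff.2 fun w hw => by
      rcases H.four_cases d hv hv1 hvz hw with rfl | rfl | rfl | rfl
      · simp
      · exact huz.symm
      · exact huv.symm
      · rw [mul_assoc, ← huv, ← mul_assoc, ← huz, mul_assoc]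
    have huW : u ∈ W := mem_of_two_element (H.four_le_centralizer d) h8 hu2 huC
      (Subgroup.centralizer_le_normalizer _ huC)
    exact d.ne_one (huu.symm.trans (H.four_sq d huW))
  obtain ⟨v, hv, hv1, hvz⟩ := H.exists_other d
  have hvA : v ∈ A := hWA hv
  have hvu : v * u * v⁻¹ = u⁻¹ := (hconj v hvA).resolve_left fun h =>
    hnc v hv hv1 hvz (mul_inv_eq_iff_eq_mul.1 h).symm
  -- the subgroup centralising `u`
  set A' := A ⊓ Subgroup.centralizer ({u} : Set G) with hA'
  have hAinv : ∀ x ∈ A', x * x = 1 → x = 1 ∨ x = z := by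
    intro x hx hxx
    by_contra hne
    push Not at hne
    obtain ⟨hxA, hxu⟩ := Subgroup.mem_inf.1 hx
    obtain ⟨hxz, hxa⟩ := Subgroup.mem_inf.1 hxA
    have hxv := H.invol_vset d hodd hO h2 (mem_cent.1 hxz) hxx hne.1 hne.2
    have hc := H.vset_fixed d hxv
    obtain ⟨c, hc', hca⟩ : ∃ c ∈ (fx Ω z).filter (fun y => x • y = y), c ≠ a := by
      by_contra hno
      push Not at hno
      have : ((fx Ω z).filter fun y => x • y = y).card ≤ ({a} : Finset Ω).card :=
        Finset.card_le_card fun y hy => Finset.mem_singleton.2 (hno y hy)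
      rw [Finset.card_singleton] at this
      omega
    rw [Finset.mem_filter] at hc'
    obtain ⟨m, hm, hma, hmb⟩ := H.witt d (mem_fx_left d) hc'.1 (Ne.symm hca)
    have hmA : m ∈ A := Subgroup.mem_inf.2 ⟨hm, mem_stabilizer_iff.2 hma⟩
    set w := m⁻¹ * x * m with hw
    have hwW : w ∈ W := by
      rw [hW, ← four_conj d hm hma hmb, show m * (m⁻¹ * x * m) * m⁻¹ = x by group]
      exact mem_four.2 ⟨mem_cent.1 hxz, hxa, hc'.2⟩
    have hw1 : w ≠ 1 := fun e => hne.1 (by
      rw [show x = m * w * m⁻¹ by rw [hw]; group, e]; group)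
    have hwz : w ≠ z := fun e => hne.2 (by
      rw [show x = m * w * m⁻¹ by rw [hw]; group, e, conj_cent hm])
    refine hnc w hwW hw1 hwz ?_
    have hxu' : x * u = u * x := mem_cent.1 hxu
    have hxu'' : x * u⁻¹ = u⁻¹ * x := (Commute.inv_right (show Commute x u from hxu')).eq
    rcases hconj m hmA with h | h
    · calc u * w = m⁻¹ * (m * u * m⁻¹) * x * m := by rw [hw]; group
        _ = m⁻¹ * (u * x) * m := by rw [h]; group
        _ = m⁻¹ * x * (m * u * m⁻¹) * m := by rw [← hxu', h]; group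
        _ = w * u := by rw [hw]; group
    · calc u * w = m⁻¹ * (m * u * m⁻¹) * x * m := by rw [hw]; group
        _ = m⁻¹ * (u⁻¹ * x) * m := by rw [h]; group
        _ = m⁻¹ * x * (m * u * m⁻¹) * m := by rw [← hxu'', h]; group
        _ = w * u := by rw [hw]; group
  -- a Sylow subgroup of `A` containing `V` and `u`
  obtain ⟨S, hS⟩ := ((IsPGroup.of_card (p := 2) (n := 2) (G := W)
    (by rw [H.card_four d]; norm_num)).comap_of_injective A.subtype A.subtype_injective).exists_le_sylow
  set P : Subgroup G := (S : Subgroup A).map A.subtype with hP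
  have hWP : W ≤ P := fun w hw => ⟨⟨w, hWA hw⟩, hS hw, rfl⟩
  have hPA : P ≤ A := Subgroup.map_subtype_le _
  have hP2 : IsPGroup 2 P := S.2.map _
  have huP : u ∈ P := by
    have hN : P ≤ Subgroup.normalizer (Subgroup.zpowers u : Set G) := fun g hg => by
      rw [Subgroup.mem_normalizer_iff]
      have hmap : (Subgroup.zpowers u).map (MulAut.conj g).toMonoidHom = Subgroup.zpowers u := by
        rw [MonoidHom.map_zpowers]
        rcases hconj g (hPA hg) with h | h <;> simp [h]
      intro x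
      constructor
      · intro hx
        exact (SetLike.ext_iff.1 hmap (g * x * g⁻¹)).1 ⟨x, hx, by simp⟩
      · intro hx
        replace hx := (SetLike.ext_iff.1 hmap (g * x * g⁻¹)).2 hx
        obtain ⟨y, hy, hy'⟩ := hx
        have hxy : g * y * g⁻¹ = g * x * g⁻¹ := by simpa using hy'
        rw [show y = x from mul_left_cancel (mul_right_cancel hxy)] at hy
        exact hy
    have hpU : IsPGroup 2 ↥(P ⊔ Subgroup.zpowers u) := hP2.to_sup_of_normal_right' hu2 hN
    have hle : P ⊔ Subgroup.zpowers u ≤ A := sup_le hPA (Subgroup.zpowers_le.2 huA)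
    have h' := S.3 (hpU.comap_of_injective A.subtype A.subtype_injective)
      (fun x hx => Subgroup.mem_sup_left ⟨x, hx, rfl⟩)
    have hmem : (⟨u, huA⟩ : A) ∈ (P ⊔ Subgroup.zpowers u).comap A.subtype :=
      Subgroup.mem_sup_right (Subgroup.mem_zpowers u)
    rw [h'] at hmem
    exact ⟨_, hmem, rfl⟩
  set Q := P ⊓ Subgroup.centralizer ({u} : Set G) with hQ
  have huQ : u ∈ Q := Subgroup.mem_inf.2 ⟨huP, mem_cent.2 rfl⟩
  have hQA' : Q ≤ A' := inf_le_inf_right _ hPA
  have hQinv : ∀ x ∈ Q, x * x = 1 → x = 1 ∨ x = z := fun x hx => hAinv x (hQA' hx)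
  have hQcyc : IsCyclic Q := by
    have hQ2 : IsPGroup 2 Q := hP2.to_le inf_le_left
    have huniq : ∀ K L : Subgroup Q, Nat.card K = 2 → Nat.card L = 2 → K = L := fun K L hK hL => by
      have key : ∀ K : Subgroup Q, Nat.card K = 2 → ∀ x ∈ K, x ≠ 1 → (x : G) = z := by
        intro K hK x hx hx1
        have hxx : x ^ 2 = 1 := by
          have := congrArg Subtype.val (pow_card_eq_one' (x := (⟨x, hx⟩ : K)))
          rw [hK] at this
          simpa using this
        refine (hQinv x x.2 ?_).resolve_left fun e => hx1 (Subtype.ext e)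
        have := congrArg Subtype.val hxx
        rwa [pow_two] at this
      have hexists : ∀ K : Subgroup Q, Nat.card K = 2 → ∃ x ∈ K, x ≠ 1 := fun K hK => by
        by_contra hno
        push Not at hno
        rw [(Subgroup.eq_bot_iff_forall K).2 hno, Subgroup.card_bot] at hK
        omega
      have hsub : ∀ K L : Subgroup Q, Nat.card K = 2 → Nat.card L = 2 → K ≤ L := fun K L hK hL x hx => by
        by_cases hx1 : x = 1
        · rw [hx1]; exact one_mem _
        · obtain ⟨y, hy, hy1⟩ := hexists L hL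
          rw [Subtype.ext ((key K hK x hx hx1).trans (key L hL y hy hy1).symm)]
          exact hy
      exact le_antisymm (hsub K L hK hL) (hsub L K hL hK)
    rcases PGroup.cyclic_or_quaternion_of_unique hQ2 huniq with h | ⟨-, n, hn, -, ⟨φ⟩⟩
    · exact h
    · exfalso
      have hc : ∀ y, y * φ ⟨u, huQ⟩ = φ ⟨u, huQ⟩ * y := fun y => by
        obtain ⟨y, rfl⟩ := φ.surjective y
        rw [← map_mul, ← map_mul]
        exact congrArg φ (Subtype.ext (mem_cent.1 (Subgroup.mem_inf.1 y.2).2))
      have h := quaternion_central_sq (le_self_pow (show 1 ≤ 2 by norm_num) (by omega : n ≠ 0)) hc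
      rw [← map_mul, ← map_one φ] at h
      exact d.ne_one (huu.symm.trans (congrArg Subtype.val (φ.injective h)))
  obtain ⟨r', hr'⟩ := hQcyc.exists_generator
  set r : G := r'.1 with hr
  have hrQ : r ∈ Q := r'.2
  have hQzp : Q = Subgroup.zpowers r := by
    refine le_antisymm (fun x hx => ?_) (Subgroup.zpowers_le.2 hrQ)
    obtain ⟨k, hk⟩ := hr' ⟨x, hx⟩
    exact ⟨k, congrArg Subtype.val hk⟩
  have hrA' : r ∈ A' := hQA' hrQ
  -- orders
  have hPc : Nat.card P = 2 * Nat.card Q := by
    have hidx : (Q.subgroupOf P).index = 2 := by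
      rw [Subgroup.index_eq_two_iff]
      refine ⟨⟨v, hWP hv⟩, fun g => ?_⟩
      simp only [Subgroup.mem_subgroupOf, hQ, Subgroup.mem_inf, SetLike.coe_mem, Subgroup.coe_mul,
        mul_mem g.2 (hWP hv), true_and, mem_cent]
      have hg := hconj g (hPA g.2)
      have hcv : (g : G) * v * u * ((g : G) * v)⁻¹ = ((g : G) * u * (g : G)⁻¹)⁻¹ := by
        calc (g : G) * v * u * ((g : G) * v)⁻¹ = g * (v * u * v⁻¹) * (g : G)⁻¹ := by group
          _ = _ := by rw [hvu]; group
      rcases hg with h | h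
      · right
        refine ⟨mul_inv_eq_iff_eq_mul.1 h, fun h' => hune ?_⟩
        rw [← mul_inv_eq_iff_eq_mul, hcv, h] at h'
        exact h'.symm
      · left
        refine ⟨?_, fun h' => hune ?_⟩
        · rw [← mul_inv_eq_iff_eq_mul, hcv, h, inv_inv]
        · rw [← mul_inv_eq_iff_eq_mul, h] at h'
          exact h'.symm
    rw [← (Q.subgroupOf P).index_mul_card, hidx,
      Nat.card_congr (Subgroup.subgroupOfEquivOfLe (inf_le_left : Q ≤ P)).toEquiv]
  have hrord : orderOf r = Nat.card Q := by rw [hQzp, Nat.card_zpowers]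
  have hPS : Nat.card P = Nat.card (S : Subgroup A) :=
    Subgroup.card_map_of_injective A.subtype_injective
  obtain ⟨K, hKodd, hK⟩ : ∃ K, K % 2 = 1 ∧ Nat.card A = Nat.card P * K := by
    refine ⟨(S : Subgroup A).index, Nat.two_dvd_ne_zero.1 S.not_dvd_index, ?_⟩
    rw [hPS, Subgroup.card_mul_index]
  obtain ⟨k, hk⟩ : 4 ∣ Nat.card P := H.card_four d ▸ Subgroup.card_dvd_of_le hWP
  have hi8 : (i - 1) % 8 = 0 := by
    obtain ⟨m, hm⟩ : ∃ m, f = 4 * m + 3 := ⟨f / 4, by omega⟩
    rw [hie, hm, show 4 * m + 3 - 1 = 4 * m + 2 by omega,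
      show 4 * m + 3 + (4 * m + 3) * (4 * m + 2) - 1 = 8 * (2 * m ^ 2 + 3 * m + 1) by
        rw [Nat.sub_eq_of_eq_add]; ring]
    omega
  have hkK : i - 1 = k * K := by
    have : (i - 1) * 4 = k * K * 4 := by rw [← hAcard, hK, hk]; ring
    omega
  have hQk : Nat.card Q = 2 * k := by omega
  have hkeven : k % 2 = 0 := by
    by_contra hne
    have : k * K % 2 = 1 := by rw [Nat.mul_mod, hKodd, show k % 2 = 1 by omega]
    omega
  have hkpos : 0 < k := by
    rcases Nat.eq_zero_or_pos k with h0 | h0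
    · have := Nat.card_pos (α := P)
      rw [hk, h0] at this
      omega
    · exact h0
  -- `v` inverts `r`
  have hvP := hWP hv
  have hvi : v⁻¹ = v := inv_eq_of_mul_eq_one_right (H.four_sq d hv)
  have hvrQ : v * r * v ∈ Q := by
    refine Subgroup.mem_inf.2 ⟨mul_mem (mul_mem hvP (Subgroup.mem_inf.1 hrQ).1) hvP, mem_cent.2 ?_⟩
    have h1 : r * u = u * r := mem_cent.1 (Subgroup.mem_inf.1 hrQ).2
    have h1' : r * u⁻¹ = u⁻¹ * r := (Commute.inv_right (show Commute r u from h1)).eq
    have h2' : v * u⁻¹ * v⁻¹ = u := by rw [← conj_inv, hvu, inv_inv]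
    calc v * r * v * u = v * r * (v * u * v⁻¹) * v := by group
      _ = v * (r * u⁻¹) * v := by rw [hvu]; group
      _ = (v * u⁻¹ * v⁻¹) * (v * r * v) := by rw [h1']; group
      _ = u * (v * r * v) := by rw [h2']
  set c := r * (v * r * v) with hc
  have hcQ : c ∈ Q := mul_mem hrQ hvrQ
  have hQcomm : ∀ x ∈ Q, ∀ y ∈ Q, x * y = y * x := by
    intro x hx y hy
    rw [hQzp] at hx hy
    obtain ⟨j, rfl⟩ := hx
    obtain ⟨l, rfl⟩ := hy
    rw [← zpow_add, ← zpow_add, add_comm]
  have hvc : v * c = c * v := by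
    have h1 : c = (v * r * v) * r := hQcomm _ hrQ _ hvrQ
    calc v * c = v * r * v * r * v := by rw [hc]; group
      _ = c * v := by rw [h1]
  have hcC : c ∈ Subgroup.centralizer (W : Set G) := Subgroup.mem_centralizer_iff.2 fun w hw => by
    have hcz : c * z = z * c := mem_cent.1 (Subgroup.mem_inf.1 (hPA (Subgroup.mem_inf.1 hcQ).1)).1
    rcases H.four_cases d hv hv1 hvz hw with rfl | rfl | rfl | rfl
    · simp
    · exact hcz.symm
    · exact hvc
    · rw [mul_assoc, hvc, ← mul_assoc, ← hcz, mul_assoc]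
  have hc2 : IsPGroup 2 (Subgroup.zpowers c) :=
    hP2.to_le (Subgroup.zpowers_le.2 (Subgroup.mem_inf.1 hcQ).1)
  have hcW : c ∈ W := mem_of_two_element (H.four_le_centralizer d) h8 hc2 hcC
    (Subgroup.centralizer_le_normalizer _ hcC)
  set t := r * v with ht
  have htA : t ∈ A := mul_mem (hPA (Subgroup.mem_inf.1 hrQ).1) hvA
  have htnA' : t * u ≠ u * t := fun h => hune (by
    have h1 : t * u * t⁻¹ = u⁻¹ := by
      calc t * u * t⁻¹ = r * (v * u * v⁻¹) * r⁻¹ := by rw [ht]; group
        _ = u⁻¹ := by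
          rw [hvu]
          exact mul_inv_eq_iff_eq_mul.2
            (Commute.inv_right (show Commute r u from mem_cent.1 (Subgroup.mem_inf.1 hrQ).2)).eq
    rw [← mul_inv_eq_iff_eq_mul, h1] at h
    exact h.symm)
  have htt : t * t = c := by rw [ht, hc]; group
  have ht1 : t * t = 1 := by
    rcases hQinv c hcQ (H.four_sq d hcW) with h | h
    · rw [htt, h]
    · exfalso
      have htU : t ∈ U.filter (fun t => t • a = a) := Finset.mem_filter.2
        ⟨Finset.mem_filter.2 ⟨Finset.mem_univ _, htt.trans h⟩, (Subgroup.mem_inf.1 htA).2⟩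
      rw [hUapair] at htU
      rcases Finset.mem_insert.1 htU with h' | h'
      · exact htnA' (by rw [h'])
      · exact htnA' (by rw [Finset.mem_singleton.1 h']; group)
  have htz : t * z = z * t := mem_cent.1 (Subgroup.mem_inf.1 htA).1
  have htv : t ∈ vset Ω z := H.invol_vset d hodd hO h2 htz ht1
    (fun h => htnA' (by rw [h]; group)) (fun h => htnA' (by rw [h]; exact huz.symm))
  have hvv : v ∈ vset Ω z := H.vset_of_fixes d (mem_four.1 hv).1 hv1 hvz (mem_fx_left d) (mem_fx_right d)
    d.ne (mem_four.1 hv).2.1 (mem_four.1 hv).2.2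
  -- signs
  let S' : SubMulAction (Subgroup.centralizer ({z} : Set G)) Ω :=
    { carrier := {x | x ∈ fx Ω z}
      smul_mem' := fun g x hx => fx_smul g.2 hx }
  let φ : ↥(Subgroup.centralizer ({z} : Set G)) →* Equiv.Perm S' := MulAction.toPermHom _ _
  have hφ : ∀ (g : ↥(Subgroup.centralizer ({z} : Set G))) (x : S'), ((φ g x : S') : Ω) = (g : G) • (x : Ω) :=
    fun g x => rfl
  have hsupp : ∀ (g : ↥(Subgroup.centralizer ({z} : Set G))),
      (φ g).support.card + ((fx Ω z).filter fun y => (g : G) • y = y).card = i := by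
    intro g
    have h := Finset.card_filter_add_card_filter_not (s := fx Ω z) (fun y => (g : G) • y = y)
    rw [← hi] at h
    rw [← h, add_comm]
    congr 1
    refine Finset.card_bij (fun x _ => (x : Ω)) (fun x hx => ?_) (fun x _ y _ e => Subtype.ext e)
      (fun y hy => ?_)
    · rw [Equiv.Perm.mem_support] at hx
      exact Finset.mem_filter.2 ⟨x.2, fun e => hx (Subtype.ext e)⟩
    · obtain ⟨h1, h2⟩ := Finset.mem_filter.1 hy
      exact ⟨⟨y, h1⟩, Equiv.Perm.mem_support.2 fun e => h2 (congrArg Subtype.val e), rfl⟩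
  have hsign2 : ∀ x (hx : x ∈ vset Ω z),
      ∃ j, 2 * j + f = i ∧ Equiv.Perm.sign (φ ⟨x, mem_cent.2 (mem_vset.1 hx).1⟩) = (-1) ^ j := by
    intro x hx
    set g : ↥(Subgroup.centralizer ({z} : Set G)) := ⟨x, mem_cent.2 (mem_vset.1 hx).1⟩
    have hgg : φ g ^ 2 = 1 := by
      rw [← map_pow, show g ^ 2 = 1 from Subtype.ext (by rw [pow_two]; exact H.vset_sq d hx), map_one]
    obtain ⟨j, hj1, hj2⟩ := Spectrum.OrthSphere.sign_semiregular (φ g) (n := 2) (by norm_num) hgg
      (fun l h1 h2 y hy => by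
        obtain rfl : l = 1 := by omega
        rwa [pow_one] at hy)
    refine ⟨j, ?_, ?_⟩
    · have := hsupp g
      rw [hj1, show (g : G) = x from rfl, H.vset_fixed d hx] at this
      exact this
    · rw [hj2, pow_add, pow_mul]; simp
  obtain ⟨j, hj, hsv⟩ := hsign2 v hvv
  obtain ⟨j', hj', hst⟩ := hsign2 t htv
  obtain rfl : j' = j := by omega
  set rr : ↥(Subgroup.centralizer ({z} : Set G)) := ⟨r, (Subgroup.mem_inf.1 (Subgroup.mem_inf.1 hrA').1).1⟩
  set vv : ↥(Subgroup.centralizer ({z} : Set G)) := ⟨v, mem_cent.2 (mem_vset.1 hvv).1⟩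
  have hsr : Equiv.Perm.sign (φ rr) = 1 := by
    have heq : (⟨t, mem_cent.2 (mem_vset.1 htv).1⟩ : ↥(Subgroup.centralizer ({z} : Set G))) = rr * vv :=
      Subtype.ext rfl
    rw [heq, map_mul, map_mul] at hst
    rw [hsv] at hst
    exact mul_eq_right.1 hst
  have hrN : r ^ k = z :=
    pow_half_eq hkpos (by rw [hrord, hQk]) fun s hs => hQinv s (by rw [hQzp]; exact hs)
  have hpow : φ rr ^ k = 1 := Equiv.ext fun y => Subtype.ext (by
    rw [← map_pow, hφ, SubgroupClass.coe_pow, show (rr : G) = r from rfl, hrN]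
    exact mem_fx.1 y.2)
  have hfree : ∀ l, 0 < l → l < k → ∀ y, (φ rr ^ l) y = y → φ rr y = y := by
    intro l hl0 hlk y hy
    rw [← map_pow] at hy
    have hy' : (r ^ l) • (y : Ω) = y := congrArg Subtype.val hy
    by_cases hya : (y : Ω) = a
    · refine Subtype.ext ?_
      rw [hφ, hya]
      exact (Subgroup.mem_inf.1 (Subgroup.mem_inf.1 hrA').1).2
    exfalso
    have hmem := pow_mem hrA' l
    obtain ⟨h1, h2'⟩ := Subgroup.mem_inf.1 (Subgroup.mem_inf.1 hmem).1
    have dy := datum_of_fixed d (Ne.symm hya) (mem_fx.1 (mem_fx_left d)) (mem_fx.1 y.2)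
    have hsq := H.four_sq dy (mem_four.2 ⟨mem_cent.1 h1, h2', hy'⟩)
    rcases hAinv _ hmem hsq with h | h
    · have := Nat.le_of_dvd hl0 (orderOf_dvd_of_pow_eq_one h)
      omega
    · have h' : r ^ (k - l) = 1 := by
        have hh : r ^ (k - l) * r ^ l = r ^ k := by rw [← pow_add, Nat.sub_add_cancel hlk.le]
        rw [h, hrN] at hh
        exact mul_eq_right.1 hh
      have := Nat.le_of_dvd (by omega) (orderOf_dvd_of_pow_eq_one h')
      omega
  obtain ⟨L, hL1, hL2⟩ := Spectrum.OrthSphere.sign_semiregular (φ rr) hkpos hpow hfree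
  have hfixr : ((fx Ω z).filter fun y => (rr : G) • y = y).card = 1 := by
    rw [Finset.card_eq_one]
    refine ⟨a, Finset.ext fun y => ?_⟩
    rw [Finset.mem_filter, Finset.mem_singleton]
    refine ⟨fun ⟨hy, hry⟩ => by_contra fun hya => ?_, fun h => h ▸ ⟨mem_fx_left d,
      (Subgroup.mem_inf.1 (Subgroup.mem_inf.1 hrA').1).2⟩⟩
    have dy := datum_of_fixed d (Ne.symm hya) (mem_fx.1 (mem_fx_left d)) (mem_fx.1 hy)
    have hsq := H.four_sq dy (mem_four.2
      ⟨mem_cent.1 rr.2, (Subgroup.mem_inf.1 (Subgroup.mem_inf.1 hrA').1).2, hry⟩)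
    have := Nat.le_of_dvd two_pos (orderOf_dvd_of_pow_eq_one ((pow_two r).trans hsq))
    omega
  have hkL := hsupp rr
  rw [hL1, hfixr] at hkL
  have hLK : L = K := Nat.eq_of_mul_eq_mul_left hkpos (by omega)
  rw [hsr, hLK] at hL2
  have hpar : Odd (k * K + K) := by
    rw [Nat.odd_iff, Nat.add_mod, Nat.mul_mod, hkeven, zero_mul, Nat.zero_mod, hKodd]
  rw [hpar.neg_one_pow] at hL2
  exact absurd hL2 (by decide)

end Hyp

end Cfsg.Agent.TwoTransFour
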