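import Cfsg.Agent.Lib.TwoTransFour.Count
import Cfsg.Agent.Lib.TwoTransFour.A5Facts
import Mathlib.GroupTheory.PGroup

/-!
# 2-transitive groups whose two-point stabilisers are isomorphic to `A₅`: fixed points of an involution

For an involution `z` fixing `a ≠ b`, with `V = C(z) ∩ G_ab`, the centraliser of `z` is 2-transitive on the
fixed points of `z` and `C(z) ∩ N(V)` on those of `V`, both with two-point stabiliser `V`.  If `i` and `f`
are the numbers of these fixed points, `e'` the number of conjugates of `z` interchanging `a` and `b`, and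
`n = |Ω|`, then `15 (n - i) = e' i (i - 1)` and `i - f = e f (f - 1)` with `e ≤ 2`.
-/

set_option autoImplicit false
set_option linter.unusedSectionVars false
set_option linter.style.haveILetI false

namespace Cfsg.Agent.TwoTransFour

open MulAction

variable (G : Type*) [Group G]

/-- The two-point stabiliser. -/
abbrev two {Ω : Type*} [MulAction G Ω] (a b : Ω) : Subgroup G := stabilizer G a ⊓ stabilizer G b

/-- Doubly transitive with two-point stabilisers isomorphic to `A₅`. -/
structure Hyp (Ω : Type*) [MulAction G Ω] : Prop where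
  trans : IsMultiplyPretransitive G Ω 2
  iso : ∀ a b : Ω, a ≠ b → Nonempty (two G a b ≃* alternatingGroup (Fin 5))

variable {G} {Ω : Type*} [MulAction G Ω]

/-- An involution fixing two given points. -/
structure Datum (a b : Ω) (z : G) : Prop where
  ne : a ≠ b
  mem : z ∈ two G a b
  sq : z * z = 1
  ne_one : z ≠ 1

/-- Fixed points as a finset. -/
noncomputable def fx (Ω : Type*) [MulAction G Ω] [Fintype Ω] (z : G) : Finset Ω :=
  haveI := Classical.decPred fun x : Ω => z • x = x
  Finset.univ.filter fun x => z • x = x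

/-- Points fixed by a subgroup. -/
noncomputable def fxs (Ω : Type*) [MulAction G Ω] [Fintype Ω] (V : Subgroup G) : Finset Ω :=
  haveI := Classical.decPred fun x : Ω => ∀ v ∈ V, v • x = x
  Finset.univ.filter fun x => ∀ v ∈ V, v • x = x

theorem mem_fx [Fintype Ω] {z : G} {x : Ω} : x ∈ fx Ω z ↔ z • x = x := by simp [fx]

theorem mem_fxs [Fintype Ω] {V : Subgroup G} {x : Ω} : x ∈ fxs Ω V ↔ ∀ v ∈ V, v • x = x := by simp [fxs]

theorem mem_two {a b : Ω} {g : G} : g ∈ two G a b ↔ g • a = a ∧ g • b = b :=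
  Subgroup.mem_inf.trans (and_congr mem_stabilizer_iff mem_stabilizer_iff)

theorem mem_cent {z g : G} : g ∈ Subgroup.centralizer ({z} : Set G) ↔ g * z = z * g :=
  Subgroup.mem_centralizer_singleton_iff

theorem conj_cent {z : G} {g : G} (hg : g ∈ Subgroup.centralizer ({z} : Set G)) : g * z * g⁻¹ = z :=
  mul_inv_eq_iff_eq_mul.2 (mem_cent.1 hg)

theorem two_conj {a b c d : Ω} {g x : G} (h1 : g • a = c) (h2 : g • b = d) :
    g * x * g⁻¹ ∈ two G c d ↔ x ∈ two G a b := by
  simp only [mem_two, ← h1, ← h2, mul_smul, inv_smul_smul, smul_left_cancel_iff]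

/-- The four group `C(z) ∩ G_ab`. -/
abbrev four (z : G) (a b : Ω) : Subgroup G := Subgroup.centralizer ({z} : Set G) ⊓ two G a b

theorem mem_four {z g : G} {a b : Ω} :
    g ∈ four z a b ↔ g * z = z * g ∧ g • a = a ∧ g • b = b :=
  Subgroup.mem_inf.trans (and_congr mem_cent mem_two)

theorem fxs_smul [Fintype Ω] {V : Subgroup G} {g : G} (hg : g ∈ Subgroup.normalizer (V : Set G)) {x : Ω}
    (hx : x ∈ fxs Ω V) : g • x ∈ fxs Ω V := mem_fxs.2 fun v hv => by
  have h := mem_fxs.1 hx _ ((Subgroup.mem_normalizer_iff''.1 hg v).1 hv)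
  rwa [mul_smul, mul_smul, inv_smul_eq_iff] at h

theorem fx_smul [Fintype Ω] {z g : G} (hg : g ∈ Subgroup.centralizer ({z} : Set G)) {x : Ω}
    (hx : x ∈ fx Ω z) : g • x ∈ fx Ω z := mem_fx.2 (by
  rw [← mul_smul, ← mem_cent.1 hg, mul_smul, mem_fx.1 hx])

theorem datum_of_fixed {a b c d : Ω} {z : G} (d₀ : Datum a b z) (hcd : c ≠ d) (hc : z • c = c)
    (hd : z • d = d) : Datum c d z := ⟨hcd, mem_two.2 ⟨hc, hd⟩, d₀.sq, d₀.ne_one⟩

namespace Hyp

variable (H : Hyp G Ω)
include H

theorem card_two {a b : Ω} (hab : a ≠ b) : Nat.card (two G a b) = 60 := by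
  obtain ⟨e⟩ := H.iso a b hab
  rw [Nat.card_congr e.toEquiv, nat_card_alternatingGroup, Nat.card_fin]
  rfl

theorem invol_conj {a b : Ω} (hab : a ≠ b) {x y : G} (hx : x ∈ two G a b) (hy : y ∈ two G a b)
    (hx2 : x * x = 1) (hx1 : x ≠ 1) (hy2 : y * y = 1) (hy1 : y ≠ 1) :
    ∃ g ∈ two G a b, g * x * g⁻¹ = y := by
  obtain ⟨e⟩ := H.iso a b hab
  obtain ⟨g, hg⟩ := A5.invol_conj (e ⟨x, hx⟩) (e ⟨y, hy⟩)
    (by rw [← map_mul, ← map_one e]; exact congrArg e (Subtype.ext hx2))
    (fun h => hx1 (congrArg Subtype.val (e.injective (h.trans (map_one e).symm))))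
    (by rw [← map_mul, ← map_one e]; exact congrArg e (Subtype.ext hy2))
    (fun h => hy1 (congrArg Subtype.val (e.injective (h.trans (map_one e).symm))))
  refine ⟨e.symm g, (e.symm g).2, ?_⟩
  have h := congrArg e.symm hg
  rw [map_mul, map_mul, map_inv, e.symm_apply_apply, e.symm_apply_apply] at h
  exact congrArg Subtype.val h

section Local

variable {a b : Ω} {z : G} (d : Datum a b z)
include d

theorem four_sq {v : G} (hv : v ∈ four z a b) : v * v = 1 := by
  obtain ⟨e⟩ := H.iso a b d.ne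
  have h := A5.sq_of_commute (e ⟨z, d.mem⟩) (e ⟨v, (Subgroup.mem_inf.1 hv).2⟩)
    (by rw [← map_mul, ← map_one e]; exact congrArg e (Subtype.ext d.sq))
    (fun h => d.ne_one (congrArg Subtype.val (e.injective (h.trans (map_one e).symm))))
    (by rw [← map_mul, ← map_mul]; exact congrArg e (Subtype.ext (mem_four.1 hv).1))
  rw [← map_mul, ← map_one e] at h
  exact congrArg Subtype.val (e.injective h)

theorem card_four : Nat.card (four z a b) = 4 := by
  obtain ⟨e⟩ := H.iso a b d.ne
  rw [← A5.card_commute (e ⟨z, d.mem⟩)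
    (by rw [← map_mul, ← map_one e]; exact congrArg e (Subtype.ext d.sq))
    (fun h => d.ne_one (congrArg Subtype.val (e.injective (h.trans (map_one e).symm)))),
    ← Nat.card_eq_finsetCard]
  refine Nat.card_congr
    { toFun := fun g => ⟨e ⟨g.1, (Subgroup.mem_inf.1 g.2).2⟩, Finset.mem_filter.2 ⟨Finset.mem_univ _, by
        rw [← map_mul, ← map_mul]; exact congrArg e (Subtype.ext (mem_four.1 g.2).1)⟩⟩
      invFun := fun g => ⟨(e.symm g.1).1, Subgroup.mem_inf.2 ⟨mem_cent.2 (by
        have := congrArg (fun x => (e.symm x).1) (Finset.mem_filter.1 g.2).2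
        simpa using this), (e.symm g.1).2⟩⟩
      left_inv := fun g => by simp
      right_inv := fun g => by simp }

theorem klein : IsKleinFour (four z a b) := by
  haveI : Finite (four z a b) := Nat.finite_of_card_ne_zero (by rw [H.card_four d]; norm_num)
  haveI : Nontrivial (four z a b) :=
    ⟨⟨⟨z, mem_four.2 ⟨rfl, mem_two.1 d.mem⟩⟩, 1, fun e => d.ne_one (congrArg Subtype.val e)⟩⟩
  exact ⟨H.card_four d, (Monoid.exponent_eq_prime_iff Nat.prime_two).2 fun g hg =>
    orderOf_eq_prime (Subtype.ext (by rw [Subgroup.coe_pow, pow_two]; exact H.four_sq d g.2)) hg⟩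

omit H in
theorem z_mem_four : z ∈ four z a b := mem_four.2 ⟨rfl, mem_two.1 d.mem⟩

theorem four_comm {u v : G} (hu : u ∈ four z a b) (hv : v ∈ four z a b) : u * v = v * u := by
  calc u * v = (u * v)⁻¹ := (inv_eq_of_mul_eq_one_right (H.four_sq d (mul_mem hu hv))).symm
    _ = v⁻¹ * u⁻¹ := mul_inv_rev _ _
    _ = v * u := by
      rw [inv_eq_of_mul_eq_one_right (H.four_sq d hu), inv_eq_of_mul_eq_one_right (H.four_sq d hv)]

theorem four_le_centralizer : four z a b ≤ Subgroup.centralizer (four z a b : Set G) := fun _ hu =>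
  Subgroup.mem_centralizer_iff.2 fun _ hv => H.four_comm d hv hu

/-- The elements of the four group. -/
theorem four_cases {v : G} (hv : v ∈ four z a b) (hv1 : v ≠ 1) (hvz : v ≠ z) {u : G}
    (hu : u ∈ four z a b) : u = 1 ∨ u = z ∨ u = v ∨ u = z * v := by
  haveI := H.klein d
  by_cases h1 : u = 1
  · exact Or.inl h1
  by_cases h2 : u = z
  · exact Or.inr (Or.inl h2)
  by_cases h3 : u = v
  · exact Or.inr (Or.inr (Or.inl h3))
  exact Or.inr (Or.inr (Or.inr (congrArg Subtype.val (IsKleinFour.eq_mul_of_ne_all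
    (x := (⟨z, z_mem_four d⟩ : four z a b)) (y := ⟨v, hv⟩) (z := ⟨u, hu⟩)
    (fun e => d.ne_one (congrArg Subtype.val e)) (fun e => hv1 (congrArg Subtype.val e))
    (fun e => hvz (congrArg Subtype.val e).symm) (fun e => h1 (congrArg Subtype.val e))
    (fun e => h2 (congrArg Subtype.val e)) (fun e => h3 (congrArg Subtype.val e))))))

theorem exists_other : ∃ v ∈ four z a b, v ≠ 1 ∧ v ≠ z := by
  by_contra hno
  push Not at hno
  have hle : four z a b ≤ Subgroup.zpowers z := fun v hv => by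
    by_cases hv1 : v = 1
    · exact hv1 ▸ one_mem _
    · exact (hno v hv hv1) ▸ Subgroup.mem_zpowers _
  have ho : orderOf z = 2 := orderOf_eq_prime (by rw [pow_two]; exact d.sq) d.ne_one
  haveI : Finite (Subgroup.zpowers z) :=
    Nat.finite_of_card_ne_zero (by rw [Nat.card_zpowers, ho]; norm_num)
  have := Nat.le_of_dvd Nat.card_pos (Subgroup.card_dvd_of_le hle)
  rw [H.card_four d, Nat.card_zpowers, ho] at this
  omega

variable [Fintype Ω]

omit H in
theorem mem_fx_left : a ∈ fx Ω z := mem_fx.2 (mem_two.1 d.mem).1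

omit H in
theorem mem_fx_right : b ∈ fx Ω z := mem_fx.2 (mem_two.1 d.mem).2

omit H in
theorem mem_fxs_left : a ∈ fxs Ω (four z a b) := mem_fxs.2 fun _ hv => (mem_four.1 hv).2.1

omit H in
theorem mem_fxs_right : b ∈ fxs Ω (four z a b) := mem_fxs.2 fun _ hv => (mem_four.1 hv).2.2

omit H in
theorem fxs_subset : fxs Ω (four z a b) ⊆ fx Ω z := fun _ hx => mem_fx.2 (mem_fxs.1 hx _ (z_mem_four d))

/-- **Witt**: the centraliser of `z` is 2-transitive on the fixed points of `z`. -/
theorem witt {c d' : Ω} (hc : c ∈ fx Ω z) (hd : d' ∈ fx Ω z) (hcd : c ≠ d') :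
    ∃ g ∈ Subgroup.centralizer ({z} : Set G), g • a = c ∧ g • b = d' := by
  obtain ⟨g, h1, h2⟩ := Perm.exists_smul_eq_two H.trans d.ne hcd
  have hy : g⁻¹ * z * g ∈ two G a b := by
    rw [← two_conj h1 h2, show g * (g⁻¹ * z * g) * g⁻¹ = z by group]
    exact mem_two.2 ⟨mem_fx.1 hc, mem_fx.1 hd⟩
  obtain ⟨k, hk, hkz⟩ := H.invol_conj d.ne d.mem hy d.sq d.ne_one
    (by rw [show g⁻¹ * z * g * (g⁻¹ * z * g) = g⁻¹ * (z * z) * g by group, d.sq]; group)
    (fun e => d.ne_one (by simpa [mul_assoc] using congrArg (fun y => g * y * g⁻¹) e))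
  refine ⟨g * k, mem_cent.2 ?_, ?_, ?_⟩
  · calc g * k * z = g * (k * z * k⁻¹) * k := by group
      _ = z * (g * k) := by rw [hkz]; group
  · rw [mul_smul, (mem_two.1 hk).1, h1]
  · rw [mul_smul, (mem_two.1 hk).2, h2]

omit H in
theorem four_conj {c d' : Ω} {g x : G} (hg : g ∈ Subgroup.centralizer ({z} : Set G)) (h1 : g • a = c)
    (h2 : g • b = d') : g * x * g⁻¹ ∈ four z c d' ↔ x ∈ four z a b := by
  rw [mem_four, mem_four, ← mem_two, ← mem_two, two_conj h1 h2, ← mem_cent, ← mem_cent,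
    Subgroup.mul_mem_cancel_right _ (inv_mem hg), Subgroup.mul_mem_cancel_left _ hg]

/-- The centraliser of `z` in the stabiliser of two fixed points of `V` is `V`. -/
theorem four_eq {c d' : Ω} (hc : c ∈ fxs Ω (four z a b)) (hd : d' ∈ fxs Ω (four z a b)) (hcd : c ≠ d') :
    four z c d' = four z a b := by
  have d2 := datum_of_fixed d hcd (mem_fx.1 (fxs_subset d hc)) (mem_fx.1 (fxs_subset d hd))
  haveI : Finite (four z c d') := Nat.finite_of_card_ne_zero (by rw [H.card_four d2]; norm_num)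
  refine (Subgroup.eq_of_le_of_card_ge (fun v hv => ?_) (by rw [H.card_four d, H.card_four d2])).symm
  exact mem_four.2 ⟨(mem_four.1 hv).1, mem_fxs.1 hc v hv, mem_fxs.1 hd v hv⟩

/-- An element of `C(z)` moving two fixed points of `V` to such points normalises `V`. -/
theorem normalizes {c d' : Ω} {g : G} (hg : g ∈ Subgroup.centralizer ({z} : Set G))
    (hc : c ∈ fxs Ω (four z a b)) (hd : d' ∈ fxs Ω (four z a b)) (h1 : g • a = c) (h2 : g • b = d') :
    g ∈ Subgroup.normalizer (four z a b : Set G) := by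
  have hcd : c ≠ d' := fun e => d.ne (MulAction.injective g (h1.trans (e.trans h2.symm)))
  refine Subgroup.mem_normalizer_iff.2 fun x => ?_
  rw [← four_conj d hg h1 h2 (x := x), H.four_eq d hc hd hcd]

/-- `C(z) ∩ N(V)`. -/
theorem witt_four {c d' : Ω} (hc : c ∈ fxs Ω (four z a b)) (hd : d' ∈ fxs Ω (four z a b)) (hcd : c ≠ d') :
    ∃ g ∈ Subgroup.centralizer ({z} : Set G) ⊓ Subgroup.normalizer (four z a b : Set G),
      g • a = c ∧ g • b = d' := by
  obtain ⟨g, hg, h1, h2⟩ := H.witt d (fxs_subset d hc) (fxs_subset d hd) hcd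
  exact ⟨g, Subgroup.mem_inf.2 ⟨hg, H.normalizes d hg hc hd h1 h2⟩, h1, h2⟩

theorem local_inf_two :
    Subgroup.centralizer ({z} : Set G) ⊓ Subgroup.normalizer (four z a b : Set G) ⊓ two G a b =
      four z a b := by
  refine le_antisymm (inf_le_inf_right _ inf_le_left) (le_inf (le_inf inf_le_left ?_) inf_le_right)
  exact (H.four_le_centralizer d).trans (Subgroup.centralizer_le_normalizer _)

omit H in
theorem centralizer_four_le :
    Subgroup.centralizer (four z a b : Set G) ≤
      Subgroup.centralizer ({z} : Set G) ⊓ Subgroup.normalizer (four z a b : Set G) :=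
  le_inf (Subgroup.centralizer_le (Set.singleton_subset_iff.2 (z_mem_four d)))
    (Subgroup.centralizer_le_normalizer _)

variable [Finite G]

theorem card_cent :
    Nat.card (Subgroup.centralizer ({z} : Set G)) = (fx Ω z).card * ((fx Ω z).card - 1) * 4 := by
  classical
  rw [card_of_pairs _ _ (mem_fx_left d) (mem_fx_right d) d.ne (fun g hg x hx => fx_smul hg hx)
    (fun c hc d' hd hne => H.witt d hc hd hne), H.card_four d]

theorem card_cent_stab :
    Nat.card ↥(Subgroup.centralizer ({z} : Set G) ⊓ stabilizer G a) = ((fx Ω z).card - 1) * 4 := by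
  classical
  rw [card_stab_of_pairs _ _ (mem_fx_left d) (mem_fx_right d) d.ne (fun g hg x hx => fx_smul hg hx)
    (fun c hc d' hd hne => H.witt d hc hd hne), H.card_four d]

theorem card_local :
    Nat.card ↥(Subgroup.centralizer ({z} : Set G) ⊓ Subgroup.normalizer (four z a b : Set G)) =
      (fxs Ω (four z a b)).card * ((fxs Ω (four z a b)).card - 1) * 4 := by
  classical
  rw [card_of_pairs _ _ (mem_fxs_left d) (mem_fxs_right d) d.ne
    (fun g hg x hx => fxs_smul (Subgroup.mem_inf.1 hg).2 hx)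
    (fun c hc d' hd hne => H.witt_four d hc hd hne), H.local_inf_two d, H.card_four d]

theorem card_local_stab :
    Nat.card ↥(Subgroup.centralizer ({z} : Set G) ⊓ Subgroup.normalizer (four z a b : Set G) ⊓
      stabilizer G a) = ((fxs Ω (four z a b)).card - 1) * 4 := by
  classical
  rw [card_stab_of_pairs _ _ (mem_fxs_left d) (mem_fxs_right d) d.ne
    (fun g hg x hx => fxs_smul (Subgroup.mem_inf.1 hg).2 hx)
    (fun c hc d' hd hne => H.witt_four d hc hd hne), H.local_inf_two d, H.card_four d]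

theorem card_group : Nat.card G = Fintype.card Ω * (Fintype.card Ω - 1) * 60 := by
  classical
  have h := card_of_pairs (⊤ : Subgroup G) Finset.univ (Finset.mem_univ a) (Finset.mem_univ b) d.ne
    (fun _ _ _ _ => Finset.mem_univ _)
    (fun c _ d' _ hne => (Perm.exists_smul_eq_two H.trans d.ne hne).imp fun g hg => ⟨Subgroup.mem_top g, hg⟩)
  rw [Subgroup.card_top, Finset.card_univ, top_inf_eq, H.card_two d.ne] at h
  exact h

theorem card_stab : Nat.card (stabilizer G a) = (Fintype.card Ω - 1) * 60 := by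
  classical
  have h := card_stab_of_pairs (⊤ : Subgroup G) Finset.univ (Finset.mem_univ a) (Finset.mem_univ b) d.ne
    (fun _ _ _ _ => Finset.mem_univ _)
    (fun c _ d' _ hne => (Perm.exists_smul_eq_two H.trans d.ne hne).imp fun g hg => ⟨Subgroup.mem_top g, hg⟩)
  rw [top_inf_eq, Finset.card_univ, top_inf_eq, H.card_two d.ne] at h
  exact h

end Local

end Hyp

/-- The conjugates of `z`. -/
noncomputable def cls [Fintype G] (z : G) : Finset G :=
  haveI := Classical.decEq G
  Finset.univ.image fun g => g * z * g⁻¹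

theorem mem_cls [Fintype G] {z t : G} : t ∈ cls z ↔ ∃ g : G, g * z * g⁻¹ = t := by simp [cls]

/-- The elements commuting with `z`, other than `1` and `z`, fixing two common fixed points with `z`. -/
noncomputable def vset (Ω : Type*) [MulAction G Ω] [Fintype Ω] [Fintype G] (z : G) : Finset G :=
  haveI := Classical.decPred fun t : G => t * z = z * t ∧ t ≠ 1 ∧ t ≠ z ∧
    ∃ c d : Ω, c ≠ d ∧ z • c = c ∧ z • d = d ∧ t • c = c ∧ t • d = d
  Finset.univ.filter fun t => t * z = z * t ∧ t ≠ 1 ∧ t ≠ z ∧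
    ∃ c d : Ω, c ≠ d ∧ z • c = c ∧ z • d = d ∧ t • c = c ∧ t • d = d

theorem mem_vset [Fintype Ω] [Fintype G] {z t : G} : t ∈ vset Ω z ↔ t * z = z * t ∧ t ≠ 1 ∧ t ≠ z ∧
    ∃ c d : Ω, c ≠ d ∧ z • c = c ∧ z • d = d ∧ t • c = c ∧ t • d = d := by simp [vset]

/-- The members of `T` interchanging `a` and `b`. -/
noncomputable def swapsIn (T : Finset G) (a b : Ω) : Finset G :=
  haveI := Classical.decPred fun t : G => t • a = b ∧ t • b = a
  T.filter fun t => t • a = b ∧ t • b = a

theorem mem_swapsIn {T : Finset G} {a b : Ω} {t : G} :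
    t ∈ swapsIn T a b ↔ t ∈ T ∧ t • a = b ∧ t • b = a := by simp [swapsIn]

namespace Hyp

variable (H : Hyp G Ω) [Fintype Ω] [Fintype G]
include H

variable {a b : Ω} {z : G} (d : Datum a b z)
include d

omit H in
theorem vset_conj {g t : G} (hg : g ∈ Subgroup.centralizer ({z} : Set G)) (ht : t ∈ vset Ω z) :
    g * t * g⁻¹ ∈ vset Ω z := by
  obtain ⟨h1, h2, h3, c, e, hce, hzc, hze, htc, hte⟩ := mem_vset.1 ht
  refine mem_vset.2 ⟨?_, fun h => h2 (conj_eq_one_iff.1 h),
    fun h => h3 (mul_left_cancel (mul_right_cancel (h.trans (conj_cent hg).symm))),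
    g • c, g • e, fun h => hce (MulAction.injective g h), ?_, ?_, ?_, ?_⟩
  · exact mem_cent.1 (mul_mem (mul_mem hg (mem_cent.2 h1)) (inv_mem hg))
  · exact mem_fx.1 (fx_smul hg (mem_fx.2 hzc))
  · exact mem_fx.1 (fx_smul hg (mem_fx.2 hze))
  · simp [mul_smul, htc]
  · simp [mul_smul, hte]

theorem fx_inter_other {v : G} (hv : v ∈ four z a b) (hv1 : v ≠ 1) (hvz : v ≠ z) {x : Ω} :
    x ∈ fx Ω z ∧ v • x = x ↔ x ∈ fxs Ω (four z a b) := by
  refine ⟨fun ⟨hx, hvx⟩ => mem_fxs.2 fun u hu => ?_,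
    fun hx => ⟨fxs_subset d hx, mem_fxs.1 hx v hv⟩⟩
  rcases H.four_cases d hv hv1 hvz hu with rfl | rfl | rfl | rfl
  · exact one_smul _ _
  · exact mem_fx.1 hx
  · exact hvx
  · rw [mul_smul, hvx, mem_fx.1 hx]

theorem vset_exists_conj {t : G} (ht : t ∈ vset Ω z) :
    ∃ g ∈ Subgroup.centralizer ({z} : Set G), ∃ v ∈ four z a b, v ≠ 1 ∧ v ≠ z ∧ g * v * g⁻¹ = t := by
  obtain ⟨h1, h2, h3, c, e, hce, hzc, hze, htc, hte⟩ := mem_vset.1 ht
  obtain ⟨g, hg, hga, hgb⟩ := H.witt d (mem_fx.2 hzc) (mem_fx.2 hze) hce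
  refine ⟨g, hg, g⁻¹ * t * g, ?_, ?_, ?_, by group⟩
  · rw [← four_conj d hg hga hgb, show g * (g⁻¹ * t * g) * g⁻¹ = t by group]
    exact mem_four.2 ⟨h1, htc, hte⟩
  · exact fun h => h2 (by simpa [mul_assoc] using congrArg (fun y => g * y * g⁻¹) h)
  · intro h
    apply h3
    rw [show t = g * (g⁻¹ * t * g) * g⁻¹ by group, h, conj_cent hg]

theorem vset_sq {t : G} (ht : t ∈ vset Ω z) : t * t = 1 := by
  obtain ⟨g, hg, v, hv, -, -, rfl⟩ := H.vset_exists_conj d ht
  rw [conj_mul, H.four_sq d hv, mul_one, mul_inv_cancel]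

theorem vset_fixed [DecidableEq Ω] {t : G} (ht : t ∈ vset Ω z) :
    ((fx Ω z).filter fun x => t • x = x).card = (fxs Ω (four z a b)).card := by
  obtain ⟨g, hg, v, hv, hv1, hvz, rfl⟩ := H.vset_exists_conj d ht
  symm
  refine Finset.card_bij (fun x _ => g • x) (fun x hx => ?_) (fun x _ y _ e => MulAction.injective g e)
    (fun y hy => ?_)
  · obtain ⟨hxz, hvx⟩ := (H.fx_inter_other d hv hv1 hvz).2 hx
    exact Finset.mem_filter.2 ⟨fx_smul hg hxz, by simp [mul_smul, hvx]⟩
  · obtain ⟨hyz, hy'⟩ := Finset.mem_filter.1 hy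
    refine ⟨g⁻¹ • y, (H.fx_inter_other d hv hv1 hvz).1 ⟨fx_smul (inv_mem hg) hyz, ?_⟩, smul_inv_smul g y⟩
    rw [mul_smul, mul_smul, smul_eq_iff_eq_inv_smul] at hy'
    exact hy'

theorem vset_fix_pair [DecidableEq Ω] :
    ((vset Ω z).filter fun t => t • a = a ∧ t • b = b).card = 2 := by
  classical
  obtain ⟨v, hv, hv1, hvz⟩ := H.exists_other d
  have : ((vset Ω z).filter fun t => t • a = a ∧ t • b = b) = {v, z * v} := by
    ext t
    simp only [Finset.mem_filter, mem_vset, Finset.mem_insert, Finset.mem_singleton]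
    constructor
    · rintro ⟨⟨h1, h2, h3, -⟩, h4, h5⟩
      rcases H.four_cases d hv hv1 hvz (mem_four.2 ⟨h1, h4, h5⟩) with h | h | h | h
      exacts [absurd h h2, absurd h h3, Or.inl h, Or.inr h]
    · intro h
      have ht : t ∈ four z a b := by
        rcases h with rfl | rfl
        exacts [hv, mul_mem (z_mem_four d) hv]
      obtain ⟨h1, h4, h5⟩ := mem_four.1 ht
      refine ⟨⟨h1, ?_, ?_, a, b, d.ne, (mem_two.1 d.mem).1, (mem_two.1 d.mem).2, h4, h5⟩, h4, h5⟩
      · rcases h with rfl | rfl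
        · exact hv1
        · exact fun e => hvz ((inv_eq_of_mul_eq_one_right e).symm.trans (inv_eq_of_mul_eq_one_right d.sq))
      · rcases h with rfl | rfl
        · exact hvz
        · exact fun e => hv1 (mul_eq_left.1 e)
  rw [this, Finset.card_pair]
  exact fun e => d.ne_one (mul_eq_right.1 e.symm)

theorem two_le_fxs : 2 ≤ (fxs Ω (four z a b)).card :=
  Finset.one_lt_card.2 ⟨a, mem_fxs_left d, b, mem_fxs_right d, d.ne⟩

theorem fxs_le_fx : (fxs Ω (four z a b)).card ≤ (fx Ω z).card := Finset.card_le_card (fxs_subset d)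

theorem vset_count :
    (vset Ω z).card * ((fxs Ω (four z a b)).card * ((fxs Ω (four z a b)).card - 1)) =
      (fx Ω z).card * ((fx Ω z).card - 1) * 2 := by
  classical
  rw [← H.vset_fix_pair d]
  exact double_count _ _ _ (fun t c e => t • c = c ∧ t • e = e)
    (fun g t c e h => by simp [mul_smul, h.1, h.2]) (fun c hc e he hne => H.witt d hc he hne)
    (fun g hg t ht => vset_conj d hg ht) (fun t ht => by rw [card_fixed_pairs, H.vset_fixed d ht])

/-- `2 (i - f) = ε f (f - 1)`, with `ε` the number of elements of `vset` interchanging `a` and `b`. -/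
theorem fx_eq : 2 * ((fx Ω z).card - (fxs Ω (four z a b)).card) =
    (swapsIn (vset Ω z) a b).card *
      ((fxs Ω (four z a b)).card * ((fxs Ω (four z a b)).card - 1)) := by
  classical
  have h2 := H.two_le_fxs d
  have hle := H.fxs_le_fx d
  have e1 := double_count _ (vset Ω z) (fx Ω z) (a := a) (b := b) (fun t c e => t • c = e ∧ t • e = c)
    (fun g t c e h => by simp [mul_smul, h.1, h.2]) (fun c hc e he hne => H.witt d hc he hne)
    (fun g hg t ht => vset_conj d hg ht) (m := (fx Ω z).card - (fxs Ω (four z a b)).card) (fun t ht => by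
      have h := card_swapped (fx Ω z) t (fun x hx => fx_smul (mem_cent.2 (mem_vset.1 ht).1) hx)
        (fun x _ => by rw [← mul_smul, H.vset_sq d ht, one_smul])
      rw [H.vset_fixed d ht] at h
      omega)
  have e2 := H.vset_count d
  have hsw : (vset Ω z).filter (fun t => t • a = b ∧ t • b = a) = swapsIn (vset Ω z) a b := by
    ext t; simp [mem_swapsIn]
  rw [hsw] at e1
  have hi : 0 < (fx Ω z).card * ((fx Ω z).card - 1) := Nat.mul_pos (by omega) (by omega)
  refine Nat.eq_of_mul_eq_mul_left hi ?_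
  calc (fx Ω z).card * ((fx Ω z).card - 1) * (2 * ((fx Ω z).card - (fxs Ω (four z a b)).card))
      = (vset Ω z).card * ((fxs Ω (four z a b)).card * ((fxs Ω (four z a b)).card - 1)) *
          ((fx Ω z).card - (fxs Ω (four z a b)).card) := by rw [e2]; ring
    _ = (vset Ω z).card * ((fx Ω z).card - (fxs Ω (four z a b)).card) *
          ((fxs Ω (four z a b)).card * ((fxs Ω (four z a b)).card - 1)) := by ring
    _ = _ := by rw [e1]; ring

omit H d in
theorem mul_z_mem {t : G} (ht : t ∈ swapsIn (vset Ω z) a b) (hz2 : z * z = 1) (hzb : z • b = b)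
    (hza : z • a = a) : t * z ∈ swapsIn (vset Ω z) a b := by
  obtain ⟨hv, h1, h2⟩ := mem_swapsIn.1 ht
  obtain ⟨c1, c2, c3, c, e, hce, hzc, hze, htc, hte⟩ := mem_vset.1 hv
  refine mem_swapsIn.2 ⟨mem_vset.2 ⟨by rw [mul_assoc, ← mul_assoc z t, ← c1, mul_assoc], ?_, ?_,
    c, e, hce, hzc, hze, by rw [mul_smul, hzc, htc], by rw [mul_smul, hze, hte]⟩,
    by rw [mul_smul, hza, h1], by rw [mul_smul, hzb, h2]⟩
  · exact fun h => c3 ((eq_inv_of_mul_eq_one_left h).trans (inv_eq_of_mul_eq_one_right hz2))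
  · exact fun h => c2 (mul_eq_right.1 h)

/-- At most four elements commuting with `z` interchange `a` and `b`. -/
theorem card_swappers_le {T : Finset G}
    (hT : ∀ t ∈ T, t * z = z * t ∧ t • a = b ∧ t • b = a) : T.card ≤ 4 := by
  rcases T.eq_empty_or_nonempty with rfl | ⟨t0, ht0⟩
  · simp
  rw [← H.card_four d, ← Nat.card_eq_finsetCard]
  haveI : Finite (four z a b) := Finite.of_injective _ Subtype.val_injective
  refine Nat.card_le_card_of_injective (fun t : T => (⟨t0⁻¹ * t.1, ?_⟩ : four z a b))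
    (fun u v e => Subtype.ext (mul_left_cancel (congrArg Subtype.val e)))
  obtain ⟨h1, h2, h3⟩ := hT t0 ht0
  obtain ⟨k1, k2, k3⟩ := hT t.1 t.2
  refine mem_four.2 ⟨?_, ?_, ?_⟩
  · exact mem_cent.1 (mul_mem (inv_mem (mem_cent.2 h1)) (mem_cent.2 k1))
  · rw [mul_smul, k2, inv_smul_eq_iff, h2]
  · rw [mul_smul, k3, inv_smul_eq_iff, h3]

/-- `i - f = e f (f - 1)` with `e ≤ 2`. -/
theorem exists_e : ∃ e ≤ 2, (fx Ω z).card =
    (fxs Ω (four z a b)).card + e * ((fxs Ω (four z a b)).card * ((fxs Ω (four z a b)).card - 1)) ∧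
    2 * e = (swapsIn (vset Ω z) a b).card := by
  classical
  obtain ⟨hza, hzb⟩ := mem_two.1 d.mem
  set T := swapsIn (vset Ω z) a b with hT
  have h4 : T.card ≤ 4 := H.card_swappers_le d fun t ht =>
    ⟨(mem_vset.1 (mem_swapsIn.1 ht).1).1, (mem_swapsIn.1 ht).2⟩
  -- the elements pair off under multiplication by `z`
  have hev : ∀ t ∈ T, ({t, t * z} : Finset G) ⊆ T := fun t ht => by
    intro u hu
    rcases Finset.mem_insert.1 hu with rfl | hu
    · exact ht
    · rw [Finset.mem_singleton.1 hu]; exact mul_z_mem ht d.sq hzb hza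
  have hsplit : T.card = 0 ∨ T.card = 2 ∨ T.card = 4 := by
    rcases T.eq_empty_or_nonempty with h | ⟨t, ht⟩
    · exact Or.inl (Finset.card_eq_zero.2 h)
    have h2 : ({t, t * z} : Finset G).card = 2 :=
      Finset.card_pair fun e => d.ne_one (mul_eq_left.1 e.symm)
    have hsub := Finset.card_le_card (hev t ht)
    rw [h2] at hsub
    by_cases h3 : T.card = 2
    · exact Or.inr (Or.inl h3)
    obtain ⟨u, hu, hu'⟩ : ∃ u ∈ T, u ∉ ({t, t * z} : Finset G) := by
      by_contra hno
      push Not at hno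
      have := Finset.card_le_card (show T ⊆ {t, t * z} from hno)
      omega
    have h4' : ({t, t * z} ∪ {u, u * z} : Finset G).card = 4 := by
      rw [Finset.card_union_of_disjoint, h2, Finset.card_pair fun e => d.ne_one (mul_eq_left.1 e.symm)]
      simp only [Finset.disjoint_insert_right, Finset.mem_insert, Finset.mem_singleton,
        Finset.disjoint_singleton_right, not_or] at hu' ⊢
      refine ⟨hu', fun e => hu'.2 ?_, fun e => hu'.1 (mul_right_cancel e)⟩
      rw [← e, mul_assoc, d.sq, mul_one]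
    have hsub' := Finset.card_le_card (Finset.union_subset (hev t ht) (hev u hu))
    omega
  have he := H.fx_eq d
  have hle := H.fxs_le_fx d
  rcases hsplit with h | h | h <;> rw [← hT, h] at he
  exacts [⟨0, by norm_num, by omega, by omega⟩, ⟨1, by norm_num, by omega, by omega⟩,
    ⟨2, le_rfl, by omega, by omega⟩]

theorem card_cls : (cls z).card * Nat.card (Subgroup.centralizer ({z} : Set G)) = Nat.card G := by
  have h := card_fibre (⊤ : Subgroup G) (Subgroup.centralizer ({z} : Set G)) (fun g => g * z * g⁻¹) (cls z)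
    (fun g _ => mem_cls.2 ⟨g, rfl⟩) (fun p hp => (mem_cls.1 hp).imp fun g hg => ⟨Subgroup.mem_top g, hg⟩)
    le_top (fun g _ g' _ => by
      rw [mem_cent]
      refine ⟨fun h => ?_, fun h => ?_⟩
      · calc g⁻¹ * g' * z = g⁻¹ * (g' * z * g'⁻¹) * g' := by group
          _ = g⁻¹ * (g * z * g⁻¹) * g' := by rw [h]
          _ = z * (g⁻¹ * g') := by group
      · calc g * z * g⁻¹ = g * (z * (g⁻¹ * g')) * g'⁻¹ := by group
          _ = g * (g⁻¹ * g' * z) * g'⁻¹ := by rw [h]
          _ = g' * z * g'⁻¹ := by group)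
  rw [Subgroup.card_top] at h
  exact h.symm

omit H in
theorem fx_conj (g : G) : (fx Ω (g * z * g⁻¹)).card = (fx Ω z).card := by
  symm
  refine Finset.card_bij (fun x _ => g • x) (fun x hx => ?_) (fun x _ y _ e => MulAction.injective g e)
    (fun y hy => ?_)
  · exact mem_fx.2 (by simp [mul_smul, mem_fx.1 hx])
  · have h := mem_fx.1 hy
    rw [mul_smul, mul_smul, smul_eq_iff_eq_inv_smul] at h
    exact ⟨g⁻¹ • y, mem_fx.2 h, smul_inv_smul g y⟩

/-- `15 (n - i) = e' i (i - 1)`, with `e'` the number of conjugates of `z` interchanging `a` and `b`. -/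
theorem degree_eq : 15 * (Fintype.card Ω - (fx Ω z).card) =
    (swapsIn (cls z) a b).card * ((fx Ω z).card * ((fx Ω z).card - 1)) := by
  classical
  have e1 := double_count (⊤ : Subgroup G) (cls z) (Finset.univ : Finset Ω) (a := a) (b := b)
    (fun t c e => t • c = e ∧ t • e = c) (fun g t c e h => by simp [mul_smul, h.1, h.2])
    (fun c _ e _ hne => (Perm.exists_smul_eq_two H.trans d.ne hne).imp fun g hg => ⟨Subgroup.mem_top g, hg⟩)
    (fun g _ t ht => by
      obtain ⟨k, rfl⟩ := mem_cls.1 ht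
      exact mem_cls.2 ⟨g * k, by group⟩)
    (m := Fintype.card Ω - (fx Ω z).card) (fun t ht => by
      obtain ⟨k, rfl⟩ := mem_cls.1 ht
      have h := card_swapped (Finset.univ : Finset Ω) (k * z * k⁻¹) (fun x _ => Finset.mem_univ _)
        (fun x _ => by rw [← mul_smul, conj_mul, d.sq, mul_one, mul_inv_cancel, one_smul])
      rw [show (Finset.univ.filter fun x : Ω => (k * z * k⁻¹) • x = x) = fx Ω (k * z * k⁻¹) by
        ext x; simp [mem_fx], fx_conj d k, Finset.card_univ] at h
      omega)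
  rw [show (cls z).filter (fun t => t • a = b ∧ t • b = a) = swapsIn (cls z) a b by
    ext t; simp [mem_swapsIn], Finset.card_univ] at e1
  have e2 := H.card_cls d
  rw [H.card_cent d, H.card_group d] at e2
  have hi : 2 ≤ (fx Ω z).card := (H.two_le_fxs d).trans (H.fxs_le_fx d)
  have hn : 2 ≤ Fintype.card Ω := Finset.one_lt_card.2 ⟨a, Finset.mem_univ a, b, Finset.mem_univ b, d.ne⟩
  have hN : 0 < Fintype.card Ω * (Fintype.card Ω - 1) * 4 :=
    Nat.mul_pos (Nat.mul_pos (by omega) (by omega)) (by norm_num)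
  refine Nat.eq_of_mul_eq_mul_left hN ?_
  calc Fintype.card Ω * (Fintype.card Ω - 1) * 4 * (15 * (Fintype.card Ω - (fx Ω z).card))
      = (cls z).card * ((fx Ω z).card * ((fx Ω z).card - 1) * 4) *
          (Fintype.card Ω - (fx Ω z).card) := by rw [e2]; ring
    _ = (cls z).card * (Fintype.card Ω - (fx Ω z).card) * ((fx Ω z).card * ((fx Ω z).card - 1)) * 4 := by
        ring
    _ = _ := by rw [e1]; ring

theorem parity : Fintype.card Ω % 2 = (fx Ω z).card % 2 := by
  classical
  haveI : Fact (Nat.Prime 2) := ⟨Nat.prime_two⟩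
  have hp : IsPGroup 2 (Subgroup.zpowers z) := IsPGroup.of_card (n := 1) (by
    rw [Nat.card_zpowers, orderOf_eq_prime (by rw [pow_two]; exact d.sq) d.ne_one, pow_one])
  have h := hp.card_modEq_card_fixedPoints Ω
  rw [Nat.card_eq_fintype_card] at h
  rw [← Nat.card_eq_finsetCard (fx Ω z), h]
  congr 1
  exact Nat.card_congr (Equiv.subtypeEquivRight fun x => by
    rw [mem_fx]
    refine ⟨fun hx => hx ⟨z, Subgroup.mem_zpowers z⟩, fun hx g => ?_⟩
    obtain ⟨k, hk⟩ := g.2
    have : z ^ k ∈ stabilizer G x := zpow_mem hx k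
    show (g : G) • x = x
    rw [show (g : G) = z ^ k from hk.symm]
    exact this)

end Hyp

end Cfsg.Agent.TwoTransFour
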