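import Cfsg.Agent.Lib.TwoTransFour.Setup

/-!
# The elements interchanging two points when the two-point stabiliser is `A₅`

Such an element induces on `A₅` conjugation by an element of `S₅`; either all of these are odd, or some
interchanging involution centralises the two-point stabiliser.
-/

set_option autoImplicit false
set_option linter.unusedSectionVars false
set_option linter.style.haveILetI false

namespace Cfsg.Agent.TwoTransFour

open MulAction Equiv.Perm

variable {G : Type*} [Group G] {Ω : Type*} [MulAction G Ω]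

/-- All elements interchanging `a` and `b`. -/
noncomputable def swappers (G : Type*) [Group G] [MulAction G Ω] [Fintype G] (a b : Ω) : Finset G :=
  swapsIn Finset.univ a b

theorem mem_swappers [Fintype G] {a b : Ω} {y : G} : y ∈ swappers G a b ↔ y • a = b ∧ y • b = a := by
  simp [swappers, mem_swapsIn]

theorem swap_normalizes {a b : Ω} {y : G} (h1 : y • a = b) (h2 : y • b = a) :
    y ∈ Subgroup.normalizer (two G a b : Set G) := Subgroup.mem_normalizer_iff.2 fun x => by
  show x ∈ two G a b ↔ y * x * y⁻¹ ∈ two G a b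
  rw [← two_conj h1 h2 (x := x), two, two, inf_comm]

theorem swap_mul_two {a b : Ω} {y x : G} (h1 : y • a = b) (h2 : y • b = a) (hx : x ∈ two G a b) :
    (y * x) • a = b ∧ (y * x) • b = a := by
  rw [mem_two] at hx
  simp [mul_smul, hx.1, hx.2, h1, h2]

theorem inv_mul_mem_two {a b : Ω} {y y' : G} (h1 : y • a = b) (h2 : y • b = a) (h1' : y' • a = b)
    (h2' : y' • b = a) : y⁻¹ * y' ∈ two G a b := by
  rw [mem_two]
  exact ⟨by rw [mul_smul, h1', inv_smul_eq_iff, h1], by rw [mul_smul, h2', inv_smul_eq_iff, h2]⟩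

section Psi

variable {a b : Ω} (e : two G a b ≃* alternatingGroup (Fin 5))

/-- The element of `S₅` inducing the action of a normalising element. -/
noncomputable def psi : ↥(Subgroup.normalizer (two G a b : Set G)) →* A5.S5 :=
  ((MulEquiv.ofBijective _ (S2119.result 5 (by norm_num) (by norm_num))).symm.toMonoidHom.comp
    ((MulAut.congr e).toMonoidHom.comp (Subgroup.normalizerMonoidHom (two G a b))))

theorem psi_spec (g : ↥(Subgroup.normalizer (two G a b : Set G))) (x : two G a b) :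
    psi e g * (e x : A5.S5) * (psi e g)⁻¹ =
      (e ⟨(g : G) * x * (g : G)⁻¹, (Subgroup.mem_normalizer_iff.1 g.2 x).1 x.2⟩ : A5.S5) := by
  have h : (MulEquiv.ofBijective _ (S2119.result 5 (by norm_num) (by norm_num))) (psi e g) =
      (MulAut.congr e) (Subgroup.normalizerMonoidHom (two G a b) g) := by
    simp [psi]
  have h' := congrArg (fun φ : MulAut (alternatingGroup (Fin 5)) => (φ (e x) : A5.S5)) h
  simp only [MulEquiv.ofBijective_apply, MulAut.conjNormal_apply, MulAut.congr_apply,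
    MulEquiv.trans_apply, MulEquiv.symm_apply_apply] at h'
  exact h'

/-- `psi` extends `e`. -/
theorem psi_two (x : two G a b) : psi e ⟨x, Subgroup.le_normalizer x.2⟩ = (e x : A5.S5) := by
  apply (S2119.result 5 (by norm_num) (by norm_num)).1
  refine MulEquiv.ext fun u => Subtype.ext ?_
  rw [MulAut.conjNormal_apply, MulAut.conjNormal_apply]
  obtain ⟨y, rfl⟩ := e.surjective u
  rw [psi_spec e]
  rw [show (⟨(x : G) * y * (x : G)⁻¹, _⟩ : two G a b) = x * y * x⁻¹ from Subtype.ext rfl]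
  simp

attribute [irreducible] psi

theorem psi_two' {g : ↥(Subgroup.normalizer (two G a b : Set G))} (hg : (g : G) ∈ two G a b) :
    psi e g = (e ⟨g, hg⟩ : A5.S5) := psi_two e ⟨g, hg⟩

theorem psi_commute_iff (g : ↥(Subgroup.normalizer (two G a b : Set G))) {x : G} (hx : x ∈ two G a b) :
    (g : G) * x = x * g ↔ psi e g * (e ⟨x, hx⟩ : A5.S5) = (e ⟨x, hx⟩ : A5.S5) * psi e g := by
  constructor
  · intro h
    rw [← mul_inv_eq_iff_eq_mul, psi_spec e g ⟨x, hx⟩]
    congr 2
    exact Subtype.ext (mul_inv_eq_iff_eq_mul.2 h)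
  · intro h
    rw [← mul_inv_eq_iff_eq_mul, psi_spec e g ⟨x, hx⟩] at h
    exact mul_inv_eq_iff_eq_mul.1 (congrArg Subtype.val (e.injective (Subtype.ext h)))

theorem sign_two (x : two G a b) : sign (psi e ⟨x, Subgroup.le_normalizer x.2⟩) = 1 := by
  rw [psi_two]; exact mem_alternatingGroup.1 (e x).2

end Psi

namespace Hyp

variable (H : Hyp G Ω) [Fintype Ω] [Fintype G]
include H

variable {a b : Ω} {z : G} (d : Datum a b z)
include d

/-- The transposition case. -/
structure Transposed (a b : Ω) (z : G) : Prop where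
  count : (swapsIn (cls z) a b).card = 10
  invol : ∀ y ∈ swappers G a b, y * y = 1 → y ∈ cls z
  two_invol : ∀ T : Finset G, (∀ t ∈ T, t ∈ swappers G a b ∧ t * t = 1 ∧ t * z = z * t) → T.card ≤ 2
  roots : ∀ T : Finset G, (∀ t, t ∈ T ↔ t ∈ swappers G a b ∧ t * t = z) → T.card = 2
  not_central : ∀ y ∈ swappers G a b, y ∉ Subgroup.centralizer (four z a b : Set G)

/-- The central case. -/
structure Central (a b : Ω) (z w : G) : Prop where
  swap : w • a = b ∧ w • b = a
  sq : w * w = 1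
  comm : ∀ x ∈ two G a b, w * x = x * w
  count : (w ∈ cls z ∧ ((swapsIn (cls z) a b).card = 1 ∨ (swapsIn (cls z) a b).card = 16)) ∨
    (w ∉ cls z ∧ (swapsIn (cls z) a b).card = 15 ∧
      ∀ y ∈ swappers G a b, y * y = 1 → y ≠ w → y ∈ cls z)

theorem exists_swap [FaithfulSMul G Ω] : ∃ t ∈ cls z, t • a = b ∧ t • b = a := by
  obtain ⟨x, hx⟩ : ∃ x : Ω, z • x ≠ x := by
    by_contra hno
    push Not at hno
    exact d.ne_one (Perm.eq_one_of_forall_smul_eq (α := Ω) hno)
  obtain ⟨g, h1, h2⟩ := Perm.exists_smul_eq_two H.trans (Ne.symm hx) d.ne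
  refine ⟨g * z * g⁻¹, mem_cls.2 ⟨g, rfl⟩, ?_, ?_⟩
  · rw [← h1, ← h2]; simp [mul_smul]
  · rw [← h1, ← h2]
    simp [mul_smul, ← mul_smul z z x, d.sq]

theorem cls_sq {t : G} (ht : t ∈ cls z) : t * t = 1 := by
  obtain ⟨g, rfl⟩ := mem_cls.1 ht
  rw [conj_mul, d.sq, mul_one, mul_inv_cancel]

omit H d in
theorem cls_conj {g t : G} (ht : t ∈ cls z) : g * t * g⁻¹ ∈ cls z := by
  obtain ⟨k, rfl⟩ := mem_cls.1 ht
  exact mem_cls.2 ⟨g * k, by group⟩

/-- **The two cases.** -/
theorem swap_cases [FaithfulSMul G Ω] : Transposed a b z ∨ ∃ w, Central a b z w := by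
  classical
  obtain ⟨e⟩ := H.iso a b d.ne
  obtain ⟨t0, ht0, ht1, ht2⟩ := H.exists_swap d
  let N := Subgroup.normalizer (two G a b : Set G)
  have hN : ∀ y ∈ swappers G a b, y ∈ N := fun y hy =>
    swap_normalizes (mem_swappers.1 hy).1 (mem_swappers.1 hy).2
  have hs0 : t0 ∈ swappers G a b := mem_swappers.2 ⟨ht1, ht2⟩
  let P : ∀ y ∈ swappers G a b, A5.S5 := fun y hy => psi e ⟨y, hN y hy⟩
  have hinj : ∀ y hy y' hy', P y hy = P y' hy' → y = y' := by
    intro y hy y' hy' h
    have hm := inv_mul_mem_two (mem_swappers.1 hy).1 (mem_swappers.1 hy).2 (mem_swappers.1 hy').1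
      (mem_swappers.1 hy').2
    have h1 : psi e (⟨y, hN y hy⟩⁻¹ * ⟨y', hN y' hy'⟩) = 1 := by
      rw [map_mul, map_inv]; show (P y hy)⁻¹ * P y' hy' = 1; rw [h, inv_mul_cancel]
    rw [psi_two' e hm, OneMemClass.coe_eq_one, ← map_one e] at h1
    exact inv_mul_eq_one.1 (congrArg Subtype.val (e.injective h1))
  have hsur : ∀ p : A5.S5, sign p = sign (P t0 hs0) → ∃ y, ∃ hy : y ∈ swappers G a b, P y hy = p := by
    intro p hp
    have hδ : (P t0 hs0)⁻¹ * p ∈ alternatingGroup (Fin 5) := by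
      rw [mem_alternatingGroup, map_mul, map_inv, hp, inv_mul_cancel]
    set x := e.symm ⟨_, hδ⟩ with hx
    have hy : t0 * x ∈ swappers G a b := mem_swappers.2 (swap_mul_two ht1 ht2 x.2)
    refine ⟨_, hy, ?_⟩
    show psi e (⟨t0, hN t0 hs0⟩ * ⟨x, Subgroup.le_normalizer x.2⟩) = p
    rw [map_mul, psi_two, hx, e.apply_symm_apply]
    exact mul_inv_cancel_left _ p
  have hsign : ∀ y hy, sign (P y hy) = sign (P t0 hs0) := by
    intro y hy
    have hm := inv_mul_mem_two ht1 ht2 (mem_swappers.1 hy).1 (mem_swappers.1 hy).2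
    have h1 : psi e ⟨y, hN y hy⟩ = psi e ⟨t0, hN t0 hs0⟩ * psi e ⟨_, Subgroup.le_normalizer hm⟩ := by
      rw [← map_mul]; congr 1; exact Subtype.ext (by simp)
    show sign (psi e ⟨y, hN y hy⟩) = _
    rw [h1, map_mul, sign_two e ⟨_, hm⟩, mul_one]
  have hsq : ∀ y (hy : y ∈ swappers G a b) (x : two G a b), y * y = x ↔ P y hy * P y hy = (e x : A5.S5) := by
    intro y hy x
    have hm : y * y ∈ two G a b := by
      obtain ⟨h1, h2⟩ := mem_swappers.1 hy
      rw [mem_two]
      exact ⟨by rw [mul_smul, h1, h2], by rw [mul_smul, h2, h1]⟩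
    have h : P y hy * P y hy = (e ⟨y * y, hm⟩ : A5.S5) :=
      ((map_mul (psi e) _ _).symm).trans (psi_two' e (g := ⟨y, hN y hy⟩ * ⟨y, hN y hy⟩) hm)
    rw [h]
    refine ⟨fun hh => by congr 2; exact Subtype.ext hh, fun hh => congrArg Subtype.val
      (e.injective (Subtype.ext hh) : (⟨y * y, hm⟩ : two G a b) = x)⟩
  have hsq1 : ∀ y (hy : y ∈ swappers G a b), y * y = 1 ↔ P y hy * P y hy = 1 := fun y hy => by
    have := hsq y hy 1
    rwa [map_one] at this
  have hcz : ∀ y (hy : y ∈ swappers G a b) (x : two G a b),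
      y * x = x * y ↔ P y hy * (e x : A5.S5) = (e x : A5.S5) * P y hy := fun y hy x =>
    psi_commute_iff e ⟨y, hN y hy⟩ x.2
  set ez : two G a b := ⟨z, d.mem⟩ with hez
  have hez1 : e ez * e ez = 1 := by rw [← map_mul, ← map_one e]; exact congrArg e (Subtype.ext d.sq)
  have hez0 : e ez ≠ 1 := fun h => d.ne_one (congrArg Subtype.val (e.injective (h.trans (map_one e).symm)))
  rcases Int.units_eq_one_or (sign (P t0 hs0)) with hpar | hpar
  · -- some swapper centralises the two-point stabiliser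
    right
    obtain ⟨w, hw, hP⟩ := hsur 1 (by rw [map_one, hpar])
    have hwc : ∀ x ∈ two G a b, w * x = x * w := fun x hx =>
      (hcz w hw ⟨x, hx⟩).2 (by rw [hP, one_mul, mul_one])
    have hw2 : w * w = 1 := (hsq1 w hw).2 (by rw [hP, one_mul])
    obtain ⟨hwa, hwb⟩ := mem_swappers.1 hw
    refine ⟨w, ⟨hwa, hwb⟩, hw2, hwc, ?_⟩
    let I := Finset.univ.filter fun u : alternatingGroup (Fin 5) => u * u = 1 ∧ u ≠ 1
    let K := I.image fun u => w * (e.symm u : G)
    have hK : K.card = 15 := by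
      rw [Finset.card_image_of_injective _ (fun u v h => e.symm.injective (Subtype.ext (mul_left_cancel h)))]
      exact A5.card_invol
    have hwK : w ∉ K := fun h => by
      obtain ⟨u, hu, hu'⟩ := Finset.mem_image.1 h
      refine (Finset.mem_filter.1 hu).2.2 ?_
      rw [← e.apply_symm_apply u, show e.symm u = 1 from Subtype.ext (mul_eq_left.1 hu'), map_one]
    have hrest : ∀ y ∈ swappers G a b, y * y = 1 → y = w ∨ y ∈ K := by
      intro y hy hy2
      by_cases hyw : y = w
      · exact Or.inl hyw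
      right
      have hm := inv_mul_mem_two hwa hwb (mem_swappers.1 hy).1 (mem_swappers.1 hy).2
      refine Finset.mem_image.2 ⟨e ⟨_, hm⟩, Finset.mem_filter.2 ⟨Finset.mem_univ _, ?_, ?_⟩, by simp⟩
      · rw [← map_mul, ← map_one e]
        refine congrArg e (Subtype.ext ?_)
        show w⁻¹ * y * (w⁻¹ * y) = 1
        have hc : w * (w⁻¹ * y) = (w⁻¹ * y) * w := hwc _ hm
        rw [inv_eq_of_mul_eq_one_right hw2] at hc ⊢
        rw [← mul_assoc w w, hw2, one_mul] at hc
        calc w * y * (w * y) = w * y * w * y := by group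
          _ = y * y := by rw [← hc]
          _ = 1 := hy2
      · exact fun h => hyw (inv_mul_eq_one.1 (congrArg Subtype.val (e.injective (h.trans (map_one e).symm)))).symm
    have hKsw : ∀ y ∈ K, y ∈ swappers G a b := fun y hy => by
      obtain ⟨u, -, rfl⟩ := Finset.mem_image.1 hy
      exact mem_swappers.2 (swap_mul_two hwa hwb (e.symm u).2)
    have hKall : ∀ y ∈ K, y ∈ cls z → K ⊆ cls z := by
      intro y hy hyc y' hy'
      obtain ⟨u, hu, rfl⟩ := Finset.mem_image.1 hy
      obtain ⟨u', hu', rfl⟩ := Finset.mem_image.1 hy'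
      obtain ⟨g, hg⟩ := A5.invol_conj u u' (Finset.mem_filter.1 hu).2.1 (Finset.mem_filter.1 hu).2.2
        (Finset.mem_filter.1 hu').2.1 (Finset.mem_filter.1 hu').2.2
      set k : G := (e.symm g : G) with hk
      have : k * (w * (e.symm u : G)) * k⁻¹ = w * (e.symm u' : G) := by
        rw [← hg, map_mul, map_mul, map_inv, Subgroup.coe_mul, Subgroup.coe_mul, Subgroup.coe_inv,
          ← hk, ← mul_assoc k, ← hwc k (e.symm g).2]
        group
      exact this ▸ cls_conj hyc
    have hset : swapsIn (cls z) a b ⊆ insert w K := fun y hy => by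
      obtain ⟨hy1, hy2⟩ := mem_swapsIn.1 hy
      exact Finset.mem_insert.2 (hrest y (mem_swappers.2 hy2) (cls_sq H d hy1))
    by_cases hKc : K ⊆ cls z
    · have hKs : K ⊆ swapsIn (cls z) a b := fun y hy =>
        mem_swapsIn.2 ⟨hKc hy, mem_swappers.1 (hKsw y hy)⟩
      by_cases hwcl : w ∈ cls z
      · refine Or.inl ⟨hwcl, Or.inr ?_⟩
        rw [show swapsIn (cls z) a b = insert w K from Finset.Subset.antisymm hset (Finset.insert_subset
          (mem_swapsIn.2 ⟨hwcl, hwa, hwb⟩) hKs), Finset.card_insert_of_notMem hwK, hK]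
      · refine Or.inr ⟨hwcl, ?_, fun y hy hy2 hyw => hKc ((hrest y hy hy2).resolve_left hyw)⟩
        rw [show swapsIn (cls z) a b = K from Finset.Subset.antisymm (fun y hy =>
          (Finset.mem_insert.1 (hset hy)).resolve_left fun h => hwcl (h ▸ (mem_swapsIn.1 hy).1)) hKs, hK]
    · have hsub : swapsIn (cls z) a b ⊆ {w} := fun y hy => by
        rcases Finset.mem_insert.1 (hset hy) with h | h
        · exact Finset.mem_singleton.2 h
        · exact absurd (hKall y h (mem_swapsIn.1 hy).1) hKc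
      have ht0w : t0 = w := Finset.mem_singleton.1 (hsub (mem_swapsIn.2 ⟨ht0, ht1, ht2⟩))
      have hwcl : w ∈ cls z := ht0w ▸ ht0
      exact Or.inl ⟨hwcl, Or.inl (Finset.card_eq_one.2 ⟨w, Finset.Subset.antisymm hsub
        (Finset.singleton_subset_iff.2 (mem_swapsIn.2 ⟨hwcl, hwa, hwb⟩))⟩)⟩
  · -- all swappers act as odd permutations
    left
    have hodd : ∀ y hy, sign (P y hy) = -1 := fun y hy => (hsign y hy).trans hpar
    have hcard : ∀ (q : A5.S5 → Prop) [DecidablePred q] (T : Finset G),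
        (∀ y, y ∈ T ↔ ∃ hy : y ∈ swappers G a b, q (P y hy)) →
        T.card = (Finset.univ.filter fun p : A5.S5 => sign p = -1 ∧ q p).card := by
      intro q _ T hT
      refine Finset.card_bij (fun y hy => P y ((hT y).1 hy).choose) (fun y hy => ?_)
        (fun y hy y' hy' h => hinj y ((hT y).1 hy).choose y' ((hT y').1 hy').choose h) (fun p hp => ?_)
      · exact Finset.mem_filter.2 ⟨Finset.mem_univ _, hodd y ((hT y).1 hy).choose, ((hT y).1 hy).choose_spec⟩
      · obtain ⟨-, hp1, hp2⟩ := Finset.mem_filter.1 hp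
        obtain ⟨y, hy, hy'⟩ := hsur p (hp1.trans hpar.symm)
        exact ⟨y, (hT y).2 ⟨hy, hy'.symm ▸ hp2⟩, hy'⟩
    have hcls : ∀ y ∈ swappers G a b, y * y = 1 → y ∈ cls z := by
      intro y hy hy2
      obtain ⟨g, hg⟩ := A5.odd_invol_conj (P t0 hs0) (P y hy)
        ((hsq1 t0 hs0).1 (cls_sq H d ht0)) (hodd t0 hs0) ((hsq1 y hy).1 hy2) (hodd y hy)
      set k := e.symm g with hk
      have hk' : (k : G) * t0 * (k : G)⁻¹ ∈ swappers G a b := by
        obtain ⟨h1, h2⟩ := mem_two.1 k.2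
        exact mem_swappers.2 ⟨by rw [mul_smul, mul_smul, inv_smul_eq_iff.2 h1.symm, ht1, h2],
          by rw [mul_smul, mul_smul, inv_smul_eq_iff.2 h2.symm, ht2, h1]⟩
      have : y = (k : G) * t0 * (k : G)⁻¹ := by
        refine hinj y hy _ hk' ?_
        show P y hy = psi e (⟨k, Subgroup.le_normalizer k.2⟩ * ⟨t0, hN t0 hs0⟩ *
          (⟨k, Subgroup.le_normalizer k.2⟩ : ↥N)⁻¹)
        rw [map_mul, map_mul, map_inv, psi_two, hk, e.apply_symm_apply]
        exact hg.symm
      exact this ▸ cls_conj ht0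
    refine ⟨?_, hcls, ?_, ?_, ?_⟩
    · rw [hcard (fun p => p * p = 1) _ fun y => ?_, A5.card_odd_invol]
      rw [mem_swapsIn]
      exact ⟨fun ⟨h1, h2⟩ => ⟨mem_swappers.2 h2, (hsq1 y (mem_swappers.2 h2)).1 (cls_sq H d h1)⟩,
        fun ⟨hy, h⟩ => ⟨hcls y hy ((hsq1 y hy).2 h), mem_swappers.1 hy⟩⟩
    · intro T hT
      refine (Finset.card_le_card (t := (swappers G a b).filter fun t => t * t = 1 ∧ t * z = z * t)
        fun t ht => Finset.mem_filter.2 ⟨(hT t ht).1, (hT t ht).2⟩).trans (le_of_eq ?_)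
      rw [hcard (fun p => p * p = 1 ∧ p * (e ez : A5.S5) = (e ez : A5.S5) * p) _ fun y => ?_,
        A5.card_odd_invol_commute _ hez1 hez0]
      rw [Finset.mem_filter]
      exact ⟨fun ⟨h, h1, h2⟩ => ⟨h, (hsq1 y h).1 h1, (hcz y h ez).1 h2⟩,
        fun ⟨hy, h1, h2⟩ => ⟨hy, (hsq1 y hy).2 h1, (hcz y hy ez).2 h2⟩⟩
    · intro T hT
      rw [hcard (fun p => p * p = (e ez : A5.S5)) _ fun y => ?_, A5.card_odd_root _ hez1 hez0]
      rw [hT y]
      exact ⟨fun ⟨h, h1⟩ => ⟨h, (hsq y h ez).1 h1⟩, fun ⟨hy, h1⟩ => ⟨hy, (hsq y hy ez).2 h1⟩⟩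
    · intro y hy hc
      obtain ⟨v, hv, hv1, hvz⟩ := H.exists_other d
      have hv2 := (Subgroup.mem_inf.1 hv).2
      refine A5.no_odd_commute_four (e ez) (e ⟨v, hv2⟩) hez1 hez0 ?_ ?_ ?_ ?_ (P y hy) (hodd y hy)
        ((hcz y hy ez).1 (Subgroup.mem_centralizer_iff.1 hc z (z_mem_four d)).symm)
        ((hcz y hy ⟨v, hv2⟩).1 (Subgroup.mem_centralizer_iff.1 hc v hv).symm)
      · rw [← map_mul, ← map_one e]; exact congrArg e (Subtype.ext (H.four_sq d hv))
      · exact fun h => hv1 (congrArg Subtype.val (e.injective (h.trans (map_one e).symm)))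
      · exact fun h => hvz (congrArg Subtype.val (e.injective h)).symm
      · rw [← map_mul, ← map_mul]
        exact congrArg e (Subtype.ext (mem_four.1 hv).1.symm)

end Hyp

end Cfsg.Agent.TwoTransFour
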